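import Mathlib

/-!
Invariant subspaces of a semisimple endomorphism whose simple pieces outside one eigenspace all
have the same dimension `d`: an invariant subspace has a type `(a, k)` with `a` the dimension of
its part in the eigenspace and `k` the number of pieces, and every admissible type occurs with an
invariant complement of the complementary type.
-/

namespace Cfsg.Agent.Lib.Elusive

open Module

variable {F V : Type*} [Field F] [AddCommGroup V] [Module F V]

/-- `W` is mapped into itself by `f`. -/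
def Inv (f : Module.End F V) (W : Submodule F V) : Prop := W.map f ≤ W

variable {f : Module.End F V} {μ : F} {d : ℕ} {W W' X Y A : Submodule F V}

theorem Inv.mem (hW : Inv f W) {x : V} (hx : x ∈ W) : f x ∈ W := hW ⟨x, hx, rfl⟩

theorem Inv.of_mem (h : ∀ x ∈ W, f x ∈ W) : Inv f W := by
  rintro _ ⟨x, hx, rfl⟩
  exact h x hx

theorem Inv.sup (h : Inv f W) (h' : Inv f W') : Inv f (W ⊔ W') := by
  rw [Inv, Submodule.map_sup]
  exact sup_le_sup h h'

theorem Inv.inf (h : Inv f W) (h' : Inv f W') : Inv f (W ⊓ W') :=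
  Inv.of_mem fun _ hx => ⟨h.mem hx.1, h'.mem hx.2⟩

theorem Inv.bot (f : Module.End F V) : Inv f ⊥ := by simp [Inv]

theorem Inv.top (f : Module.End F V) : Inv f ⊤ := le_top

theorem Inv.of_le_eigenspace (h : A ≤ End.eigenspace f μ) : Inv f A := Inv.of_mem fun x hx => by
  rw [End.mem_eigenspace_iff.mp (h hx)]
  exact A.smul_mem μ hx

theorem Inv.inf_eigenspace (h : Inv f W) : Inv f (W ⊓ End.eigenspace f μ) :=
  Inv.of_le_eigenspace inf_le_right

theorem exists_compl (hs : f.IsSemisimple) (hX : Inv f X) (hW : Inv f W) (hle : W ≤ X) :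
    ∃ W', Inv f W' ∧ W' ≤ X ∧ W ⊓ W' = ⊥ ∧ W ⊔ W' = X := by
  obtain ⟨q, hq, hc⟩ := End.isSemisimple_iff.mp hs W
    ((End.mem_invtSubmodule_iff_map_le f).mpr hW)
  refine ⟨q ⊓ X, Inv.inf ((End.mem_invtSubmodule_iff_map_le f).mp hq) hX, inf_le_right, ?_, ?_⟩
  · rw [← inf_assoc, hc.disjoint.eq_bot, bot_inf_eq]
  · rw [← sup_inf_assoc_of_le q hle, hc.codisjoint.eq_top, top_inf_eq]

/-- An eigenspace splits along a pair of independent invariant subspaces. -/
theorem sup_inf_eigenspace (hW : Inv f W) (hW' : Inv f W') (h : W ⊓ W' = ⊥) :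
    (W ⊔ W') ⊓ End.eigenspace f μ =
      (W ⊓ End.eigenspace f μ) ⊔ (W' ⊓ End.eigenspace f μ) := by
  refine le_antisymm ?_ (sup_le (inf_le_inf_right _ le_sup_left) (inf_le_inf_right _ le_sup_right))
  rintro x ⟨hx, hxE⟩
  obtain ⟨y, hy, y', hy', rfl⟩ := Submodule.mem_sup.mp hx
  have he : f (y + y') = μ • (y + y') := End.mem_eigenspace_iff.mp hxE
  rw [map_add, smul_add] at he
  have hd : f y - μ • y = μ • y' - f y' := by linear_combination (norm := abel) he
  have h0 : f y - μ • y = 0 := by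
    rw [← Submodule.mem_bot (R := F), ← h]
    exact ⟨sub_mem (hW.mem hy) (W.smul_mem μ hy),
      hd ▸ sub_mem (W'.smul_mem μ hy') (hW'.mem hy')⟩
  have h0' : μ • y' - f y' = 0 := hd.symm.trans h0
  exact Submodule.add_mem_sup ⟨hy, End.mem_eigenspace_iff.mpr (sub_eq_zero.mp h0)⟩
    ⟨hy', End.mem_eigenspace_iff.mpr (sub_eq_zero.mp h0').symm⟩

theorem finrank_sup_of_disjoint [FiniteDimensional F V] (h : W ⊓ W' = ⊥) :
    finrank F ↥(W ⊔ W') = finrank F W + finrank F W' := by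
  rw [← Submodule.finrank_sup_add_finrank_inf_eq, h, finrank_bot, add_zero]

theorem finrank_sup_inf_eigenspace [FiniteDimensional F V] (hW : Inv f W) (hW' : Inv f W')
    (h : W ⊓ W' = ⊥) :
    finrank F ↥((W ⊔ W') ⊓ End.eigenspace f μ) =
      finrank F ↥(W ⊓ End.eigenspace f μ) + finrank F ↥(W' ⊓ End.eigenspace f μ) := by
  rw [sup_inf_eigenspace hW hW' h, finrank_sup_of_disjoint]
  exact le_bot_iff.mp (h ▸ inf_le_inf inf_le_left inf_le_left)

/-- All simple invariant subspaces of `f` outside the `μ`-eigenspace have dimension `d`. -/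
structure IsUniform (f : Module.End F V) (μ : F) (d : ℕ) : Prop where
  semisimple : f.IsSemisimple
  pos : 0 < d
  finrank_simple : ∀ W : Submodule F V, Inv f W → W ≠ ⊥ → W ⊓ End.eigenspace f μ = ⊥ →
    (∀ W' : Submodule F V, Inv f W' → W' ≤ W → W' = ⊥ ∨ W' = W) → finrank F W = d

/-- `X` has `a` dimensions of eigenvectors and `k` further pieces of dimension `d`. -/
def HasType (f : Module.End F V) (μ : F) (d : ℕ) (X : Submodule F V) (a k : ℕ) : Prop :=
  Inv f X ∧ finrank F ↥(X ⊓ End.eigenspace f μ) = a ∧ finrank F X = a + k * d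

variable [FiniteDimensional F V]

theorem IsUniform.exists_piece (hu : IsUniform f μ d) (hX : Inv f X)
    (hlt : finrank F ↥(X ⊓ End.eigenspace f μ) < finrank F X) :
    ∃ P, P ≤ X ∧ HasType f μ d P 0 1 := by
  classical
  obtain ⟨Z, hZ, hZX, hdisj, hsup⟩ :=
    exists_compl hu.semisimple hX (hX.inf_eigenspace (μ := μ)) inf_le_left
  have hZne : Z ≠ ⊥ := by
    rintro rfl
    rw [sup_bot_eq] at hsup
    rw [hsup] at hlt
    exact lt_irrefl _ hlt
  let S := {k : ℕ | ∃ P : Submodule F V, Inv f P ∧ P ≤ Z ∧ P ≠ ⊥ ∧ finrank F P = k}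
  have hS : S.Nonempty := ⟨_, Z, hZ, le_rfl, hZne, rfl⟩
  obtain ⟨P, hP, hPZ, hPne, hPd⟩ := Nat.sInf_mem hS
  have hPE : P ⊓ End.eigenspace f μ = ⊥ := by
    refine le_bot_iff.mp (hdisj ▸ ?_)
    exact le_inf (le_inf ((inf_le_left.trans hPZ).trans hZX) inf_le_right) (inf_le_left.trans hPZ)
  have hsimple : ∀ W' : Submodule F V, Inv f W' → W' ≤ P → W' = ⊥ ∨ W' = P := by
    intro W' hW' hle
    by_cases hb : W' = ⊥
    · exact Or.inl hb
    · have := Nat.sInf_le (show finrank F W' ∈ S from ⟨W', hW', hle.trans hPZ, hb, rfl⟩)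
      exact Or.inr (Submodule.eq_of_le_of_finrank_le hle (hPd ▸ this))
  refine ⟨P, hPZ.trans hZX, hP, by rw [hPE, finrank_bot], ?_⟩
  rw [hu.finrank_simple P hP hPne hPE hsimple, zero_add, one_mul]

theorem hasType_compl (_hd : 0 < d) {a k e c : ℕ} (hW : HasType f μ d W a k) (hW' : Inv f W')
    (hdisj : W ⊓ W' = ⊥) (hX : HasType f μ d (W ⊔ W') e c) (hk : k ≤ c) :
    HasType f μ d W' (e - a) (c - k) := by
  obtain ⟨hWi, hWa, hWf⟩ := hW
  obtain ⟨-, hXe, hXf⟩ := hX
  rw [finrank_sup_inf_eigenspace hWi hW' hdisj, hWa] at hXe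
  rw [finrank_sup_of_disjoint hdisj, hWf] at hXf
  refine ⟨hW', by omega, ?_⟩
  have : c * d = k * d + (c - k) * d := by rw [← Nat.add_mul, Nat.add_sub_cancel' hk]
  omega

theorem IsUniform.exists_type (hu : IsUniform f μ d) (hX : Inv f X) :
    ∃ c, HasType f μ d X (finrank F ↥(X ⊓ End.eigenspace f μ)) c := by
  induction hn : finrank F X using Nat.strong_induction_on generalizing X with
  | _ n ih =>
    rcases Nat.lt_or_ge (finrank F ↥(X ⊓ End.eigenspace f μ)) (finrank F X) with hlt | hge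
    · obtain ⟨P, hPX, hP⟩ := hu.exists_piece hX hlt
      obtain ⟨Z, hZ, hZX, hdisj, hsup⟩ := exists_compl hu.semisimple hX hP.1 hPX
      have h1 : finrank F X = finrank F P + finrank F Z := by
        rw [← hsup, finrank_sup_of_disjoint hdisj]
      have h2 := hP.2.2
      have := hu.pos
      obtain ⟨c, -, -, hc⟩ := ih (finrank F Z) (by omega) hZ rfl
      refine ⟨c + 1, hX, rfl, ?_⟩
      have h3 : finrank F ↥(X ⊓ End.eigenspace f μ) =
          finrank F ↥(P ⊓ End.eigenspace f μ) + finrank F ↥(Z ⊓ End.eigenspace f μ) := by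
        rw [← hsup, finrank_sup_inf_eigenspace hP.1 hZ hdisj]
      rw [hP.2.1] at h3
      rw [Nat.add_mul, one_mul]
      omega
    · refine ⟨0, hX, rfl, ?_⟩
      have := Submodule.finrank_mono (inf_le_left : X ⊓ End.eigenspace f μ ≤ X)
      omega

/-- Every admissible type occurs, with a complement of the complementary type. -/
theorem IsUniform.exists_sub (hu : IsUniform f μ d) {e c : ℕ} (hX : HasType f μ d X e c)
    {a k : ℕ} (ha : a ≤ e) (hk : k ≤ c) :
    ∃ W W', W ≤ X ∧ W' ≤ X ∧ W ⊓ W' = ⊥ ∧ W ⊔ W' = X ∧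
      HasType f μ d W a k ∧ HasType f μ d W' (e - a) (c - k) := by
  suffices h : ∃ W, W ≤ X ∧ HasType f μ d W a k by
    obtain ⟨W, hWX, hW⟩ := h
    obtain ⟨W', hW', hW'X, hdisj, hsup⟩ := exists_compl hu.semisimple hX.1 hW.1 hWX
    exact ⟨W, W', hWX, hW'X, hdisj, hsup, hW, hasType_compl hu.pos hW hW' hdisj (hsup.symm ▸ hX) hk⟩
  suffices h : ∃ W Z, W ≤ X ∧ Inv f Z ∧ Z ≤ X ∧ W ⊓ Z = ⊥ ∧ W ⊔ Z = X ∧ HasType f μ d W 0 k by
    obtain ⟨W, Z, hWX, hZ, hZX, hdisj, hsup, hW⟩ := h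
    have hZt := hasType_compl hu.pos hW hZ hdisj (hsup.symm ▸ hX) hk
    rw [Nat.sub_zero] at hZt
    obtain ⟨v, hv⟩ := exists_linearIndependent_of_le_finrank (R := F)
      (M := ↥(Z ⊓ End.eigenspace f μ)) (n := a) (by rw [hZt.2.1]; exact ha)
    let A : Submodule F V :=
      Submodule.span F (Set.range ((Z ⊓ End.eigenspace f μ).subtype ∘ v))
    have hAle : A ≤ Z ⊓ End.eigenspace f μ := Submodule.span_le.mpr (by
      rintro _ ⟨i, rfl⟩
      exact (v i).2)
    have hAd : finrank F A = a := by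
      rw [finrank_span_eq_card (hv.map' _ (Submodule.ker_subtype _)), Fintype.card_fin]
    have hA : Inv f A := Inv.of_le_eigenspace (hAle.trans inf_le_right)
    have hWA : W ⊓ A = ⊥ := le_bot_iff.mp (hdisj ▸ inf_le_inf_left W (hAle.trans inf_le_left))
    refine ⟨W ⊔ A, sup_le hWX ((hAle.trans inf_le_left).trans hZX), hW.1.sup hA, ?_, ?_⟩
    · rw [finrank_sup_inf_eigenspace hW.1 hA hWA, hW.2.1,
        inf_eq_left.mpr (hAle.trans inf_le_right), hAd, zero_add]
    · rw [finrank_sup_of_disjoint hWA, hW.2.2, hAd]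
      omega
  induction k with
  | zero =>
    exact ⟨⊥, X, bot_le, hX.1, le_rfl, bot_inf_eq _, bot_sup_eq _,
      Inv.bot f, by rw [bot_inf_eq, finrank_bot], by simp⟩
  | succ k ih =>
    obtain ⟨W, Z, hWX, hZ, hZX, hdisj, hsup, hW⟩ := ih (by omega)
    have hZt := hasType_compl hu.pos hW hZ hdisj (hsup.symm ▸ hX) (by omega)
    obtain ⟨P, hPZ, hP⟩ := hu.exists_piece hZ (by
      rw [hZt.2.1, hZt.2.2]
      exact Nat.lt_add_of_pos_right (Nat.mul_pos (by omega) hu.pos))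
    have hWP : W ⊓ P = ⊥ := le_bot_iff.mp (hdisj ▸ inf_le_inf_left W hPZ)
    have hWP' : HasType f μ d (W ⊔ P) 0 (k + 1) := by
      refine ⟨hW.1.sup hP.1, ?_, ?_⟩
      · rw [finrank_sup_inf_eigenspace hW.1 hP.1 hWP, hW.2.1, hP.2.1]
      · rw [finrank_sup_of_disjoint hWP, hW.2.2, hP.2.2, Nat.add_mul]
        omega
    obtain ⟨Z', hZ', hZ'X, hdisj', hsup'⟩ :=
      exists_compl hu.semisimple hX.1 hWP'.1 (sup_le hWX (hPZ.trans hZX))
    exact ⟨W ⊔ P, Z', sup_le hWX (hPZ.trans hZX), hZ', hZ'X, hdisj', hsup', hWP'⟩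

/-- The possible dimensions of invariant subspaces. -/
theorem IsUniform.exists_inv_finrank_iff (hu : IsUniform f μ d) {e c : ℕ}
    (hV : HasType f μ d (⊤ : Submodule F V) e c) (m : ℕ) :
    (∃ W, Inv f W ∧ finrank F W = m) ↔ ∃ a k, a ≤ e ∧ k ≤ c ∧ m = a + k * d := by
  constructor
  · rintro ⟨W, hW, rfl⟩
    obtain ⟨k, hk⟩ := hu.exists_type hW
    obtain ⟨Z, hZ, -, hdisj, hsup⟩ := exists_compl hu.semisimple (Inv.top f) hW le_top
    obtain ⟨k', hk'⟩ := hu.exists_type hZ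
    have h1 := hV.2.1
    have h2 := hV.2.2
    rw [← hsup, finrank_sup_inf_eigenspace hW hZ hdisj] at h1
    rw [← hsup, finrank_sup_of_disjoint hdisj, hk.2.2, hk'.2.2, ← h1] at h2
    refine ⟨_, k, by omega, ?_, hk.2.2⟩
    have h3 : (k + k') * d = c * d := by rw [Nat.add_mul]; omega
    have := Nat.eq_of_mul_eq_mul_right hu.pos h3
    omega
  · rintro ⟨a, k, ha, hk, rfl⟩
    obtain ⟨W, -, -, -, -, -, hW, -⟩ := hu.exists_sub hV ha hk
    exact ⟨W, hW.1, hW.2.2⟩

end Cfsg.Agent.Lib.Elusive
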