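import Mathlib
import Cfsg.Agent.Lib.Elusive.Uniform
import Cfsg.Prelude.Def_GeometricClasses

/-!
Decompositions into equidimensional blocks permuted by an endomorphism: splitting a uniform
endomorphism into prescribed types, blocks from spanning families, and necessary conditions.
-/

set_option autoImplicit false

namespace Cfsg.Agent.Lib.Elusive.Decomp

open Module

variable {F V : Type*} [Field F] [AddCommGroup V] [Module F V] [FiniteDimensional F V]
  {f : Module.End F V} {μ : F} {d : ℕ}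

/-- A uniform endomorphism splits into invariant pieces of any prescribed types. -/
theorem exists_parts (hu : IsUniform f μ d) : ∀ (t : ℕ) (a k : Fin t → ℕ) (X : Submodule F V)
    (e c : ℕ), HasType f μ d X e c → ∑ i, a i = e → ∑ i, k i = c →
    ∃ D : Fin t → Submodule F V, (∀ i, HasType f μ d (D i) (a i) (k i)) ∧ ⨆ i, D i = X := by
  intro t
  induction t with
  | zero =>
    intro a k X e c hX ha hk
    refine ⟨fun i => i.elim0, fun i => i.elim0, ?_⟩
    rw [Finset.univ_eq_empty, Finset.sum_empty] at ha hk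
    have h := hX.2.2
    rw [← ha, ← hk, zero_mul, add_zero] at h
    rw [iSup_of_empty, Submodule.finrank_eq_zero.mp h]
  | succ t ih =>
    intro a k X e c hX ha hk
    rw [Fin.sum_univ_succ] at ha hk
    obtain ⟨W, W', -, -, -, hsup, hW, hW'⟩ :=
      hu.exists_sub hX (a := a 0) (k := k 0) (by omega) (by omega)
    obtain ⟨D, hD, hDs⟩ := ih (fun i => a i.succ) (fun i => k i.succ) W' _ _ hW' (by omega) (by omega)
    refine ⟨Fin.cons W D, ?_, ?_⟩
    · intro i
      refine Fin.cases ?_ (fun j => ?_) i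
      · simpa using hW
      · simpa using hD j
    · rw [← hsup, ← hDs]
      refine le_antisymm (iSup_le fun i => ?_) (sup_le ?_ (iSup_le fun j => ?_))
      · refine Fin.cases ?_ (fun j => ?_) i
        · exact le_sup_left
        · exact le_sup_of_le_right (by simpa using le_iSup D j)
      · exact le_iSup_of_le 0 (le_of_eq (by simp))
      · exact le_iSup_of_le j.succ (le_of_eq (by simp))

/-- A spanning family of the right size, cut into blocks permuted by `f`. -/
theorem decomp_of_span {ι : Type} [Fintype ι] [DecidableEq ι] {f : Module.End F (ι → F)}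
    (hf : Function.Injective f) {a t : ℕ} (ht : 2 ≤ t) (ha : 0 < a)
    (hcard : Fintype.card ι = a * t) (v : Fin t × Fin a → (ι → F))
    (hspan : ⊤ ≤ Submodule.span F (Set.range v)) (σ : Equiv.Perm (Fin t))
    (hmap : ∀ j i, f (v (j, i)) ∈ Submodule.span F (Set.range fun k => v (σ j, k))) :
    ∃ D : Fin t → Submodule F (ι → F), Cfsg.Geo.IsMDecomposition a D ∧
      ∃ σ : Equiv.Perm (Fin t), ∀ j, (D j).map f = D (σ j) := by
  classical
  have hli : LinearIndependent F v :=
    linearIndependent_of_top_le_span_of_card_eq_finrank hspan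
      (by rw [finrank_pi, hcard, Fintype.card_prod, Fintype.card_fin, Fintype.card_fin, mul_comm])
  let D : Fin t → Submodule F (ι → F) := fun j => Submodule.span F (Set.range fun k => v (j, k))
  have hfin : ∀ j, finrank F (D j) = a := fun j => by
    show finrank F (Submodule.span F (Set.range (v ∘ Prod.mk j))) = a
    rw [finrank_span_eq_card (hli.comp _ (Prod.mk_right_injective j)), Fintype.card_fin]
  have hD : Cfsg.Geo.IsMDecomposition a D := by
    refine ⟨ht, ha, hfin, ?_, ?_⟩
    · rw [iSupIndep_def]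
      intro j
      have h := hli.disjoint_span_image (s := {y | y.1 = j}) (t := {y | y.1 ≠ j})
        (Set.disjoint_left.mpr fun y h1 h2 => h2 h1)
      refine h.mono (Submodule.span_mono ?_) (iSup₂_le fun k hk => Submodule.span_mono ?_)
      · rintro _ ⟨i, rfl⟩; exact ⟨(j, i), rfl, rfl⟩
      · rintro _ ⟨i, rfl⟩; exact ⟨(k, i), hk, rfl⟩
    · rw [eq_top_iff]
      refine hspan.trans (Submodule.span_le.mpr ?_)
      rintro _ ⟨⟨j, i⟩, rfl⟩
      exact Submodule.mem_iSup_of_mem j (Submodule.subset_span ⟨i, rfl⟩)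
  refine ⟨D, hD, σ, fun j => Submodule.eq_of_le_of_finrank_eq ?_ ?_⟩
  · rw [Submodule.map_span, Submodule.span_le]
    rintro _ ⟨_, ⟨i, rfl⟩, rfl⟩
    exact hmap j i
  · rw [← (Submodule.equivMapOfInjective f hf (D j)).finrank_eq, hfin, hfin]

/-- Blocks from invariant subspaces of dimension `a`. -/
theorem decomp_of_invariant {ι : Type} [Fintype ι] [DecidableEq ι] {f : Module.End F (ι → F)}
    (hf : Function.Injective f) {a t : ℕ} (ht : 2 ≤ t) (ha : 0 < a)
    (hcard : Fintype.card ι = a * t) (D : Fin t → Submodule F (ι → F))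
    (hD : ∀ j, finrank F (D j) = a) (hinv : ∀ j, (D j).map f ≤ D j) (hsup : ⨆ j, D j = ⊤) :
    ∃ D : Fin t → Submodule F (ι → F), Cfsg.Geo.IsMDecomposition a D ∧
      ∃ σ : Equiv.Perm (Fin t), ∀ j, (D j).map f = D (σ j) := by
  let v : Fin t × Fin a → (ι → F) := fun y =>
    (((finBasis F (D y.1)).reindex (finCongr (hD y.1))) y.2 : ι → F)
  have hDv : ∀ j, D j = Submodule.span F (Set.range fun k => v (j, k)) := fun j => by
    have h1 := congrArg (Submodule.map (D j).subtype)
      ((finBasis F (D j)).reindex (finCongr (hD j))).span_eq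
    rw [Submodule.map_top, Submodule.range_subtype, Submodule.map_span, ← Set.range_comp] at h1
    exact h1.symm
  refine decomp_of_span hf ht ha hcard v ?_ 1 fun j i => ?_
  · rw [← hsup]
    refine iSup_le fun j => ?_
    rw [hDv j]
    exact Submodule.span_mono (Set.range_subset_iff.mpr fun k => ⟨(j, k), rfl⟩)
  · show f (v (j, i)) ∈ _
    rw [← hDv]
    exact hinv j ⟨_, ((finBasis F (D j)).reindex (finCongr (hD j)) i).2, rfl⟩

/-- The iterates of a vector up to a scalar power span an invariant subspace. -/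
theorem inv_span_iterates {r : ℕ} (hr : 0 < r) {z : F} (hf : f ^ r = z • 1) (v : V) :
    Inv f (Submodule.span F (Set.range fun i : Fin r => (f ^ (i : ℕ)) v)) := by
  rw [Inv, Submodule.map_span, Submodule.span_le]
  rintro _ ⟨_, ⟨i, rfl⟩, rfl⟩
  rw [SetLike.mem_coe, ← Module.End.mul_apply, ← pow_succ']
  by_cases h : (i : ℕ) + 1 < r
  · exact Submodule.subset_span ⟨⟨_, h⟩, rfl⟩
  · rw [show (i : ℕ) + 1 = r by omega, hf, LinearMap.smul_apply, Module.End.one_apply]
    exact Submodule.smul_mem _ _ (Submodule.subset_span ⟨⟨0, hr⟩, rfl⟩)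

theorem span_iterates_le {r : ℕ} {X : Submodule F V} (hX : Inv f X) {v : V} (hv : v ∈ X) :
    Submodule.span F (Set.range fun i : Fin r => (f ^ (i : ℕ)) v) ≤ X := by
  rw [Submodule.span_le]
  rintro _ ⟨i, rfl⟩
  show (f ^ (i : ℕ)) v ∈ X
  induction (i : ℕ) with
  | zero => simpa using hv
  | succ k ih => rw [pow_succ', Module.End.mul_apply]; exact hX.mem ih

/-- A piece is generated by any of its nonzero vectors. -/
theorem piece_le {P W : Submodule F V} (hu : IsUniform f μ d) (hP : HasType f μ d P 0 1)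
    (hW : Inv f W) {v : V} (hv : v ∈ P) (hv0 : v ≠ 0) (hvW : v ∈ W) : P ≤ W := by
  obtain ⟨k, hk⟩ := hu.exists_type (hP.1.inf hW)
  have hE : P ⊓ W ⊓ End.eigenspace f μ = ⊥ := le_bot_iff.mp
    ((inf_le_inf_right _ inf_le_left).trans (Submodule.finrank_eq_zero.mp hP.2.1).le)
  have h1 := hk.2.2
  rw [hE, finrank_bot, zero_add] at h1
  have hne : finrank F ↥(P ⊓ W) ≠ 0 := fun h => hv0 ((Submodule.mem_bot F).mp
    ((Submodule.finrank_eq_zero.mp h).le ⟨hv, hvW⟩))
  have h2 := hP.2.2
  have h3 := Submodule.finrank_mono (inf_le_left : P ⊓ W ≤ P)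
  have hk1 : 1 ≤ k := Nat.one_le_iff_ne_zero.mpr fun h => hne (by rw [h1, h, zero_mul])
  have h4 := Nat.le_mul_of_pos_left d hk1
  refine inf_eq_left.mp (Submodule.eq_of_le_of_finrank_le inf_le_left ?_)
  omega

/-- A block of type `(0, 1)`, or `(1, 1)`, is cyclic. -/
theorem exists_generator {X : Submodule F V} {ε : ℕ} (hε : ε ≤ 1) (hu : IsUniform f μ d)
    (hX : HasType f μ d X ε 1) {r : ℕ} (hr : 0 < r) {z : F} (hf : f ^ r = z • 1) :
    ∃ v, X ≤ Submodule.span F (Set.range fun i : Fin r => (f ^ (i : ℕ)) v) := by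
  obtain ⟨W, W', hWX, -, hdisj, hsup, hW, hW'⟩ := hu.exists_sub hX (a := 0) (k := 1) (by omega) le_rfl
  have hWne : W ≠ ⊥ := fun h => by
    have := hW.2.2
    rw [h, finrank_bot] at this
    have := hu.pos
    omega
  obtain ⟨p, hp, hp0⟩ := Submodule.exists_mem_ne_zero_of_ne_bot hWne
  rw [Nat.sub_zero, Nat.sub_self] at hW'
  rcases Nat.eq_zero_or_pos ε with rfl | hε0
  · refine ⟨p, ?_⟩
    rw [← hsup, Submodule.finrank_eq_zero.mp (show finrank F W' = 0 by simpa using hW'.2.2), sup_bot_eq]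
    exact piece_le hu hW (inv_span_iterates hr hf p) hp hp0 (Submodule.subset_span ⟨⟨0, hr⟩, by simp⟩)
  · obtain rfl : ε = 1 := by omega
    have hW'E : W' ≤ End.eigenspace f μ := by
      refine inf_eq_left.mp (Submodule.eq_of_le_of_finrank_eq inf_le_left ?_)
      rw [hW'.2.1, hW'.2.2, zero_mul, add_zero]
    have hW'ne : W' ≠ ⊥ := fun h => by
      have := hW'.2.2
      rw [h, finrank_bot] at this
      omega
    obtain ⟨w, hw, hw0⟩ := Submodule.exists_mem_ne_zero_of_ne_bot hW'ne
    refine ⟨p + w, ?_⟩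
    set S := Submodule.span F (Set.range fun i : Fin r => (f ^ (i : ℕ)) (p + w))
    have hS : Inv f S := inv_span_iterates hr hf _
    have hpw : p + w ∈ S := Submodule.subset_span ⟨⟨0, hr⟩, by simp⟩
    have hfp : f p - μ • p ∈ S := by
      have h1 := S.sub_mem (hS.mem hpw) (S.smul_mem μ hpw)
      rwa [map_add, End.mem_eigenspace_iff.mp (hW'E hw), smul_add, add_sub_add_right_eq_sub] at h1
    have hWS : W ≤ S := piece_le hu hW hS (W.sub_mem (hW.1.mem hp) (W.smul_mem _ hp))
      (fun h => hp0 ((Submodule.mem_bot F).mp ((Submodule.finrank_eq_zero.mp hW.2.1).le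
        ⟨hp, End.mem_eigenspace_iff.mpr (sub_eq_zero.mp h)⟩))) hfp
    rw [← hsup]
    refine sup_le hWS ?_
    have hwS : w ∈ S := by simpa using S.sub_mem hpw (hWS hp)
    have hle : Submodule.span F {w} = W' := Submodule.eq_of_le_of_finrank_eq
      (by rwa [Submodule.span_singleton_le_iff_mem])
      (by rw [finrank_span_singleton hw0, hW'.2.2, zero_mul, add_zero])
    rw [← hle, Submodule.span_singleton_le_iff_mem]
    exact hwS

section Necessary

variable {t : ℕ} {D : Fin t → Submodule F V} (hind : iSupIndep D) {σ : Equiv.Perm (Fin t)}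
  (hσ : ∀ j, (D j).map f = D (σ j))

include hσ in
theorem pow_mem (i : ℕ) {j : Fin t} {u : V} (hu : u ∈ D j) : (f ^ i) u ∈ D (σ^[i] j) := by
  induction i with
  | zero => simpa using hu
  | succ i ih =>
    rw [pow_succ', Module.End.mul_apply, Function.iterate_succ_apply', ← hσ]
    exact Submodule.mem_map_of_mem ih

include hind in
theorem eq_zero_of_sum_mem {ι : Type*} (s : Finset ι) (φ : ι → Fin t) (g : ι → V)
    (hg : ∀ i ∈ s, g i ∈ D (φ i)) {i₀ : ι} (hi₀ : i₀ ∈ s) (huniq : ∀ i ∈ s, φ i = φ i₀ → i = i₀)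
    (hsum : ∑ i ∈ s, g i = 0) : g i₀ = 0 := by
  classical
  rw [← Finset.add_sum_erase _ _ hi₀] at hsum
  refine Submodule.disjoint_def.mp (hind (φ i₀)) _ (hg i₀ hi₀) ?_
  rw [eq_neg_of_add_eq_zero_left hsum]
  refine Submodule.neg_mem _ (Submodule.sum_mem _ fun i hi => ?_)
  rw [Finset.mem_erase] at hi
  exact le_iSup₂ (f := fun k (_ : k ≠ φ i₀) => D k) (φ i) (fun h => hi.1 (huniq i hi.2 h)) (hg i hi.2)

variable (f μ) in
/-- The averaging map onto the eigenspace. -/
def avg (r : ℕ) : Module.End F V := ∑ i ∈ Finset.range r, μ⁻¹ ^ i • f ^ i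

theorem avg_apply (r : ℕ) (u : V) : avg f μ r u = ∑ i ∈ Finset.range r, μ⁻¹ ^ i • (f ^ i) u := by
  simp [avg]

theorem avg_mem {r : ℕ} (hμ : μ ≠ 0) (hf : f ^ r = μ ^ r • 1) (u : V) :
    avg f μ r u ∈ End.eigenspace f μ := by
  rw [End.mem_eigenspace_iff, avg_apply, map_sum, Finset.smul_sum]
  have h1 : ∀ i, f (μ⁻¹ ^ i • (f ^ i) u) = μ • (μ⁻¹ ^ (i + 1) • (f ^ (i + 1)) u) := fun i => by
    rw [map_smul, ← Module.End.mul_apply, ← pow_succ', smul_smul, pow_succ' μ⁻¹ i, ← mul_assoc,
      mul_inv_cancel₀ hμ, one_mul]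
  simp only [h1]
  have h2 := (Finset.sum_range_succ' (fun i => μ • (μ⁻¹ ^ i • (f ^ i) u)) r).symm.trans
    (Finset.sum_range_succ (fun i => μ • (μ⁻¹ ^ i • (f ^ i) u)) r)
  have h3 : μ⁻¹ ^ r • (f ^ r) u = μ⁻¹ ^ 0 • (f ^ 0) u := by
    rw [hf, LinearMap.smul_apply, Module.End.one_apply, smul_smul, ← mul_pow,
      inv_mul_cancel₀ hμ, one_pow, one_smul, pow_zero, pow_zero, Module.End.one_apply, one_smul]
  rw [h3] at h2
  exact add_right_cancel h2

end Necessary

end Cfsg.Agent.Lib.Elusive.Decomp
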