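import Mathlib
import Cfsg.Agent.Lib.Elusive.Uniform
import Cfsg.Agent.Lib.Singer.Primitive

/-!
Endomorphisms with scalar `r`-th power, `r` prime to the characteristic: their simple pieces,
determinants, and existence of such endomorphisms.
-/

namespace Cfsg.Agent.Lib.Elusive

open Module Polynomial

variable {F V : Type*} [Field F] [Fintype F] [AddCommGroup V] [Module F V] [FiniteDimensional F V]
variable {f : Module.End F V} {z μ : F} {r : ℕ}

omit [Fintype F] [FiniteDimensional F V] in
theorem isSemisimple_of_pow_eq (hrF : (r : F) ≠ 0) (hz : z ≠ 0) (hf : f ^ r = z • 1) :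
    f.IsSemisimple :=
  End.isSemisimple_of_squarefree_aeval_eq_zero (p := X ^ r - C z)
    (separable_X_pow_sub_C z hrF hz).squarefree
    (by simp [hf, Algebra.algebraMap_eq_smul_one])

theorem card_cast_ne_zero [Fact r.Prime] (hrF : (r : F) ≠ 0) : (Fintype.card F : ZMod r) ≠ 0 := by
  intro h
  obtain ⟨p, hp⟩ := CharP.exists F
  obtain ⟨k, hpp, hk⟩ := FiniteField.card F p
  rw [ZMod.natCast_eq_zero_iff, hk] at h
  have := (Nat.prime_dvd_prime_iff_eq Fact.out hpp).mp ((Fact.out : r.Prime).dvd_of_dvd_pow h)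
  subst this
  exact hrF (CharP.cast_eq_zero F r)

theorem orderOf_card_pos [Fact r.Prime] (hrF : (r : F) ≠ 0) :
    0 < orderOf (Fintype.card F : ZMod r) :=
  orderOf_pos_iff.mpr (isOfFinOrder_iff_pow_eq_one.mpr
    ⟨r - 1, Nat.sub_pos_of_lt (Fact.out : r.Prime).one_lt,
      ZMod.pow_card_sub_one_eq_one (card_cast_ne_zero hrF)⟩)

omit [Fintype F] [FiniteDimensional F V] in
theorem restrict_pow_apply {W : Submodule F V} (hW : ∀ x ∈ W, f x ∈ W) (k : ℕ) (x : W) :
    (((f.restrict hW : Module.End F W) ^ k) x : V) = (f ^ k) (x : V) := by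
  induction k with
  | zero => rfl
  | succ k ih => rw [pow_succ', pow_succ', Module.End.mul_apply, Module.End.mul_apply, ← ih]; rfl

/-- An irreducible minimal polynomial of an element of order dividing `r` has degree at most
`ord_r q`. -/
theorem natDegree_minpoly_le [hr : Fact r.Prime] (hrF : (r : F) ≠ 0) {A : Type*} [Ring A]
    [Algebra F A] {g : A} (hg : g ^ r = 1) (hint : IsIntegral F g)
    (hirr : Irreducible (minpoly F g)) :
    (minpoly F g).natDegree ≤ orderOf (Fintype.card F : ZMod r) := by
  classical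
  set i := orderOf (Fintype.card F : ZMod r) with hi
  haveI : Fact (Irreducible (minpoly F g)) := ⟨hirr⟩
  let pb := AdjoinRoot.powerBasis (minpoly.monic hint).ne_zero
  haveI : Module.Finite F (AdjoinRoot (minpoly F g)) := pb.finite
  haveI : Finite (AdjoinRoot (minpoly F g)) := Module.finite_of_finite F
  haveI : Fintype (AdjoinRoot (minpoly F g)) := Fintype.ofFinite _
  have hroot : AdjoinRoot.root (minpoly F g) ^ r = 1 := by
    have hdvd : minpoly F g ∣ X ^ r - 1 := minpoly.dvd F g (by simp [hg])
    rw [← AdjoinRoot.mk_eq_zero] at hdvd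
    simpa [sub_eq_zero] using hdvd
  have hqi : Fintype.card F ^ i % r = 1 := by
    have h1 : ((Fintype.card F ^ i : ℕ) : ZMod r) = ((1 : ℕ) : ZMod r) := by
      rw [Nat.cast_pow, hi, pow_orderOf_eq_one, Nat.cast_one]
    rw [ZMod.natCast_eq_natCast_iff'] at h1
    rw [h1, Nat.one_mod_eq_one.mpr hr.out.ne_one]
  have hfrob : (FiniteField.frobeniusAlgHom F (AdjoinRoot (minpoly F g))) ^ i =
      AlgHom.id F (AdjoinRoot (minpoly F g)) := by
    refine AdjoinRoot.algHom_ext ?_
    rw [AlgHom.coe_pow, FiniteField.coe_frobeniusAlgHom, pow_iterate]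
    show AdjoinRoot.root (minpoly F g) ^ (Fintype.card F ^ i) = _
    conv_lhs => rw [← Nat.mod_add_div (Fintype.card F ^ i) r, hqi, pow_add, pow_mul, hroot,
      one_pow, mul_one, pow_one]
    rfl
  have hfix : ∀ a : AdjoinRoot (minpoly F g), a ^ (Fintype.card F ^ i) = a := by
    intro a
    have h := DFunLike.congr_fun hfrob a
    rwa [AlgHom.coe_pow, FiniteField.coe_frobeniusAlgHom, pow_iterate] at h
  have hq1 : 1 < Fintype.card F ^ i :=
    Nat.one_lt_pow (orderOf_card_pos hrF).ne' Fintype.one_lt_card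
  have hne := FiniteField.X_pow_card_sub_X_ne_zero (AdjoinRoot (minpoly F g)) hq1
  have hle := card_le_degree_of_subset_roots (p := X ^ (Fintype.card F ^ i) - X)
    (Z := (Finset.univ : Finset (AdjoinRoot (minpoly F g)))) (fun a _ => by
      rw [mem_roots hne]; simp [hfix a])
  rw [FiniteField.X_pow_card_sub_X_natDegree_eq _ hq1, Finset.card_univ,
    Module.card_eq_pow_finrank (K := F), pb.finrank, AdjoinRoot.powerBasis_dim] at hle
  exact (Nat.pow_le_pow_iff_right Fintype.one_lt_card).mp hle

/-- If `f^r = μ^r` then the pieces outside the `μ`-eigenspace have dimension `ord_r q`. -/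
theorem isUniform_split [hr : Fact r.Prime] (hrF : (r : F) ≠ 0) (hμ : μ ≠ 0)
    (hf : f ^ r = μ ^ r • 1) :
    IsUniform f μ (orderOf (Fintype.card F : ZMod r)) := by
  classical
  set i := orderOf (Fintype.card F : ZMod r) with hi
  refine ⟨isSemisimple_of_pow_eq hrF (pow_ne_zero r hμ) hf, orderOf_card_pos hrF, ?_⟩
  intro W hW hWne hWE hsimple
  let g : Module.End F W := μ⁻¹ • f.restrict (fun x hx => hW.mem hx)
  have hg : g ^ r = 1 := by
    refine LinearMap.ext fun x => Subtype.ext ?_
    rw [_root_.smul_pow, LinearMap.smul_apply, Submodule.coe_smul, restrict_pow_apply, hf]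
    simp [hμ]
  have hker : ∀ x : W, g x = x → x = 0 := by
    intro x hx
    have h2 := congrArg Subtype.val hx
    simp only [g, LinearMap.smul_apply, Submodule.coe_smul] at h2
    have hmem : (x : V) ∈ W ⊓ End.eigenspace f μ := by
      refine ⟨x.2, End.mem_eigenspace_iff.mpr ?_⟩
      have h3 := congrArg (fun y => μ • y) h2
      simpa [smul_smul, hμ] using h3
    rw [hWE, Submodule.mem_bot] at hmem
    exact Subtype.ext hmem
  haveI : Nontrivial W := Submodule.nontrivial_iff_ne_bot.mpr hWne
  have hg1 : g ≠ 1 := by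
    intro h
    obtain ⟨x, hx⟩ := exists_ne (0 : W)
    exact hx (hker x (by rw [h]; rfl))
  have hge : i ≤ finrank F W := by
    by_contra hlt
    exact hg1 (Singer.eq_one_of_pow_eq_one hr.out hi.symm (not_le.mp hlt) g hg)
  refine le_antisymm ?_ hge
  -- the minimal polynomial of `g` is irreducible, so `dim W` is its degree, at most `i`
  haveI : Nontrivial (Module.End F W) := ⟨⟨g, 1, hg1⟩⟩
  have hint : IsIntegral F g := IsIntegral.of_finite F g
  have hgW : ∀ x : W, f (x : V) = μ • (g x : V) := by
    intro x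
    simp [g, smul_smul, hμ]
  have sub_trivial : ∀ K : Submodule F W, (∀ x ∈ K, g x ∈ K) → K = ⊥ ∨ K = ⊤ := by
    intro K hK
    have hinvK : Inv f (K.map W.subtype) := Inv.of_mem (by
      rintro _ ⟨x, hx, rfl⟩
      exact ⟨μ • g x, K.smul_mem μ (hK x hx), by rw [map_smul]; exact (hgW x).symm⟩)
    rcases hsimple _ hinvK (Submodule.map_subtype_le _ _) with h | h
    · exact Or.inl (Submodule.map_injective_of_injective W.injective_subtype
        (h.trans (Submodule.map_bot _).symm))
    · refine Or.inr (eq_top_iff.mpr fun x _ => ?_)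
      obtain ⟨y, hy, hyx⟩ := h.symm.le x.2
      rwa [← Subtype.ext hyx]
  set P := minpoly F g with hP
  have hPm : P.Monic := minpoly.monic hint
  have hirr : Irreducible P := by
    refine ⟨minpoly.not_isUnit F g, fun A B hAB => ?_⟩
    have hA0 : A ≠ 0 := by
      rintro rfl
      exact hPm.ne_zero (by simpa using hAB)
    have hB0 : B ≠ 0 := by
      rintro rfl
      exact hPm.ne_zero (by simpa using hAB)
    have key : ∀ A B : F[X], A ≠ 0 → B ≠ 0 → P = A * B → aeval g A = 0 → IsUnit B := by
      intro A B hA hB hPAB h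
      have hle := natDegree_le_of_dvd (minpoly.dvd F g h) hA
      rw [← hP, hPAB, natDegree_mul hA hB] at hle
      exact isUnit_iff_degree_eq_zero.mpr (by rw [degree_eq_natDegree hB, Nat.cast_eq_zero]; omega)
    have hcomm : Commute g (aeval g A) := by
      simpa using (Commute.all (X : F[X]) A).map (aeval g)
    rcases sub_trivial (LinearMap.ker (aeval g A)) (fun x hx => by
      rw [LinearMap.mem_ker] at hx ⊢
      rw [← Module.End.mul_apply, ← hcomm.eq, Module.End.mul_apply, hx, map_zero]) with h | h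
    · refine Or.inl (key B A hB0 hA0 (hAB.trans (mul_comm A B)) (LinearMap.ext fun x => ?_))
      refine (Submodule.mem_bot F).mp (h ▸ LinearMap.mem_ker.mpr ?_)
      rw [← Module.End.mul_apply, ← map_mul, ← hAB, minpoly.aeval]
      rfl
    · exact Or.inr (key A B hA0 hB0 hAB (LinearMap.ker_eq_top.mp h))
  refine le_trans ?_ (natDegree_minpoly_le hrF hg hint hirr)
  obtain ⟨v, hv⟩ := exists_ne (0 : W)
  let S : Submodule F W := Submodule.span F (Set.range fun k : Fin P.natDegree => (g ^ (k : ℕ)) v)
  have hmem : ∀ Q : F[X], aeval g Q v ∈ S := by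
    intro Q
    rw [← modByMonic_add_div Q P, map_add, map_mul, minpoly.aeval, zero_mul, add_zero,
      aeval_eq_sum_range' (natDegree_modByMonic_lt Q hPm hirr.ne_one), LinearMap.sum_apply]
    exact Submodule.sum_mem _ fun k hk => by
      rw [LinearMap.smul_apply]
      exact S.smul_mem _ (Submodule.subset_span ⟨⟨k, Finset.mem_range.mp hk⟩, rfl⟩)
  have hS : S = ⊤ := by
    refine (sub_trivial S ?_).resolve_left fun h => hv ((Submodule.mem_bot F).mp (h ▸ ?_))
    · intro x hx
      have hle : S ≤ S.comap g := Submodule.span_le.mpr (by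
        rintro _ ⟨k, rfl⟩
        show g ((g ^ (k : ℕ)) v) ∈ S
        rw [← Module.End.mul_apply, ← pow_succ']
        simpa using hmem (X ^ ((k : ℕ) + 1)))
      exact hle hx
    · simpa using hmem 1
  rw [← finrank_top, ← hS]
  exact (finrank_range_le_card (R := F) fun k : Fin P.natDegree => (g ^ (k : ℕ)) v).trans
    (by rw [Fintype.card_fin])

omit [Fintype F] in
/-- If `f^r = z` with `z` not an `r`-th power then `dim V` is a multiple of `r` and the
determinant is a power of the norm of a root. -/
theorem nonsplit_det [hr : Fact r.Prime] (hz : ∀ c : F, c ^ r ≠ z) (hf : f ^ r = z • 1) :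
    ∃ s, finrank F V = r * s ∧ LinearMap.det f = ((-1 : F) ^ (r + 1) * z) ^ s := by
  haveI hirr : Fact (Irreducible (X ^ r - C z : F[X])) :=
    ⟨X_pow_sub_C_irreducible_of_prime hr.out hz⟩
  have hmon : (X ^ r - C z : F[X]).Monic := monic_X_pow_sub_C z hr.out.ne_zero
  let K := AdjoinRoot (X ^ r - C z : F[X])
  let φ : K →ₐ[F] Module.End F V :=
    Ideal.Quotient.liftₐ (Ideal.span {X ^ r - C z}) (aeval f) (by
      intro Q hQ
      obtain ⟨u, rfl⟩ := Ideal.mem_span_singleton.mp hQ
      simp [hf, Algebra.algebraMap_eq_smul_one])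
  letI : Module K V := Module.compHom V φ.toRingHom
  haveI : IsScalarTower F K V := ⟨fun c k v => by
    show φ (c • k) v = c • φ k v
    rw [map_smul, LinearMap.smul_apply]⟩
  haveI : Module.Finite F K := hmon.finite_adjoinRoot
  haveI : Module.Finite K V := Module.Finite.of_restrictScalars_finite F K V
  let pb := AdjoinRoot.powerBasis hmon.ne_zero
  have hK : finrank F K = r := by
    rw [pb.finrank, AdjoinRoot.powerBasis_dim, natDegree_X_pow_sub_C]
  refine ⟨finrank K V, ((congrArg (· * finrank K V) hK).symm.trans (Module.finrank_mul_finrank F K V)).symm, ?_⟩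
  have hfr : f = ((AdjoinRoot.root (X ^ r - C z : F[X]) : K) • (LinearMap.id : V →ₗ[K] V)).restrictScalars F := by
    refine LinearMap.ext fun v => ?_
    show f v = φ (AdjoinRoot.root _) v
    show f v = aeval f (X : F[X]) v
    rw [aeval_X]
  rw [hfr, LinearMap.det_restrictScalars, LinearMap.det_smul, LinearMap.det_id, mul_one, map_pow]
  congr 1
  have hgen : (AdjoinRoot.root (X ^ r - C z : F[X]) : K) = pb.gen := rfl
  rw [hgen, Algebra.PowerBasis.norm_gen_eq_coeff_zero_minpoly, AdjoinRoot.minpoly_powerBasis_gen_of_monic hmon,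
    AdjoinRoot.powerBasis_dim, natDegree_X_pow_sub_C]
  simp [coeff_X_pow, hr.out.ne_zero.symm, pow_succ]

omit [Fintype F] in
/-- If `f^r = z` with `z` not an `r`-th power then all simple pieces have dimension `r`. -/
theorem isUniform_nonsplit [hr : Fact r.Prime] (hrF : (r : F) ≠ 0) (hz0 : z ≠ 0)
    (hz : ∀ c : F, c ^ r ≠ z) (hf : f ^ r = z • 1) :
    IsUniform f 0 r ∧ End.eigenspace f 0 = ⊥ := by
  classical
  have hE : End.eigenspace f 0 = ⊥ := by
    rw [Submodule.eq_bot_iff]
    intro x hx
    rw [End.mem_eigenspace_iff, zero_smul] at hx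
    have h1 := LinearMap.congr_fun hf x
    obtain ⟨j, hj⟩ : ∃ j, r = j + 1 := ⟨r - 1, (Nat.succ_pred hr.out.ne_zero).symm⟩
    rw [hj, pow_succ, Module.End.mul_apply, hx, map_zero] at h1
    simpa [hz0] using h1.symm
  refine ⟨⟨isSemisimple_of_pow_eq hrF hz0 hf, hr.out.pos, ?_⟩, hE⟩
  intro W hW hWne _ hsimple
  obtain ⟨v, hvW, hv⟩ := Submodule.exists_mem_ne_zero_of_ne_bot hWne
  let g : Module.End F W := f.restrict (fun x hx => hW.mem hx)
  have hg : g ^ r = z • 1 := by
    refine LinearMap.ext fun x => Subtype.ext ?_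
    rw [restrict_pow_apply, hf]
    rfl
  obtain ⟨s, hs, -⟩ := nonsplit_det hz hg
  have hle : finrank F W ≤ r := by
    let S : Submodule F V := Submodule.span F (Set.range fun k : Fin r => (f ^ (k : ℕ)) v)
    have hSinv : Inv f S := by
      rw [Inv, Submodule.map_span, Submodule.span_le]
      rintro _ ⟨_, ⟨k, rfl⟩, rfl⟩
      rw [← Module.End.mul_apply, ← pow_succ']
      rcases Nat.lt_or_ge ((k : ℕ) + 1) r with h | h
      · exact Submodule.subset_span ⟨⟨_, h⟩, rfl⟩
      · rw [show (k : ℕ) + 1 = r by omega, hf]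
        exact Submodule.smul_mem _ _ (Submodule.subset_span ⟨⟨0, hr.out.pos⟩, by simp⟩)
    have hSW : S ≤ W := by
      rw [Submodule.span_le]
      rintro _ ⟨k, rfl⟩
      show (f ^ (k : ℕ)) ((⟨v, hvW⟩ : W) : V) ∈ W
      rw [← restrict_pow_apply (fun x hx => hW.mem hx) (k : ℕ) ⟨v, hvW⟩]
      exact Subtype.prop _
    rcases hsimple S hSinv hSW with h | h
    · exfalso
      have hmem : v ∈ S := Submodule.subset_span ⟨⟨0, hr.out.pos⟩, by simp⟩
      rw [h, Submodule.mem_bot] at hmem
      exact hv hmem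
    · rw [← h]
      exact (finrank_range_le_card (R := F) fun k : Fin r => (f ^ (k : ℕ)) v).trans
        (by rw [Fintype.card_fin])
  have hpos : 0 < finrank F W := Nat.pos_of_ne_zero fun h0 => hWne (Submodule.finrank_eq_zero.mp h0)
  rcases s with _ | _ | s
  · rw [Nat.mul_zero] at hs; omega
  · simp at hs; exact hs
  · have h2 := Nat.mul_le_mul_left r (show 2 ≤ s + 1 + 1 by omega)
    have := hr.out.pos
    omega

/-- Existence: `s` pieces of dimension `i = ord_r q` next to `e` fixed dimensions. -/
theorem exists_split [hr : Fact r.Prime] (hrF : (r : F) ≠ 0) (e s : ℕ)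
    (hV : finrank F V = e + s * orderOf (Fintype.card F : ZMod r)) :
    ∃ g : Module.End F V, g ^ r = 1 ∧ finrank F (End.eigenspace g (1 : F)) = e := by
  classical
  set i := orderOf (Fintype.card F : ZMod r) with hi
  obtain ⟨p, hp⟩ := CharP.exists F
  haveI : Fact p.Prime := ⟨CharP.char_is_prime F p⟩
  haveI : NeZero i := ⟨(orderOf_card_pos hrF).ne'⟩
  let K := FiniteField.Extension F p i
  haveI : Fintype K := Fintype.ofFinite K
  have hK : finrank F K = i := FiniteField.finrank_extension F p i
  have hdvd : r ∣ Nat.card Kˣ := by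
    rw [Nat.card_units, Module.natCard_eq_pow_finrank (K := F), hK, Nat.card_eq_fintype_card,
      ← ZMod.natCast_eq_zero_iff, Nat.cast_sub (Nat.one_le_pow _ _ Fintype.card_pos), Nat.cast_pow,
      Nat.cast_one, hi, pow_orderOf_eq_one, sub_self]
  obtain ⟨ζ, hζ⟩ := exists_prime_orderOf_dvd_card' r hdvd
  let W := (Fin e → F) × (Fin s → K)
  have hW : finrank F W = finrank F V := by
    rw [hV, Module.finrank_prod, Module.finrank_pi, Module.finrank_pi_fintype, Fintype.card_fin,
      Finset.sum_const, Finset.card_univ, Fintype.card_fin, hK, smul_eq_mul]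
  let ε : W ≃ₗ[F] V := LinearEquiv.ofFinrankEq W V hW
  let g₀ : Module.End F W :=
    LinearMap.prodMap LinearMap.id (((ζ : K) • (LinearMap.id : (Fin s → K) →ₗ[K] _)).restrictScalars F)
  have hg₀pow : ∀ (k : ℕ) (w : W), (g₀ ^ k) w = (w.1, (ζ : K) ^ k • w.2) := by
    intro k
    induction k with
    | zero => intro w; simp
    | succ k ih =>
      intro w
      rw [pow_succ', Module.End.mul_apply, ih]
      refine Prod.ext rfl ?_
      show (ζ : K) • ((ζ : K) ^ k • w.2) = _
      rw [pow_succ', mul_smul]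
  refine ⟨ε.conjAlgEquiv F g₀, ?_, ?_⟩
  · rw [← map_pow, show g₀ ^ r = 1 from LinearMap.ext fun w => by
      rw [hg₀pow, ← Units.val_pow_eq_pow_val, ← hζ, pow_orderOf_eq_one, Units.val_one, one_smul]
      rfl, map_one]
  · have hker : End.eigenspace (ε.conjAlgEquiv F g₀) (1 : F) =
        ((LinearMap.inl F (Fin e → F) (Fin s → K)).range).map ε.toLinearMap := by
      ext v
      obtain ⟨w, rfl⟩ := ε.surjective v
      rw [End.mem_eigenspace_iff, one_smul]
      constructor
      · intro h
        have h' : g₀ w = w := ε.injective (by simpa [LinearEquiv.conjAlgEquiv_apply] using h)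
        have h2 : (ζ : K) • w.2 = w.2 := (Prod.ext_iff.mp h').2
        have hw2 : w.2 = 0 := by
          by_contra hne
          have hζ1 : (ζ : K) = 1 := by
            have h3 : ((ζ : K) - 1) • w.2 = 0 := by rw [sub_smul, one_smul, h2, sub_self]
            exact sub_eq_zero.mp ((smul_eq_zero.mp h3).resolve_right hne)
          rw [Units.val_eq_one.mp hζ1, orderOf_one] at hζ
          exact hr.out.ne_one hζ.symm
        exact ⟨w, ⟨w.1, Prod.ext rfl hw2.symm⟩, rfl⟩
      · rintro ⟨_, ⟨a, rfl⟩, h⟩
        rw [← h]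
        simp only [LinearEquiv.conjAlgEquiv_apply, LinearEquiv.coe_coe, LinearMap.comp_apply,
          LinearEquiv.symm_apply_apply]
        exact congrArg ε (Prod.ext rfl (smul_zero (ζ : K)))
    rw [hker, LinearEquiv.finrank_map_eq, LinearMap.finrank_range_of_inj LinearMap.inl_injective,
      Module.finrank_pi, Fintype.card_fin]

omit [Fintype F] in
/-- Existence of `g` with `g^r = z`, `z` not an `r`-th power. -/
theorem exists_nonsplit [hr : Fact r.Prime] (hz : ∀ c : F, c ^ r ≠ z) (s : ℕ)
    (hV : finrank F V = r * s) : ∃ g : Module.End F V, g ^ r = z • 1 := by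
  haveI hirr : Fact (Irreducible (X ^ r - C z : F[X])) :=
    ⟨X_pow_sub_C_irreducible_of_prime hr.out hz⟩
  have hmon : (X ^ r - C z : F[X]).Monic := monic_X_pow_sub_C z hr.out.ne_zero
  let K := AdjoinRoot (X ^ r - C z : F[X])
  haveI : Module.Finite F K := hmon.finite_adjoinRoot
  have hK : finrank F K = r := by
    rw [(AdjoinRoot.powerBasis hmon.ne_zero).finrank, AdjoinRoot.powerBasis_dim,
      natDegree_X_pow_sub_C]
  have hW : finrank F (Fin s → K) = finrank F V := by
    rw [hV, Module.finrank_pi_fintype, Finset.sum_const, Finset.card_univ, Fintype.card_fin, hK,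
      smul_eq_mul, Nat.mul_comm]
  let ε : (Fin s → K) ≃ₗ[F] V := LinearEquiv.ofFinrankEq _ V hW
  refine ⟨ε.conjAlgEquiv F (((AdjoinRoot.root (X ^ r - C z : F[X]) : K) •
    (LinearMap.id : (Fin s → K) →ₗ[K] _)).restrictScalars F), ?_⟩
  rw [← map_pow]
  have hroot : (AdjoinRoot.root (X ^ r - C z : F[X]) : K) ^ r = algebraMap F K z := by
    have h := AdjoinRoot.eval₂_root (X ^ r - C z : F[X])
    rw [AdjoinRoot.algebraMap_eq]
    simpa [sub_eq_zero] using h
  have h1 : ∀ (k : ℕ) (w : Fin s → K),
      ((((AdjoinRoot.root (X ^ r - C z : F[X]) : K) • (LinearMap.id : (Fin s → K) →ₗ[K] _)).restrictScalars F :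
        Module.End F (Fin s → K)) ^ k) w = (AdjoinRoot.root (X ^ r - C z : F[X]) : K) ^ k • w := by
    intro k
    induction k with
    | zero => intro w; simp
    | succ k ih =>
      intro w
      rw [pow_succ', Module.End.mul_apply, ih, pow_succ', mul_smul]
      rfl
  rw [show (((AdjoinRoot.root (X ^ r - C z : F[X]) : K) • (LinearMap.id : (Fin s → K) →ₗ[K] _)).restrictScalars F :
      Module.End F (Fin s → K)) ^ r = z • 1 from LinearMap.ext fun w => by
      rw [h1, hroot, algebraMap_smul]; rfl, map_smul, map_one]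

omit [Fintype F] [FiniteDimensional F V] in
theorem det_pow_eq_one {g : Module.End F V} (hg : g ^ r = 1) : LinearMap.det g ^ r = 1 := by
  rw [← map_pow, hg, map_one]

end Cfsg.Agent.Lib.Elusive
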