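import Mathlib
import Cfsg.Agent.Lib.Elusive.Decomp
import Cfsg.Agent.Lib.Elusive.RootScalar
import Cfsg.Agent.Lib.Symplectic.Std

/-!
Isometries of odd prime order, prime to `q`, of an alternating form: the space is an orthogonal sum
of the fixed space and invariant pieces of dimension `lcm 2 i`, `i` the order of `q` modulo the
prime; elements with every type.
-/

set_option autoImplicit false

namespace Cfsg.Agent.Lib.Elusive.SympPieces

open Module Cfsg.Agent.Lib.Symplectic Polynomial

variable {F : Type*} [Field F]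

/-- The dimension of a symplectic piece. -/
def pieceDim (i : ℕ) : ℕ := if Even i then i else 2 * i

theorem even_pieceDim (i : ℕ) : Even (pieceDim i) := by
  unfold pieceDim
  split
  · assumption
  · exact even_two_mul i

theorem dvd_pieceDim (i : ℕ) : i ∣ pieceDim i := by
  unfold pieceDim
  split
  · exact dvd_rfl
  · exact dvd_mul_left i 2

section Orth

variable {V : Type*} [AddCommGroup V] [Module F V]

/-- The orthogonal of a subspace. -/
def orth (B : V →ₗ[F] V →ₗ[F] F) (W : Submodule F V) : Submodule F V :=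
  ⨅ w : W, LinearMap.ker (B (w : V))

theorem mem_orth {B : V →ₗ[F] V →ₗ[F] F} {W : Submodule F V} {x : V} :
    x ∈ orth B W ↔ ∀ w ∈ W, B w x = 0 := by
  simp [orth, Submodule.mem_iInf]

/-- The form is nondegenerate on a subspace. -/
def Nondeg (B : V →ₗ[F] V →ₗ[F] F) (W : Submodule F V) : Prop :=
  ∀ x ∈ W, (∀ y ∈ W, B x y = 0) → x = 0

variable {B : V →ₗ[F] V →ₗ[F] F} {W X : Submodule F V}

theorem isSympForm_restr (hB : IsSympForm B) (hW : Nondeg B W) : IsSympForm (restr B W) :=
  ⟨fun x => hB.self _, fun x hx => Subtype.ext (hW x x.2 fun y hy => hx ⟨y, hy⟩)⟩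

theorem even_finrank_of_nondeg [FiniteDimensional F V] (hB : IsSympForm B) (hW : Nondeg B W) :
    Even (finrank F W) := even_finrank (isSympForm_restr hB hW)

theorem nondeg_iff_inf_orth (hB : IsSympForm B) : Nondeg B W ↔ W ⊓ orth B W = ⊥ := by
  rw [Submodule.eq_bot_iff]
  constructor
  · rintro h x ⟨hx, hx'⟩
    exact h x hx fun y hy => hB.comm_eq_zero.mp (mem_orth.mp hx' y hy)
  · intro h x hx hxy
    exact h x ⟨hx, mem_orth.mpr fun y hy => hB.comm_eq_zero.mp (hxy y hy)⟩

theorem exists_project [FiniteDimensional F V] (hB : IsSympForm B) (hW : Nondeg B W) (x : V) :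
    ∃ w ∈ W, x - w ∈ orth B W := by
  have hinj : Function.Injective (restr B W) := (injective_iff_map_eq_zero _).mpr fun u hu =>
    (isSympForm_restr hB hW).nondeg u fun y => by rw [hu]; rfl
  obtain ⟨w, hw⟩ := (LinearMap.injective_iff_surjective_of_finrank_eq_finrank
    Subspace.dual_finrank_eq.symm).mp hinj ((B x).comp W.subtype)
  refine ⟨w, w.2, mem_orth.mpr fun y hy => ?_⟩
  have h1 : B (w : V) y = B x y := LinearMap.congr_fun hw ⟨y, hy⟩
  rw [map_sub, hB.swap y x, hB.swap y (w : V), h1, sub_self]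

theorem split [FiniteDimensional F V] (hB : IsSympForm B) (hW : Nondeg B W) (hX : Nondeg B X)
    (hle : W ≤ X) :
    Nondeg B (X ⊓ orth B W) ∧ W ⊔ X ⊓ orth B W = X ∧
      finrank F X = finrank F W + finrank F ↥(X ⊓ orth B W) := by
  have hsup : W ⊔ X ⊓ orth B W = X := by
    refine le_antisymm (sup_le hle inf_le_left) fun x hx => ?_
    obtain ⟨w, hw, hwx⟩ := exists_project hB hW x
    exact Submodule.mem_sup.mpr ⟨w, hw, x - w, ⟨X.sub_mem hx (hle hw), hwx⟩, by abel⟩
  refine ⟨fun y hy h => hX y hy.1 fun z hz => ?_, hsup, ?_⟩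
  · obtain ⟨w, hw, z', hz', rfl⟩ := Submodule.mem_sup.mp (hsup.ge hz)
    rw [map_add, h z' hz', add_zero]
    exact hB.comm_eq_zero.mp (mem_orth.mp hy.2 w hw)
  · conv_lhs => rw [← hsup]
    refine finrank_sup_of_disjoint ?_
    rw [← inf_assoc, inf_eq_left.mpr hle, (nondeg_iff_inf_orth hB).mp hW]

/-- An orthogonal family of nondegenerate subspaces: the supremum is nondegenerate and direct. -/
theorem orth_family [FiniteDimensional F V] (hB : IsSympForm B) {ι : Type*} [Fintype ι]
    (D : ι → Submodule F V) (hD : ∀ j, Nondeg B (D j))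
    (horth : ∀ j k, j ≠ k → ∀ u ∈ D j, ∀ v ∈ D k, B u v = 0) :
    Nondeg B (⨆ j, D j) ∧ iSupIndep D ∧ finrank F ↥(⨆ j, D j) = ∑ j, finrank F (D j) := by
  classical
  have key : ∀ s : Finset ι, Nondeg B (⨆ j ∈ s, D j) ∧
      finrank F ↥(⨆ j ∈ s, D j) = ∑ j ∈ s, finrank F (D j) ∧
      ∀ k, k ∉ s → ∀ u ∈ D k, ∀ v ∈ ⨆ j ∈ s, D j, B u v = 0 := by
    intro s
    have hperp : ∀ k, k ∉ s → ∀ u ∈ D k, ∀ v ∈ ⨆ j ∈ s, D j, B u v = 0 := fun k hk u hu v hv => by
      have hle : (⨆ j ∈ s, D j) ≤ LinearMap.ker (B u) := iSup₂_le fun j hj v' hv' =>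
        horth k j (fun h => hk (h ▸ hj)) u hu v' hv'
      exact hle hv
    refine ⟨?_, ?_, hperp⟩ <;> induction s using Finset.induction_on with
    | empty => first | (intro x hx _; simpa using hx) | simp
    | insert k s hk ih => ?_
    · rw [Finset.iSup_insert]
      have hperp' : ∀ u ∈ D k, ∀ v ∈ ⨆ j ∈ s, D j, B u v = 0 := fun u hu v hv => by
        have hle : (⨆ j ∈ s, D j) ≤ LinearMap.ker (B u) := iSup₂_le fun j hj v' hv' =>
          horth k j (fun h => hk (h ▸ hj)) u hu v' hv'
        exact hle hv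
      have ihn := ih fun k' hk' u hu v hv => by
        have hle : (⨆ j ∈ s, D j) ≤ LinearMap.ker (B u) := iSup₂_le fun j hj v' hv' =>
          horth k' j (fun h => hk' (h ▸ hj)) u hu v' hv'
        exact hle hv
      intro x hx h
      obtain ⟨a, ha, b, hb, rfl⟩ := Submodule.mem_sup.mp hx
      have ha0 : a = 0 := hD k a ha fun y hy => by
        have h1 := h y (Submodule.mem_sup_left hy)
        rwa [map_add, LinearMap.add_apply, hB.comm_eq_zero.mp (hperp' y hy b hb), add_zero] at h1
      have hb0 : b = 0 := ihn b hb fun y hy => by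
        have h1 := h y (Submodule.mem_sup_right hy)
        rwa [ha0, zero_add] at h1
      rw [ha0, hb0, add_zero]
    · rw [Finset.iSup_insert, Finset.sum_insert hk]
      have ihn := ih fun k' hk' u hu v hv => by
        have hle : (⨆ j ∈ s, D j) ≤ LinearMap.ker (B u) := iSup₂_le fun j hj v' hv' =>
          horth k' j (fun h => hk' (h ▸ hj)) u hu v' hv'
        exact hle hv
      rw [← ihn, finrank_sup_of_disjoint]
      rw [Submodule.eq_bot_iff]
      rintro x ⟨hx, hx'⟩
      refine hD k x hx fun y hy => hB.comm_eq_zero.mp ?_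
      have hle : (⨆ j ∈ s, D j) ≤ LinearMap.ker (B y) := iSup₂_le fun j hj v' hv' =>
        horth k j (fun h => hk (h ▸ hj)) y hy v' hv'
      exact hle hx'
  obtain ⟨h1, h2, -⟩ := key Finset.univ
  rw [show (⨆ j ∈ Finset.univ, D j) = ⨆ j, D j by simp] at h1 h2
  refine ⟨h1, ?_, h2⟩
  rw [iSupIndep_def]
  intro j
  rw [Submodule.disjoint_def]
  intro x hx hx'
  refine hD j x hx fun y hy => hB.comm_eq_zero.mp ?_
  have hle : (⨆ (k) (_ : k ≠ j), D k) ≤ LinearMap.ker (B y) := iSup₂_le fun k hk v' hv' =>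
    horth j k hk.symm y hy v' hv'
  exact hle hx'

end Orth

variable [Fintype F]

/-- An isometry with `f ^ r = 1`. -/
structure RootIso {V : Type*} [AddCommGroup V] [Module F V] (B : V →ₗ[F] V →ₗ[F] F)
    (f : Module.End F V) (r : ℕ) : Prop where
  symp : IsSympForm B
  iso : ∀ u v, B (f u) (f v) = B u v
  pow : f ^ r = 1
  two : r ≠ 2
  natCast : (r : F) ≠ 0

section Pieces

variable {V : Type*} [AddCommGroup V] [Module F V]
  {B : V →ₗ[F] V →ₗ[F] F} {f : Module.End F V} {r : ℕ} [hr : Fact r.Prime]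
  {W X : Submodule F V}

omit [Fintype F] in
theorem aeval_restrict_apply {W : Submodule F V} (hW : ∀ x ∈ W, f x ∈ W) (m : F[X]) (x : W) :
    ((aeval (f.restrict hW : Module.End F W) m) x : V) = aeval f m (x : V) := by
  induction m using Polynomial.induction_on' with
  | add p q hp hq => simp [hp, hq]
  | monomial k a => simp [aeval_monomial, restrict_pow_apply hW k x]

omit [Fintype F] in
theorem RootIso.pow_mul (h : RootIso B f r) (k : ℕ) : f ^ k * (f ^ (r - 1)) ^ k = 1 := by
  rw [← _root_.pow_mul, ← pow_add, show k + (r - 1) * k = r * k by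
    conv_rhs => rw [← Nat.sub_add_cancel hr.out.one_le, Nat.add_mul, one_mul, add_comm], _root_.pow_mul, h.pow,
    one_pow]

omit [Fintype F] in
theorem RootIso.iso_pow (h : RootIso B f r) (k : ℕ) (u v : V) : B ((f ^ k) u) ((f ^ k) v) = B u v := by
  induction k with
  | zero => simp
  | succ k ih => rw [pow_succ', Module.End.mul_apply, Module.End.mul_apply, h.iso, ih]

omit [Fintype F] in
theorem RootIso.adjoint (h : RootIso B f r) (m : F[X]) (u v : V) :
    B (aeval (f ^ (r - 1)) m u) v = B u (aeval f m v) := by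
  induction m using Polynomial.induction_on' with
  | add p q hp hq => simp [hp, hq]
  | monomial k a =>
    rw [aeval_monomial, aeval_monomial, Module.End.mul_apply, Module.End.mul_apply,
      Module.algebraMap_end_apply, Module.algebraMap_end_apply, map_smul, LinearMap.smul_apply, map_smul]
    rw [← h.iso_pow k, ← Module.End.mul_apply, h.pow_mul, Module.End.one_apply]

omit [Fintype F] in
theorem RootIso.inv_orth [FiniteDimensional F V] (h : RootIso B f r) (hW : Inv f W) :
    Inv f (orth B W) := by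
  refine Inv.of_mem fun x hx => mem_orth.mpr fun w hw => ?_
  have hmem : ∀ k, (f ^ k) w ∈ W := by
    intro k
    induction k with
    | zero => simpa using hw
    | succ k ih => rw [pow_succ', Module.End.mul_apply]; exact hW.mem ih
  have h1 := h.iso ((f ^ (r - 1)) w) x
  rw [← Module.End.mul_apply, ← pow_succ', Nat.sub_add_cancel hr.out.one_le, h.pow,
    Module.End.one_apply, mem_orth.mp hx _ (hmem _)] at h1
  exact h1

/-- The fixed space is orthogonal to invariant subspaces without fixed vectors. -/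
theorem RootIso.perp_fixed [FiniteDimensional F V] (h : RootIso B f r) (hW : Inv f W)
    (hE : W ⊓ End.eigenspace f (1 : F) = ⊥) :
    ∀ p ∈ W, ∀ v ∈ End.eigenspace f (1 : F), B p v = 0 := by
  intro p hp v hv
  have hinj : Function.Injective ((f - 1).restrict (p := W) (q := W) fun x hx => by
      rw [LinearMap.sub_apply, Module.End.one_apply]
      exact W.sub_mem (hW.mem hx) hx) := by
    rw [injective_iff_map_eq_zero]
    intro x hx
    have hx' : (x : V) ∈ W ⊓ End.eigenspace f (1 : F) := ⟨x.2, End.mem_eigenspace_iff.mpr (by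
      rw [one_smul]; exact eq_of_sub_eq_zero (congrArg Subtype.val hx))⟩
    rw [hE] at hx'
    exact Subtype.ext hx'
  obtain ⟨y, hy⟩ := LinearMap.injective_iff_surjective.mp hinj ⟨p, hp⟩
  have hy' : f (y : V) - (y : V) = p := congrArg Subtype.val hy
  have hfv : f v = v := by simpa using End.mem_eigenspace_iff.mp hv
  have h2 := h.iso (y : V) v
  rw [hfv] at h2
  rw [← hy', map_sub, LinearMap.sub_apply, h2, sub_self]

theorem RootIso.uniform [FiniteDimensional F V] (h : RootIso B f r) :
    IsUniform f 1 (orderOf (Fintype.card F : ZMod r)) :=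
  isUniform_split h.natCast one_ne_zero (by rw [one_pow, one_smul, h.pow])

/-- The fixed part and the moved part of an invariant nondegenerate subspace. -/
theorem RootIso.fixed_split [FiniteDimensional F V] (h : RootIso B f r) (hX : Inv f X)
    (hnd : Nondeg B X) :
    ∃ Z, Inv f Z ∧ Z ≤ X ∧ Z ⊓ End.eigenspace f (1 : F) = ⊥ ∧ Nondeg B Z ∧
      Nondeg B (X ⊓ End.eigenspace f (1 : F)) ∧
      finrank F X = finrank F ↥(X ⊓ End.eigenspace f (1 : F)) + finrank F Z ∧
      (X ⊓ End.eigenspace f (1 : F)) ⊔ Z = X := by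
  obtain ⟨Z, hZ, hZX, hdisj, hsup⟩ :=
    exists_compl h.uniform.semisimple hX (hX.inf_eigenspace (μ := (1 : F))) inf_le_left
  have hZE : Z ⊓ End.eigenspace f (1 : F) = ⊥ := le_bot_iff.mp
    (hdisj ▸ le_inf (le_inf (inf_le_left.trans hZX) inf_le_right) inf_le_left)
  have hperp := h.perp_fixed hZ hZE
  refine ⟨Z, hZ, hZX, hZE, fun z hz hzz => hnd z (hZX hz) fun y hy => ?_,
    fun e he hee => hnd e he.1 fun y hy => ?_, by rw [← finrank_sup_of_disjoint hdisj, hsup], hsup⟩
  · obtain ⟨a, ha, b, hb, rfl⟩ := Submodule.mem_sup.mp (hsup.ge hy)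
    rw [map_add, hperp z hz a ha.2, zero_add, hzz b hb]
  · obtain ⟨a, ha, b, hb, rfl⟩ := Submodule.mem_sup.mp (hsup.ge hy)
    rw [map_add, hee a ha, zero_add, h.symp.comm_eq_zero.mp (hperp b hb e he.2)]

/-- A subspace without fixed vectors contains a symplectic piece. -/
theorem RootIso.exists_piece [FiniteDimensional F V] (h : RootIso B f r) (hX : Inv f X)
    (hnd : Nondeg B X) (hE : X ⊓ End.eigenspace f (1 : F) = ⊥) (hne : X ≠ ⊥) :
    ∃ W, W ≤ X ∧ Inv f W ∧ Nondeg B W ∧
      finrank F W = pieceDim (orderOf (Fintype.card F : ZMod r)) := by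
  classical
  set i := orderOf (Fintype.card F : ZMod r) with hi
  have hu := h.uniform
  have hpos : 0 < finrank F X :=
    Nat.pos_of_ne_zero fun h0 => hne (Submodule.finrank_eq_zero.mp h0)
  obtain ⟨P, hPX, hP⟩ := hu.exists_piece hX (by rw [hE, finrank_bot]; exact hpos)
  have hPd : finrank F P = i := by rw [hP.2.2, zero_add, one_mul]
  have hsimple : ∀ U ≤ P, Inv f U → U = ⊥ ∨ U = P := by
    intro U hUP hU
    refine or_iff_not_imp_left.mpr fun hU0 => ?_
    obtain ⟨u, huU, hu0⟩ := Submodule.exists_mem_ne_zero_of_ne_bot hU0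
    exact le_antisymm hUP (Decomp.piece_le hu hP hU (hUP huU) hu0 huU)
  rcases hsimple _ inf_le_left (hP.1.inf (h.inv_orth hP.1)) with hPn | hPs
  · have hPnd : Nondeg B P := (nondeg_iff_inf_orth h.symp).mpr hPn
    have hev : Even i := hPd ▸ even_finrank_of_nondeg h.symp hPnd
    exact ⟨P, hPX, hP.1, hPnd, by rw [hPd, pieceDim, if_pos hev]⟩
  -- a totally singular piece and a partner
  have hsing : ∀ u ∈ P, ∀ v ∈ P, B u v = 0 := fun u hu' v hv =>
    mem_orth.mp (inf_eq_left.mp hPs hv) u hu'
  obtain ⟨Z, hZ, hZX, hdisj, hsup⟩ :=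
    exists_compl hu.semisimple hX (hX.inf (h.inv_orth hP.1)) inf_le_left
  have hZE : Z ⊓ End.eigenspace f (1 : F) = ⊥ := le_bot_iff.mp (hE ▸ inf_le_inf_right _ hZX)
  have hZY : ∀ z ∈ Z, (∀ p ∈ P, B p z = 0) → z = 0 := fun z hz hpz =>
    (Submodule.mem_bot F).mp (hdisj.le ⟨⟨hZX hz, mem_orth.mpr hpz⟩, hz⟩)
  have hPZ : ∀ p ∈ P, (∀ z ∈ Z, B p z = 0) → p = 0 := fun p hp hpz =>
    hnd p (hPX hp) fun y hy => by
      obtain ⟨a, ha, b, hb, rfl⟩ := Submodule.mem_sup.mp (hsup.ge hy)
      rw [map_add, mem_orth.mp ha.2 p hp, zero_add, hpz b hb]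
  have hZd : finrank F Z = i := by
    obtain ⟨k, hk⟩ := hu.exists_type hZ
    have h1 : finrank F Z = k * i := hk.2.2.trans (by rw [hZE, finrank_bot, zero_add, hi])
    let L : Z →ₗ[F] Module.Dual F P := (B.compl₁₂ P.subtype Z.subtype).flip
    have hL : Function.Injective L := (injective_iff_map_eq_zero L).mpr fun z hz =>
      Subtype.ext (hZY z z.2 fun p hp => LinearMap.congr_fun hz ⟨p, hp⟩)
    have h2 : finrank F Z ≤ i :=
      hPd ▸ (LinearMap.finrank_le_finrank_of_injective hL).trans Subspace.dual_finrank_eq.le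
    rcases Nat.eq_zero_or_pos k with rfl | hk0
    · exfalso
      rw [zero_mul] at h1
      obtain ⟨p, hp, hp0⟩ := Submodule.exists_mem_ne_zero_of_ne_bot (p := P) (fun h0 => by
        rw [h0, finrank_bot] at hPd; exact hu.pos.ne hPd)
      refine hp0 (hPZ p hp fun z hz => ?_)
      rw [Submodule.finrank_eq_zero.mp h1, Submodule.mem_bot] at hz
      rw [hz, map_zero]
    · have := Nat.le_mul_of_pos_left i hk0
      omega
  have hdPZ : P ⊓ Z = ⊥ := le_bot_iff.mp
    (hdisj ▸ le_inf (le_inf (inf_le_left.trans hPX) (inf_le_left.trans (inf_eq_left.mp hPs))) inf_le_right)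
  have hWnd : Nondeg B (P ⊔ Z) := by
    intro x hx hxy
    obtain ⟨p, hp, z, hz, rfl⟩ := Submodule.mem_sup.mp hx
    have hz0 : z = 0 := hZY z hz fun p' hp' => by
      have h1 := hxy p' (Submodule.mem_sup_left hp')
      rw [map_add, LinearMap.add_apply, hsing p hp p' hp', zero_add] at h1
      exact h.symp.comm_eq_zero.mp h1
    have hp0 : p = 0 := hPZ p hp fun z' hz' => by
      have h1 := hxy z' (Submodule.mem_sup_right hz')
      rwa [hz0, add_zero] at h1
    rw [hp0, hz0, add_zero]
  by_cases hev : Even i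
  swap
  · exact ⟨P ⊔ Z, sup_le hPX hZX, hP.1.sup hZ, hWnd, by
      rw [finrank_sup_of_disjoint hdPZ, hPd, hZd, pieceDim, if_neg hev, two_mul]⟩
  -- both are killed by a polynomial of degree at most `i`
  have hPinv : ∀ x ∈ P, f x ∈ P := fun x hx => hP.1.mem hx
  set m := minpoly F (f.restrict hPinv : Module.End F P) with hmdef
  have hmmon : m.Monic := minpoly.monic (Algebra.IsIntegral.isIntegral _)
  have hmdeg : m.natDegree ≤ i := by
    refine (natDegree_le_of_dvd (LinearMap.minpoly_dvd_charpoly _)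
      (LinearMap.charpoly_monic _).ne_zero).trans ?_
    rw [LinearMap.charpoly_natDegree, hPd]
  have hmP : ∀ p ∈ P, aeval f m p = 0 := fun p hp => by
    have h1 := congrArg (fun g : Module.End F P => ((g ⟨p, hp⟩ : P) : V))
      (minpoly.aeval F (f.restrict hPinv : Module.End F P))
    simp only [aeval_restrict_apply, LinearMap.zero_apply, ZeroMemClass.coe_zero] at h1
    exact h1
  -- the polynomial also kills the inverse on `P`
  have hgP : ∀ p ∈ P, aeval (f ^ (r - 1)) m p = 0 := by
    intro p hp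
    obtain ⟨e, he⟩ := hev
    have he0 : 0 < e := by have := hu.pos; omega
    have hneg : ((Fintype.card F ^ e : ℕ) : ZMod r) = ((r - 1 : ℕ) : ZMod r) := by
      rw [Nat.cast_pow, Nat.cast_sub hr.out.one_le, ZMod.natCast_self, Nat.cast_one, zero_sub]
      have h1 : ((Fintype.card F : ZMod r) ^ e - 1) * ((Fintype.card F : ZMod r) ^ e + 1) = 0 := by
        have h2 := pow_orderOf_eq_one (Fintype.card F : ZMod r)
        rw [← hi, he] at h2
        linear_combination h2
      rcases mul_eq_zero.mp h1 with h2 | h2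
      · exfalso
        have h3 := Nat.le_of_dvd he0 (orderOf_dvd_of_pow_eq_one (sub_eq_zero.mp h2))
        omega
      · exact eq_neg_of_add_eq_zero_left h2
    have hf : f ^ (r - 1) = f ^ (Fintype.card F ^ e) := by
      rw [ZMod.natCast_eq_natCast_iff] at hneg
      have hmod : ∀ k, f ^ k = f ^ (k % r) := fun k => by
        conv_lhs => rw [← Nat.mod_add_div k r, pow_add, _root_.pow_mul, h.pow, one_pow, mul_one]
      rw [hmod, hmod (Fintype.card F ^ e)]
      exact congrArg _ hneg.symm
    have hexp : ∀ e : ℕ, expand F (Fintype.card F ^ e) m = m ^ (Fintype.card F ^ e) := by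
      intro e
      induction e with
      | zero => simp
      | succ e ih =>
        rw [pow_succ' (Fintype.card F) e, expand_mul, ih, map_pow, FiniteField.expand_card,
          ← _root_.pow_mul]
    rw [hf, ← expand_aeval, hexp, map_pow]
    obtain ⟨k, hk⟩ : ∃ k, Fintype.card F ^ e = k + 1 :=
      ⟨Fintype.card F ^ e - 1, (Nat.sub_add_cancel (Nat.one_le_pow _ _ Fintype.card_pos)).symm⟩
    rw [hk, pow_succ, Module.End.mul_apply, hmP p hp, map_zero]
  have hmem : ∀ (T : Submodule F V), Inv f T → ∀ (k : ℕ) (x : V), x ∈ T → (f ^ k) x ∈ T := by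
    intro T hT k
    induction k with
    | zero => intro x hx; simpa using hx
    | succ k ih => intro x hx; rw [pow_succ', Module.End.mul_apply]; exact hT.mem (ih x hx)
  have haev : ∀ (T : Submodule F V), Inv f T → ∀ (g : F[X]) (x : V), x ∈ T → aeval f g x ∈ T := by
    intro T hT g x hx
    rw [aeval_eq_sum_range, LinearMap.sum_apply]
    exact T.sum_mem fun k _ => T.smul_mem _ (hmem T hT k x hx)
  have hmW : ∀ v ∈ P ⊔ Z, aeval f m v = 0 := by
    intro v hv
    obtain ⟨p, hp, z, hz, rfl⟩ := Submodule.mem_sup.mp hv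
    rw [map_add, hmP p hp, zero_add]
    exact hZY _ (haev Z hZ m z hz) fun p' hp' => by
      rw [← h.adjoint, hgP p' hp', map_zero, LinearMap.zero_apply]
  -- some vector is not orthogonal to its image
  obtain ⟨v, hv, hv'⟩ : ∃ v ∈ P ⊔ Z, B v (f v) ≠ 0 := by
    by_contra hcon
    push Not at hcon
    obtain ⟨v, hv, hv0⟩ := Submodule.exists_mem_ne_zero_of_ne_bot (p := P) (fun h0 => by
      rw [h0, finrank_bot] at hPd; exact hu.pos.ne hPd)
    have hinv := hP.1.sup hZ
    have hvW : v ∈ P ⊔ Z := Submodule.mem_sup_left hv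
    have hff : f (f v) = v := eq_of_sub_eq_zero (hWnd _
      (Submodule.sub_mem _ (hinv.mem (hinv.mem hvW)) hvW) fun y hy => by
        have h1 := hcon (f v + y) (Submodule.add_mem _ (hinv.mem hvW) hy)
        rw [map_add, map_add, map_add, LinearMap.add_apply, LinearMap.add_apply, hcon _ (hinv.mem hvW),
          hcon y hy, h.iso, zero_add, add_zero, h.symp.swap y (f (f v))] at h1
        rw [map_sub, LinearMap.sub_apply]
        linear_combination -h1)
    have hfv : f v = v := by
      obtain ⟨k, hk⟩ := hr.out.odd_of_ne_two h.two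
      have h2 : ∀ k, (f ^ (2 * k)) v = v := by
        intro k
        induction k with
        | zero => rfl
        | succ k ih => rw [Nat.mul_succ, pow_add, Module.End.mul_apply, pow_two, Module.End.mul_apply, hff, ih]
      have h3 := LinearMap.congr_fun h.pow v
      rwa [hk, pow_succ', Module.End.mul_apply, h2, Module.End.one_apply] at h3
    exact hv0 ((Submodule.mem_bot F).mp (hE.le ⟨hPX hv, End.mem_eigenspace_iff.mpr (by rw [hfv, one_smul])⟩))
  -- its cyclic span
  set S := Submodule.span F (Set.range fun k : Fin m.natDegree => (f ^ (k : ℕ)) v) with hSdef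
  have htop : (f ^ m.natDegree) v ∈ S := by
    have h1 := hmW v hv
    rw [aeval_eq_sum_range, LinearMap.sum_apply, Finset.sum_range_succ, LinearMap.smul_apply,
      hmmon.coeff_natDegree, one_smul] at h1
    rw [eq_neg_of_add_eq_zero_right h1]
    refine S.neg_mem (S.sum_mem fun k hk => S.smul_mem _ (Submodule.subset_span ⟨⟨k, Finset.mem_range.mp hk⟩, rfl⟩))
  have hdeg0 : 0 < m.natDegree := by
    haveI : Nontrivial P := Submodule.nontrivial_iff_ne_bot.mpr fun h0 => by
      rw [h0, finrank_bot] at hPd; exact hu.pos.ne hPd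
    exact minpoly.natDegree_pos (Algebra.IsIntegral.isIntegral _)
  have hSinv : Inv f S := by
    rw [Inv, hSdef, Submodule.map_span, Submodule.span_le]
    rintro _ ⟨_, ⟨k, rfl⟩, rfl⟩
    rw [SetLike.mem_coe, ← Module.End.mul_apply, ← pow_succ']
    by_cases hk : (k : ℕ) + 1 < m.natDegree
    · exact Submodule.subset_span ⟨⟨_, hk⟩, rfl⟩
    · rw [show (k : ℕ) + 1 = m.natDegree by omega]; exact htop
  have hvS : v ∈ S := Submodule.subset_span ⟨⟨0, hdeg0⟩, by simp⟩
  have hSW : S ≤ P ⊔ Z := by
    rw [hSdef, Submodule.span_le]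
    rintro _ ⟨k, rfl⟩
    exact hmem _ (hP.1.sup hZ) _ _ hv
  have hSE : S ⊓ End.eigenspace f (1 : F) = ⊥ :=
    le_bot_iff.mp (hE ▸ inf_le_inf_right _ (hSW.trans (sup_le hPX hZX)))
  have hv0 : v ≠ 0 := fun h0 => hv' (by rw [h0, map_zero, LinearMap.zero_apply])
  obtain ⟨k, hk⟩ := hu.exists_type hSinv
  have h1 : finrank F S = k * i := hk.2.2.trans (by rw [hSE, finrank_bot, zero_add, hi])
  have hSd : finrank F S ≤ i :=
    ((finrank_range_le_card _).trans (Fintype.card_fin _).le).trans hmdeg
  have hk1 : k = 1 := by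
    have hk0 : k ≠ 0 := by
      rintro rfl
      rw [zero_mul] at h1
      exact hv0 ((Submodule.mem_bot F).mp ((Submodule.finrank_eq_zero.mp h1).le hvS))
    by_contra hk1
    have := Nat.mul_le_mul_right i (show 2 ≤ k by omega)
    have := hu.pos
    omega
  subst hk1
  rw [one_mul] at h1
  refine ⟨S, hSW.trans (sup_le hPX hZX), hSinv, ?_, by rw [h1, pieceDim, if_pos hev]⟩
  rw [nondeg_iff_inf_orth h.symp, Submodule.eq_bot_iff]
  rintro u ⟨huS, huo⟩
  by_contra hu0
  have hSP : HasType f 1 i S 0 1 := ⟨hSinv, by rw [hSE, finrank_bot], by rw [h1, zero_add, one_mul]⟩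
  have hle := Decomp.piece_le hu hSP (h.inv_orth hSinv) huS hu0 huo
  exact hv' (mem_orth.mp (hle (hSinv.mem hvS)) v hvS)

/-- Orthogonal pieces. -/
theorem RootIso.exists_pieces [FiniteDimensional F V] (h : RootIso B f r) :
    ∀ k, ∀ X : Submodule F V, finrank F X = k → Inv f X → Nondeg B X →
      X ⊓ End.eigenspace f (1 : F) = ⊥ →
      ∃ (s : ℕ) (W : Fin s → Submodule F V), (∀ j, Inv f (W j) ∧ Nondeg B (W j) ∧
        finrank F (W j) = pieceDim (orderOf (Fintype.card F : ZMod r))) ∧
        (∀ j l, j ≠ l → ∀ u ∈ W j, ∀ v ∈ W l, B u v = 0) ∧ ⨆ j, W j = X := by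
  intro k
  induction k using Nat.strong_induction_on with
  | _ k ih =>
    intro X hk hX hnd hE
    rcases eq_or_ne X ⊥ with rfl | hne
    · exact ⟨0, fun j => j.elim0, fun j => j.elim0, fun j => j.elim0, iSup_of_empty _⟩
    obtain ⟨W₀, hW₀X, hW₀, hW₀nd, hW₀d⟩ := h.exists_piece hX hnd hE hne
    obtain ⟨hY, hsup, hdim⟩ := split h.symp hW₀nd hnd hW₀X
    have hpos : 0 < pieceDim (orderOf (Fintype.card F : ZMod r)) := by
      unfold pieceDim
      have := h.uniform.pos
      split <;> omega
    obtain ⟨s, W, hW, horth, hWs⟩ := ih _ (by omega) _ rfl (hX.inf (h.inv_orth hW₀)) hY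
      (le_bot_iff.mp (hE ▸ inf_le_inf_right _ inf_le_left))
    have hle : ∀ j, W j ≤ orth B W₀ := fun j =>
      (le_iSup W j).trans (hWs.le.trans inf_le_right)
    refine ⟨s + 1, Fin.cons W₀ W, ?_, ?_, ?_⟩
    · intro j
      refine Fin.cases ?_ (fun j => ?_) j
      · rw [Fin.cons_zero]; exact ⟨hW₀, hW₀nd, hW₀d⟩
      · rw [Fin.cons_succ]; exact hW j
    · intro j l
      refine Fin.cases ?_ (fun j => ?_) j <;> refine Fin.cases ?_ (fun l => ?_) l <;> intro hjl u hu v hv
      · exact absurd rfl hjl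
      · simp only [Fin.cons_zero, Fin.cons_succ] at hu hv
        exact mem_orth.mp (hle l hv) u hu
      · simp only [Fin.cons_zero, Fin.cons_succ] at hu hv
        exact h.symp.comm_eq_zero.mp (mem_orth.mp (hle j hu) v hv)
      · simp only [Fin.cons_succ] at hu hv
        exact horth j l (fun e => hjl (by rw [e])) u hu v hv
    · refine le_antisymm (iSup_le fun j => ?_) ?_
      · refine Fin.cases ?_ (fun j => ?_) j
        · simpa using hW₀X
        · simpa using (le_iSup W j).trans (hWs.le.trans inf_le_left)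
      · refine hsup.ge.trans (sup_le (le_iSup_of_le 0 (le_of_eq (by simp))) ?_)
        exact hWs.ge.trans (iSup_le fun j => le_iSup_of_le j.succ (le_of_eq (by simp)))

/-- The moved part has dimension a multiple of the piece dimension. -/
theorem RootIso.finrank_eq [FiniteDimensional F V] (h : RootIso B f r) (hX : Inv f X)
    (hnd : Nondeg B X) :
    ∃ s, finrank F X = finrank F ↥(X ⊓ End.eigenspace f (1 : F)) +
      s * pieceDim (orderOf (Fintype.card F : ZMod r)) := by
  obtain ⟨Z, hZ, -, hZE, hZnd, -, hdim, -⟩ := h.fixed_split hX hnd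
  obtain ⟨s, W, hW, horth, hWs⟩ := h.exists_pieces _ Z rfl hZ hZnd hZE
  obtain ⟨-, -, hd⟩ := orth_family h.symp W (fun j => (hW j).2.1) horth
  rw [hWs] at hd
  refine ⟨s, ?_⟩
  rw [hdim, hd, Finset.sum_congr rfl fun j _ => (hW j).2.2, Finset.sum_const, Finset.card_univ,
    Fintype.card_fin, smul_eq_mul]

end Pieces

section Existence

variable {r : ℕ} [hr : Fact r.Prime]

omit hr in
theorem two_mul_le {i k : ℕ} (hik : i ∣ 2 * k) : pieceDim i ∣ 2 * k := by
  unfold pieceDim
  split
  · exact hik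
  next hodd =>
    exact Nat.mul_dvd_mul_left 2 ((Nat.Coprime.dvd_mul_left
      (Nat.coprime_two_right.mpr (Nat.not_even_iff_odd.mp hodd))).mp hik)

/-- If `r` divides the order of the symplectic group, a piece fits in. -/
theorem pieceDim_le (hrq : ¬ r ∣ Fintype.card F) {d : ℕ}
    (h : r ∣ Nat.card (Matrix.symplecticGroup (Fin d) F)) :
    pieceDim (orderOf (Fintype.card F : ZMod r)) ≤ 2 * d := by
  rw [card_sp (q := Fintype.card F) (by rw [Nat.card_eq_fintype_card]) d] at h
  have h6 := (hr.out.dvd_mul.mp h).resolve_left fun hd => hrq (hr.out.dvd_of_dvd_pow hd)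
  obtain ⟨j, hj, hjd⟩ := (Prime.dvd_finsetProd_iff hr.out.prime _).mp h6
  rw [Finset.mem_range] at hj
  rw [← ZMod.natCast_eq_zero_iff, Nat.cast_sub (Nat.one_le_pow _ _ Fintype.card_pos), Nat.cast_pow,
    Nat.cast_one, sub_eq_zero] at hjd
  exact (Nat.le_of_dvd (by omega) (two_mul_le (orderOf_dvd_of_pow_eq_one hjd))).trans (by omega)

/-- An element of order `r` with prescribed fixed space. -/
theorem exists_element (hr2 : r ≠ 2) (hrF : (r : F) ≠ 0) (d e s : ℕ)
    (hes : 2 * e + s * pieceDim (orderOf (Fintype.card F : ZMod r)) = 2 * d) :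
    ∃ x : Matrix.symplecticGroup (Fin d) F,
      RootIso (stdForm d F) (Matrix.toLin' (x : Matrix (Fin d ⊕ Fin d) (Fin d ⊕ Fin d) F)) r ∧
      finrank F (End.eigenspace (Matrix.toLin' (x : Matrix (Fin d ⊕ Fin d) (Fin d ⊕ Fin d) F)) (1 : F)) = 2 * e := by
  classical
  set i := orderOf (Fintype.card F : ZMod r) with hi
  obtain ⟨c, hc⟩ := (even_pieceDim i).two_dvd
  have hipos : 0 < i := orderOf_card_pos hrF
  have hcpos : 0 < c := by unfold pieceDim at hc; split at hc <;> omega
  -- a fixed point free element in one piece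
  obtain ⟨g, hg⟩ := exists_prime_orderOf_dvd_card' r (show r ∣ Nat.card (Matrix.symplecticGroup (Fin c) F) by
    rw [card_sp (q := Fintype.card F) (by rw [Nat.card_eq_fintype_card]) c]
    refine dvd_mul_of_dvd_right (dvd_trans ?_ (Finset.dvd_prod_of_mem _ (Finset.mem_range.mpr (show c - 1 < c by omega)))) _
    rw [← ZMod.natCast_eq_zero_iff, Nat.cast_sub (Nat.one_le_pow _ _ Fintype.card_pos),
      Nat.cast_pow, Nat.cast_one, sub_eq_zero, show c - 1 + 1 = c by omega, ← hc]
    obtain ⟨k, hk⟩ := dvd_pieceDim i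
    rw [hk, pow_mul, hi, pow_orderOf_eq_one, one_pow])
  set g₀ : Module.End F (Fin c ⊕ Fin c → F) := Matrix.toLin' (g : Matrix (Fin c ⊕ Fin c) (Fin c ⊕ Fin c) F)
  have hg₀ : RootIso (stdForm c F) g₀ r := by
    refine ⟨isSympForm_stdForm c F, fun u v => ?_, ?_, hr2, hrF⟩
    · exact mem_sp_iff.mp g.2 u v
    · rw [← Matrix.toLin'_pow, ← SubmonoidClass.coe_pow, ← hg, pow_orderOf_eq_one, Submonoid.coe_one,
        Matrix.toLin'_one]
      rfl
  have hE₀ : End.eigenspace g₀ (1 : F) = ⊥ := by
    obtain ⟨k, hk⟩ := hg₀.finrank_eq (X := ⊤) (Inv.top g₀) (fun u _ hu => (isSympForm_stdForm c F).nondeg u fun y => hu y trivial)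
    rw [top_inf_eq, finrank_top, finrank_std, ← hi, hc] at hk
    rcases Nat.eq_zero_or_pos k with rfl | hk0
    · exfalso
      have htop : End.eigenspace g₀ (1 : F) = ⊤ := Submodule.eq_top_of_finrank_eq (by rw [finrank_std]; omega)
      have h2 : g = 1 := Subtype.ext (Matrix.toLin'.injective (LinearMap.ext fun v => by
        have := End.mem_eigenspace_iff.mp (htop.ge (Submodule.mem_top (x := v)))
        rw [one_smul] at this
        rw [Submonoid.coe_one, Matrix.toLin'_one, LinearMap.id_apply]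
        exact this))
      rw [h2, orderOf_one] at hg
      exact hr.out.one_lt.ne hg
    · have := Nat.le_mul_of_pos_left (2 * c) hk0
      exact Submodule.finrank_eq_zero.mp (by omega)
  -- copies and a fixed part
  let B' : ((Fin s → (Fin c ⊕ Fin c → F)) × (Fin e ⊕ Fin e → F)) →ₗ[F]
      ((Fin s → (Fin c ⊕ Fin c → F)) × (Fin e ⊕ Fin e → F)) →ₗ[F] F :=
    (∑ j, (stdForm c F).compl₁₂ ((LinearMap.proj j).comp (LinearMap.fst F _ _))
        ((LinearMap.proj j).comp (LinearMap.fst F _ _))) +
      (stdForm e F).compl₁₂ (LinearMap.snd F _ _) (LinearMap.snd F _ _)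
  have hB'a : ∀ x y, B' x y = ∑ j, stdForm c F (x.1 j) (y.1 j) + stdForm e F x.2 y.2 := fun x y => by
    simp [B', LinearMap.sum_apply]
  have hB' : IsSympForm B' := by
    refine ⟨fun x => ?_, fun x hx => Prod.ext (funext fun j => ?_) ?_⟩
    · rw [hB'a]
      simp [(isSympForm_stdForm c F).self, (isSympForm_stdForm e F).self]
    · refine (isSympForm_stdForm c F).nondeg _ fun y => ?_
      have h1 := hx (Pi.single j y, 0)
      rw [hB'a, Finset.sum_eq_single j (fun b _ hb => by simp [hb]) (by simp)] at h1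
      simpa using h1
    · refine (isSympForm_stdForm e F).nondeg _ fun y => ?_
      have h1 := hx (0, y)
      rw [hB'a] at h1
      simpa using h1
  obtain ⟨m, hm, T, hT⟩ := exists_std hB'
  rw [finrank_prod, finrank_pi_fintype, Finset.sum_congr rfl (fun _ _ => finrank_std c F), finrank_std,
    Finset.sum_const, Finset.card_univ, Fintype.card_fin, smul_eq_mul] at hm
  rw [hc] at hes
  obtain rfl : m = d := by omega
  let f' : Module.End F ((Fin s → (Fin c ⊕ Fin c → F)) × (Fin e ⊕ Fin e → F)) :=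
    (LinearMap.pi fun j => g₀.comp (LinearMap.proj j)).prodMap 1
  let f : Module.End F (Fin m ⊕ Fin m → F) := T.symm.toLinearMap ∘ₗ f' ∘ₗ T.toLinearMap
  have hfT : ∀ v, T (f v) = f' (T v) := fun v => T.apply_symm_apply _
  have hiso : ∀ u v, stdForm m F (f u) (f v) = stdForm m F u v := fun u v => by
    rw [← hT, ← hT, hfT, hfT, hB'a, hB'a]
    congr 1
    exact Finset.sum_congr rfl fun j _ => hg₀.iso _ _
  have hfr : f ^ r = 1 := by
    have hpow : ∀ k v, T ((f ^ k) v) = (f' ^ k) (T v) := by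
      intro k
      induction k with
      | zero => intro v; rfl
      | succ k ih => intro v; rw [pow_succ', pow_succ', Module.End.mul_apply, Module.End.mul_apply, hfT, ih]
    refine LinearMap.ext fun v => T.injective ?_
    rw [hpow]
    have : ∀ k (z : (Fin s → (Fin c ⊕ Fin c → F)) × (Fin e ⊕ Fin e → F)),
        (f' ^ k) z = (fun j => (g₀ ^ k) (z.1 j), z.2) := by
      intro k
      induction k with
      | zero => intro z; rfl
      | succ k ih => intro z; rw [pow_succ', Module.End.mul_apply, ih]; exact Prod.ext (funext fun j => by simp [f', pow_succ', Module.End.mul_apply]) rfl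
    rw [this, hg₀.pow]
    rfl
  have hdim : finrank F (End.eigenspace f (1 : F)) = 2 * e := by
    have h1 : (End.eigenspace f (1 : F)).map T.toLinearMap = LinearMap.range (LinearMap.inr F (Fin s → (Fin c ⊕ Fin c → F)) (Fin e ⊕ Fin e → F)) := by
      refine le_antisymm ?_ ?_
      · rintro _ ⟨v, hv, rfl⟩
        have h2 : f v = v := by simpa using End.mem_eigenspace_iff.mp hv
        have h3 := hfT v
        rw [h2] at h3
        refine ⟨(T v).2, Prod.ext (funext fun j => ?_) rfl⟩
        have h4 : (T v).1 j ∈ End.eigenspace g₀ (1 : F) := by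
          rw [End.mem_eigenspace_iff, one_smul]
          exact (congrFun (congrArg Prod.fst h3) j).symm
        rw [hE₀, Submodule.mem_bot] at h4
        exact h4.symm
      · rintro _ ⟨b, rfl⟩
        refine ⟨T.symm (0, b), End.mem_eigenspace_iff.mpr ?_, T.apply_symm_apply _⟩
        refine T.injective ?_
        rw [one_smul, hfT, T.apply_symm_apply]
        exact Prod.ext (funext fun j => map_zero g₀) rfl
    rw [← LinearEquiv.finrank_map_eq T, h1, LinearMap.finrank_range_of_inj LinearMap.inr_injective, finrank_std]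
  have hmem : LinearMap.toMatrix' f ∈ Matrix.symplecticGroup (Fin m) F :=
    mem_sp_iff.mpr fun x y => by rw [LinearMap.toMatrix'_mulVec, LinearMap.toMatrix'_mulVec, hiso]
  refine ⟨⟨_, hmem⟩, ?_⟩
  show RootIso (stdForm m F) (Matrix.toLin' (LinearMap.toMatrix' f)) r ∧
    finrank F (End.eigenspace (Matrix.toLin' (LinearMap.toMatrix' f)) (1 : F)) = 2 * e
  rw [Matrix.toLin'_toMatrix']
  exact ⟨⟨isSympForm_stdForm m F, hiso, hfr, hr2, hrF⟩, hdim⟩

omit hr in
theorem scalar_root [hr : Fact r.Prime] {d : ℕ} (hd : 0 < d) (hr2 : r ≠ 2) (hrF : (r : F) ≠ 0)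
    (x : Matrix.symplecticGroup (Fin d) F) {z : F}
    (hz : ((x ^ r : Matrix.symplecticGroup (Fin d) F) : Matrix (Fin d ⊕ Fin d) (Fin d ⊕ Fin d) F) = z • 1) :
    z * z = 1 ∧ RootIso (stdForm d F) (z • Matrix.toLin' (x : Matrix (Fin d ⊕ Fin d) (Fin d ⊕ Fin d) F)) r := by
  set f := Matrix.toLin' (x : Matrix (Fin d ⊕ Fin d) (Fin d ⊕ Fin d) F) with hfdef
  have hiso : ∀ u v, stdForm d F (f u) (f v) = stdForm d F u v := fun u v => mem_sp_iff.mp x.2 u v
  have hfr : f ^ r = z • 1 := by
    rw [hfdef, ← Matrix.toLin'_pow, ← SubmonoidClass.coe_pow, hz, map_smul, Matrix.toLin'_one]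
    rfl
  have hz2 : z * z = 1 := by
    obtain ⟨v, hv⟩ := (isSympForm_stdForm d F).exists_eq_one (u := Pi.single (Sum.inl ⟨0, hd⟩) 1) (by simp)
    have hp : ∀ k u v, stdForm d F ((f ^ k) u) ((f ^ k) v) = stdForm d F u v := by
      intro k
      induction k with
      | zero => intro u v; rfl
      | succ k ih => intro u v; rw [pow_succ', Module.End.mul_apply, Module.End.mul_apply, hiso, ih]
    have h1 := hp r (Pi.single (Sum.inl ⟨0, hd⟩) 1) v
    rw [hfr] at h1
    simpa [hv] using h1
  refine ⟨hz2, isSympForm_stdForm d F, fun u v => ?_, ?_, hr2, hrF⟩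
  · rw [LinearMap.smul_apply, LinearMap.smul_apply, map_smul, map_smul, LinearMap.smul_apply, hiso,
      smul_smul, hz2, one_smul]
  · obtain ⟨k, hk⟩ := hr.out.odd_of_ne_two hr2
    rw [_root_.smul_pow, hfr, smul_smul, hk, pow_succ, _root_.pow_mul, pow_two, hz2, one_pow, one_mul, hz2, one_smul]

end Existence

end Cfsg.Agent.Lib.Elusive.SympPieces
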