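import Mathlib

/-!
Counting subspaces, nested pairs and complementary pairs over a finite field, in the division-free
form needed to see which primes divide the counts.
-/

namespace Cfsg.Agent.Lib.Elusive.GrassCount

open Module Finset

variable {F V : Type*} [Field F] [Fintype F] [AddCommGroup V] [Module F V] [FiniteDimensional F V]

/-- `∏ j ∈ 1..n, (q ^ j - 1)`. -/
def P (q n : ℕ) : ℕ := ∏ j ∈ range n, (q ^ (j + 1) - 1)

theorem P_pos {q : ℕ} (hq : 1 < q) (n : ℕ) : 0 < P q n :=
  Finset.prod_pos fun _ _ => Nat.sub_pos_of_lt (Nat.one_lt_pow (Nat.succ_ne_zero _) hq)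

theorem prod_sub_eq (q n m : ℕ) (h : m ≤ n) :
    ∏ i ∈ range m, (q ^ n - q ^ i) = q ^ (∑ i ∈ range m, i) * ∏ i ∈ range m, (q ^ (n - i) - 1) := by
  rw [← Finset.prod_pow_eq_pow_sum, ← Finset.prod_mul_distrib]
  refine Finset.prod_congr rfl fun i hi => ?_
  rw [Nat.mul_sub, mul_one, ← pow_add, Nat.add_sub_cancel' ((Finset.mem_range.mp hi).le.trans h)]

theorem P_sub_mul (q n m : ℕ) (h : m ≤ n) :
    P q (n - m) * ∏ i ∈ range m, (q ^ (n - i) - 1) = P q n := by
  induction m with
  | zero => simp
  | succ m ih =>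
    rw [← ih (by omega), Finset.prod_range_succ, show n - m = (n - (m + 1)) + 1 by omega, P, P,
      Finset.prod_range_succ, show n - (m + 1) + 1 = n - m by omega]
    ring

theorem card_mul (m : ℕ) (hm : m ≤ finrank F V) :
    Nat.card {W : Submodule F V // finrank F W = m} *
      ∏ i ∈ range m, (Fintype.card F ^ m - Fintype.card F ^ i) =
    ∏ i ∈ range m, (Fintype.card F ^ finrank F V - Fintype.card F ^ i) := by
  classical
  haveI : Finite V := Module.finite_of_finite F
  rw [← Fin.prod_univ_eq_prod_range, ← Fin.prod_univ_eq_prod_range, ← card_linearIndependent hm]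
  let sp : {s : Fin m → V // LinearIndependent F s} → {W : Submodule F V // finrank F W = m} :=
    fun s => ⟨Submodule.span F (Set.range s.1), by rw [finrank_span_eq_card s.2, Fintype.card_fin]⟩
  haveI : Fintype {W : Submodule F V // finrank F W = m} := Fintype.ofFinite _
  rw [Nat.card_congr (Equiv.sigmaFiberEquiv sp).symm, Nat.card_sigma,
    Finset.sum_congr rfl fun W _ => (show Nat.card {s // sp s = W} =
      ∏ i : Fin m, (Fintype.card F ^ m - Fintype.card F ^ (i : ℕ)) from ?_), Finset.sum_const,
    Finset.card_univ, smul_eq_mul, ← Nat.card_eq_fintype_card (α := {W : Submodule F V // finrank F W = m})]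
  have hc := card_linearIndependent (K := F) (V := W.1) (k := m) (le_of_eq W.2.symm)
  rw [W.2] at hc
  rw [← hc]
  have hmem : ∀ s, sp s = W → ∀ i, s.1 i ∈ W.1 := fun s hs i => by
    rw [← hs]
    exact Submodule.subset_span ⟨i, rfl⟩
  refine Nat.card_congr
    { toFun := fun s => ⟨fun i => ⟨s.1.1 i, hmem s.1 s.2 i⟩,
        LinearIndependent.of_comp W.1.subtype s.1.2⟩
      invFun := fun f => ⟨⟨fun i => (f.1 i : V), f.2.map' W.1.subtype (Submodule.ker_subtype _)⟩,
        Subtype.ext (Submodule.eq_of_le_of_finrank_eq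
          (Submodule.span_le.2 (Set.range_subset_iff.2 fun i => (f.1 i).2)) ?_)⟩
      left_inv := fun _ => rfl
      right_inv := fun _ => rfl }
  show finrank F (Submodule.span F (Set.range fun i => (f.1 i : V))) = _
  rw [finrank_span_eq_card (b := fun i => (f.1 i : V))
    (f.2.map' W.1.subtype (Submodule.ker_subtype _)), Fintype.card_fin, W.2]

theorem card_subspaces (m : ℕ) (hm : m ≤ finrank F V) :
    Nat.card {W : Submodule F V // finrank F W = m} *
      (P (Fintype.card F) m * P (Fintype.card F) (finrank F V - m)) =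
    P (Fintype.card F) (finrank F V) := by
  have h := card_mul (F := F) (V := V) m hm
  rw [prod_sub_eq _ _ _ le_rfl, prod_sub_eq _ _ _ hm, mul_left_comm] at h
  have h' := Nat.eq_of_mul_eq_mul_left (Nat.pow_pos Fintype.card_pos) h
  have hP : P (Fintype.card F) m = ∏ i ∈ range m, (Fintype.card F ^ (m - i) - 1) := by
    conv_lhs => rw [← P_sub_mul _ m m le_rfl]
    simp [P]
  rw [← P_sub_mul _ _ _ hm, hP, ← mul_assoc, h', mul_comm]

theorem card_flags {m : ℕ} (hm : 2 * m ≤ finrank F V) :
    Nat.card {U : Submodule F V × Submodule F V //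
      U.1 ≤ U.2 ∧ finrank F U.1 = m ∧ finrank F U.2 = finrank F V - m} *
      (P (Fintype.card F) m * P (Fintype.card F) m *
        P (Fintype.card F) (finrank F V - 2 * m)) = P (Fintype.card F) (finrank F V) := by
  classical
  haveI : Finite V := Module.finite_of_finite F
  set n := finrank F V with hn
  haveI : Fintype {W : Submodule F V // finrank F W = n - m} := Fintype.ofFinite _
  have e : {U : Submodule F V × Submodule F V //
      U.1 ≤ U.2 ∧ finrank F U.1 = m ∧ finrank F U.2 = n - m} ≃
      Σ W : {W : Submodule F V // finrank F W = n - m}, {U : Submodule F W.1 // finrank F U = m} :=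
    { toFun := fun U => ⟨⟨U.1.2, U.2.2.2⟩, U.1.1.comap U.1.2.subtype, by
        rw [(Submodule.comapSubtypeEquivOfLe U.2.1).finrank_eq]
        exact U.2.2.1⟩
      invFun := fun x => ⟨(x.2.1.map x.1.1.subtype, x.1.1), Submodule.map_subtype_le _ _, by
        rw [Submodule.finrank_map_subtype_eq]
        exact x.2.2, x.1.2⟩
      left_inv := fun U => Subtype.ext (Prod.ext (Submodule.map_comap_eq_self (by
        rw [Submodule.range_subtype]
        exact U.2.1)) rfl)
      right_inv := fun x => by
        obtain ⟨W, U, hU⟩ := x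
        refine Sigma.ext rfl (heq_of_eq (Subtype.ext ?_))
        exact Submodule.comap_map_eq_of_injective W.1.injective_subtype U }
  rw [Nat.card_congr e, Nat.card_sigma, Finset.sum_mul]
  rw [Finset.sum_congr rfl fun W _ => (show
      Nat.card {U : Submodule F W.1 // finrank F U = m} *
        (P (Fintype.card F) m * P (Fintype.card F) m * P (Fintype.card F) (n - 2 * m)) =
      P (Fintype.card F) m * P (Fintype.card F) (n - m) from ?_), Finset.sum_const,
    Finset.card_univ, smul_eq_mul, ← Nat.card_eq_fintype_card (α := {W : Submodule F V // finrank F W = n - m})]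
  · have h := card_subspaces (F := F) (V := V) (n - m) (by omega)
    rw [← hn, Nat.sub_sub_self (by omega : m ≤ n)] at h
    rw [mul_comm (P _ m)]
    exact h
  · have h := card_subspaces (F := F) (V := W.1) m (by rw [W.2]; omega)
    rw [W.2, show n - m - m = n - 2 * m by omega] at h
    rw [← h]
    ring

/-- The complements of a subspace form a torsor of a module over `F`. -/
theorem card_compl (p : Submodule F V) :
    ∃ k, Nat.card {q : Submodule F V // IsCompl p q} = Fintype.card F ^ k := by
  classical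
  haveI : Finite V := Module.finite_of_finite F
  obtain ⟨q, hq⟩ := Submodule.exists_isCompl p
  let L : Submodule F (V →ₗ[F] p) := LinearMap.ker (LinearMap.lcomp F p p.subtype)
  let f₀ := p.isComplEquivProj ⟨q, hq⟩
  have e : {f : V →ₗ[F] p // ∀ x : p, f x = x} ≃ L :=
    { toFun := fun f => ⟨f.1 - f₀.1, LinearMap.mem_ker.mpr (LinearMap.ext fun x => by
        simp [f.2 x, f₀.2 x])⟩
      invFun := fun g => ⟨g.1 + f₀.1, fun x => by
        have h : g.1 (p.subtype x) = 0 := LinearMap.congr_fun (LinearMap.mem_ker.mp g.2) x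
        simp [f₀.2 x, show g.1 (x : V) = 0 from h]⟩
      left_inv := fun f => Subtype.ext (sub_add_cancel _ _)
      right_inv := fun g => Subtype.ext (add_sub_cancel_right _ _) }
  haveI : Module.Finite F L := inferInstance
  exact ⟨finrank F L, by
    rw [Nat.card_congr (p.isComplEquivProj.trans e), Module.natCard_eq_pow_finrank (K := F),
      Nat.card_eq_fintype_card]⟩

theorem dvd_card_compl_pairs {r m : ℕ} (hr : r.Prime) (hrq : ¬ r ∣ Fintype.card F)
    (h : r ∣ Nat.card {U : Submodule F V × Submodule F V //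
      IsCompl U.1 U.2 ∧ finrank F U.1 = m}) :
    r ∣ Nat.card {W : Submodule F V // finrank F W = m} := by
  classical
  haveI : Finite V := Module.finite_of_finite F
  haveI : Fintype {W : Submodule F V // finrank F W = m} := Fintype.ofFinite _
  have e : {U : Submodule F V × Submodule F V // IsCompl U.1 U.2 ∧ finrank F U.1 = m} ≃
      Σ W : {W : Submodule F V // finrank F W = m}, {Q : Submodule F V // IsCompl W.1 Q} :=
    { toFun := fun U => ⟨⟨U.1.1, U.2.2⟩, U.1.2, U.2.1⟩
      invFun := fun x => ⟨(x.1.1, x.2.1), x.2.2, x.1.2⟩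
      left_inv := fun _ => rfl
      right_inv := fun _ => rfl }
  rw [Nat.card_congr e, Nat.card_sigma] at h
  -- all fibres have the same cardinality
  by_cases h0 : IsEmpty {W : Submodule F V // finrank F W = m}
  · simp
  · obtain ⟨W₀⟩ := not_isEmpty_iff.mp h0
    obtain ⟨k, hk⟩ := card_compl (F := F) W₀.1
    rw [Finset.sum_congr rfl fun W _ => (show Nat.card {Q : Submodule F V // IsCompl W.1 Q} =
      Fintype.card F ^ k from ?_), Finset.sum_const, Finset.card_univ, smul_eq_mul,
      ← Nat.card_eq_fintype_card (α := {W : Submodule F V // finrank F W = m})] at h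
    · exact (hr.dvd_mul.mp h).resolve_right fun hd => hrq (hr.dvd_of_dvd_pow hd)
    · rw [← hk]
      obtain ⟨C, hC⟩ := Submodule.exists_isCompl W.1
      obtain ⟨C₀, hC₀⟩ := Submodule.exists_isCompl W₀.1
      have hCd : finrank F C = finrank F C₀ := by
        have h1 := Submodule.finrank_add_eq_of_isCompl hC
        have h2 := Submodule.finrank_add_eq_of_isCompl hC₀
        rw [W.2] at h1
        rw [W₀.2] at h2
        omega
      let σ : V ≃ₗ[F] V := (Submodule.prodEquivOfIsCompl _ _ hC).symm ≪≫ₗ
        (LinearEquiv.ofFinrankEq W.1 W₀.1 (by rw [W.2, W₀.2])).prodCongr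
          (LinearEquiv.ofFinrankEq C C₀ hCd) ≪≫ₗ Submodule.prodEquivOfIsCompl _ _ hC₀
      have hσle : W.1.map (σ : V →ₗ[F] V) ≤ W₀.1 := by
        rintro _ ⟨x, hx, rfl⟩
        simp [σ, Submodule.prodEquivOfIsCompl_symm_apply_left _ _ hC ⟨x, hx⟩]
      have hσ : Submodule.orderIsoMapComap σ W.1 = W₀.1 :=
        Submodule.eq_of_le_of_finrank_eq hσle (by
          show finrank F (W.1.map (σ : V →ₗ[F] V)) = _
          rw [LinearEquiv.finrank_map_eq, W.2, W₀.2])
      exact Nat.card_congr ((Submodule.orderIsoMapComap σ).toEquiv.subtypeEquiv fun Q => by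
        rw [← hσ]
        exact (OrderIso.isCompl_iff _))

theorem exists_dvd_sub_of_dvd {q n k r : ℕ} [Fact r.Prime] (hq : 1 < q) (hk : k ≤ n)
    (h : ∀ a, a * P q (n - k) = P q n → r ∣ a) : ∃ j < k, orderOf (q : ZMod r) ∣ n - j := by
  have h' : r ∣ ∏ i ∈ range k, (q ^ (n - i) - 1) :=
    h _ (by rw [mul_comm]; exact P_sub_mul q n k hk)
  obtain ⟨j, hj, hd⟩ := (Prime.dvd_finset_prod_iff (Fact.out : r.Prime).prime _).mp h'
  refine ⟨j, Finset.mem_range.mp hj, orderOf_dvd_of_pow_eq_one ?_⟩
  rw [← ZMod.natCast_eq_zero_iff, Nat.cast_sub (Nat.one_le_pow _ _ (by omega)), Nat.cast_pow,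
    Nat.cast_one, sub_eq_zero] at hd
  exact hd

theorem not_dvd_P {p q : ℕ} (hp : p.Prime) (hpq : p ∣ q) (hq : 1 < q) (n : ℕ) : ¬ p ∣ P q n := by
  intro h
  obtain ⟨j, -, hd⟩ := (Prime.dvd_finset_prod_iff hp.prime _).mp h
  have h1 : p ∣ q ^ (j + 1) := dvd_pow hpq (Nat.succ_ne_zero j)
  have h2 := Nat.dvd_sub h1 hd
  rw [Nat.sub_sub_self (Nat.one_le_pow _ _ (by omega))] at h2
  exact hp.not_dvd_one h2

end Cfsg.Agent.Lib.Elusive.GrassCount
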