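import Mathlib
import Cfsg.Agent.Lib.Elusive.Uniform
import Cfsg.Agent.Lib.Elusive.RootScalar
import Cfsg.Agent.Lib.Elusive.GrassCount

/-!
The two kinds of non-scalar elements of `SL(n, q)` with scalar `r`-th power, `r` prime to `q`, and
the transfer of a question about invariant subspaces to a question about types.
-/

namespace Cfsg.Agent.Lib.Elusive.Linear

open Module

variable {F : Type*} [Field F] [Fintype F] {n r : ℕ}

theorem exists_pow_eq_iff {G : Type*} [CommGroup G] [Finite G] [IsCyclic G] [hr : Fact r.Prime]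
    (hdvd : r ∣ Nat.card G) (s : ℕ) :
    (∃ z : G, z ^ s = 1 ∧ ∀ c : G, c ^ r ≠ z) ↔ r ^ padicValNat r (Nat.card G) ∣ s := by
  obtain ⟨g, hg⟩ := IsCyclic.exists_generator (α := G)
  have hN : Nat.card G ≠ 0 := Nat.card_pos.ne'
  set v := padicValNat r (Nat.card G) with hv
  obtain ⟨N', hN'⟩ : r ^ v ∣ Nat.card G := pow_padicValNat_dvd
  have hord : orderOf g = Nat.card G := orderOf_eq_card_of_forall_mem_zpowers hg
  have hN'r : ¬ r ∣ N' := by
    rintro ⟨u, rfl⟩
    exact pow_succ_padicValNat_not_dvd (p := r) hN ⟨u, by rw [pow_succ, ← hv, hN']; ring⟩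
  constructor
  · rintro ⟨z, hzs, hz⟩
    obtain ⟨k, hk : g ^ k = z⟩ := (mem_powers_iff_mem_zpowers.mpr (hg z))
    subst hk
    rw [← pow_mul, ← orderOf_dvd_iff_pow_eq_one, hord, hN'] at hzs
    have hrk : ¬ r ∣ k := by
      rintro ⟨u, rfl⟩
      exact hz (g ^ u) (by rw [← pow_mul, mul_comm])
    exact (Nat.Coprime.pow_left v ((Nat.Prime.coprime_iff_not_dvd hr.out).mpr hrk)).dvd_of_dvd_mul_left
      ((dvd_mul_right _ _).trans hzs)
  · rintro ⟨u, rfl⟩
    refine ⟨g ^ N', ?_, fun c hc => ?_⟩
    · rw [← pow_mul, ← orderOf_dvd_iff_pow_eq_one, hord, hN']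
      exact ⟨u, by ring⟩
    · obtain ⟨k, hk : g ^ k = c⟩ := (mem_powers_iff_mem_zpowers.mpr (hg c))
      subst hk
      rw [← pow_mul, pow_eq_pow_iff_modEq, hord] at hc
      exact hN'r ((Nat.ModEq.dvd_iff hc hdvd).mp (dvd_mul_left r k))

/-- The arithmetic condition for the absence of elements without eigenvalues. -/
def Cond (q n r : ℕ) : Prop :=
  padicValNat r n ≤ padicValNat r (q - 1) ∧ (r = 2 → Even n → q % 4 = 1)

theorem exists_nonsplit_scalar_iff [hr : Fact r.Prime] (hdvd : r ∣ Fintype.card F - 1)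
    {s : ℕ} (hn : n = r * s) (hn0 : n ≠ 0) :
    (∃ z : F, (∀ c : F, c ^ r ≠ z) ∧ ((-1 : F) ^ (r + 1) * z) ^ s = 1) ↔
      ¬ Cond (Fintype.card F) n r := by
  classical
  have hcard : Nat.card Fˣ = Fintype.card F - 1 := by
    rw [Nat.card_units, Nat.card_eq_fintype_card]
  have hs0 : s ≠ 0 := by rintro rfl; simp [hn] at hn0
  have hv : padicValNat r n = padicValNat r s + 1 := by
    rw [hn, padicValNat.mul hr.out.ne_zero hs0, padicValNat_self, add_comm]
  have hunits : ∀ z : F, z ≠ 0 →
      (∀ c : F, c ^ r ≠ z) → ∀ hz : z ≠ 0, ∀ c : Fˣ, c ^ r ≠ Units.mk0 z hz := by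
    intro z _ h hz c hc
    exact h c (by rw [← Units.val_pow_eq_pow_val, hc, Units.val_mk0])
  have key : (∃ w : Fˣ, w ^ s = 1 ∧ ∀ c : Fˣ, c ^ r ≠ w) ↔
      padicValNat r (Fintype.card F - 1) < padicValNat r n := by
    rw [exists_pow_eq_iff (hcard ▸ hdvd), hcard, hv, padicValNat_dvd_iff_le hs0]
    omega
  rcases eq_or_ne r 2 with h2 | h2
  · subst h2
    have hneg : (-1 : F) ^ (2 + 1) = -1 := by norm_num
    have heven : Even n := hn ▸ even_two_mul s
    by_cases h4 : Fintype.card F % 4 = 1
    · have hsq : IsSquare (-1 : F) := FiniteField.isSquare_neg_one_iff.mpr (by omega)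
      obtain ⟨i, hi⟩ := hsq
      have hi0 : i ≠ 0 := by rintro rfl; simp at hi
      constructor
      · rintro ⟨z, hz, hzs⟩ hc
        have hz0 : -z ≠ 0 := neg_ne_zero.mpr fun h => hz 0 (by simp [h])
        rw [hneg, neg_one_mul] at hzs
        have := key.mp ⟨Units.mk0 (-z) hz0, Units.ext (by simpa using hzs), fun c hc' => hz (c * i) (by
          have := congrArg Units.val hc'
          rw [Units.val_pow_eq_pow_val, Units.val_mk0] at this
          rw [mul_pow, this, pow_two, ← hi]; ring)⟩
        exact (not_lt.mpr hc.1) this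
      · intro hc
        obtain ⟨w, hws, hw⟩ := key.mpr (not_le.mp fun h => hc ⟨h, fun _ _ => h4⟩)
        refine ⟨-w, fun c hc' => ?_, by
          rw [hneg, neg_one_mul, neg_neg, ← Units.val_pow_eq_pow_val, hws, Units.val_one]⟩
        have hc0 : c * i ≠ 0 := mul_ne_zero (by rintro rfl; simp at hc') hi0
        exact hw (Units.mk0 _ hc0) (Units.ext (by
          rw [Units.val_pow_eq_pow_val, Units.val_mk0, mul_pow, hc', pow_two, ← hi]; ring))
    · refine iff_of_true ⟨-1, fun c hc => ?_, by rw [hneg]; simp⟩ fun hc => h4 (hc.2 rfl heven)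
      have hsq : IsSquare (-1 : F) := ⟨c, by rw [← hc, pow_two]⟩
      have := FiniteField.isSquare_neg_one_iff.mp hsq
      have hodd : Fintype.card F % 2 = 1 := by
        have := Fintype.card_pos (α := F)
        omega
      omega
  · have hneg : (-1 : F) ^ (r + 1) = 1 := ((hr.out.odd_of_ne_two h2).add_one).neg_one_pow
    have hC : ¬ Cond (Fintype.card F) n r ↔
        padicValNat r (Fintype.card F - 1) < padicValNat r n := by
      simp [Cond, h2]
    rw [hC, ← key, hneg]
    constructor
    · rintro ⟨z, hz, hzs⟩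
      have hz0 : z ≠ 0 := fun h => hz 0 (by simp [h, hr.out.ne_zero])
      exact ⟨Units.mk0 z hz0, Units.ext (by simpa using hzs), hunits z hz0 hz hz0⟩
    · rintro ⟨w, hws, hw⟩
      refine ⟨w, fun c hc => ?_, by rw [one_mul, ← Units.val_pow_eq_pow_val, hws, Units.val_one]⟩
      have hc0 : c ≠ 0 := by rintro rfl; simp [hr.out.ne_zero] at hc; exact w.ne_zero hc.symm
      exact hw (Units.mk0 c hc0) (Units.ext (by simpa using hc))

theorem exists_sl (g : Module.End F (Fin n → F)) (h : LinearMap.det g = 1) :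
    ∃ x : Matrix.SpecialLinearGroup (Fin n) F, Matrix.toLin' (x : Matrix (Fin n) (Fin n) F) = g :=
  ⟨⟨LinearMap.toMatrix' g, by rw [LinearMap.det_toMatrix', h]⟩, Matrix.toLin'_toMatrix' g⟩

omit [Fintype F] in
theorem eq_smul_one_iff (M : Matrix (Fin n) (Fin n) F) (c : F) :
    M = c • (1 : Matrix (Fin n) (Fin n) F) ↔ Matrix.toLin' M = c • 1 := by
  rw [← Matrix.toLin'.injective.eq_iff, map_smul, Matrix.toLin'_one]
  rfl

omit [Fintype F] in
theorem toLin_pow (x : Matrix.SpecialLinearGroup (Fin n) F) (k : ℕ) :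
    Matrix.toLin' ((x ^ k : Matrix.SpecialLinearGroup (Fin n) F) : Matrix (Fin n) (Fin n) F) =
      Matrix.toLin' (x : Matrix (Fin n) (Fin n) F) ^ k := by
  rw [Matrix.SpecialLinearGroup.coe_pow, Matrix.toLin'_pow]

/-- A question about every non-scalar element of `SL(n, q)` with scalar `r`-th power is a question
about the types. -/
theorem forall_iff [hr : Fact r.Prime] (hrF : (r : F) ≠ 0) (hn : n ≠ 0)
    (P : Module.End F (Fin n → F) → Prop) (Q : ℕ → ℕ → ℕ → Prop)
    (hP : ∀ f μ d e c, IsUniform f μ d → HasType f μ d ⊤ e c → (P f ↔ Q d e c))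
    (hQ1 : ∀ e c, e + c = n → Q 1 e c) :
    (∀ x : Matrix.SpecialLinearGroup (Fin n) F,
      (∃ c : F, ((x ^ r : Matrix.SpecialLinearGroup (Fin n) F) : Matrix (Fin n) (Fin n) F) =
        c • (1 : Matrix (Fin n) (Fin n) F)) →
      (∀ c : F, (x : Matrix (Fin n) (Fin n) F) ≠ c • (1 : Matrix (Fin n) (Fin n) F)) →
      P (Matrix.toLin' (x : Matrix (Fin n) (Fin n) F))) ↔
    ((2 ≤ orderOf (Fintype.card F : ZMod r) → ∀ e s, 1 ≤ s →
        e + s * orderOf (Fintype.card F : ZMod r) = n →
        Q (orderOf (Fintype.card F : ZMod r)) e s) ∧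
      (orderOf (Fintype.card F : ZMod r) = 1 → r ∣ n → ¬ Cond (Fintype.card F) n r →
        Q r 0 (n / r))) := by
  classical
  set i := orderOf (Fintype.card F : ZMod r) with hi
  have hipos : 0 < i := orderOf_card_pos hrF
  have hrank : finrank F (Fin n → F) = n := Module.finrank_fin_fun F
  have hdvd : i = 1 ↔ r ∣ Fintype.card F - 1 := by
    rw [hi, orderOf_eq_one_iff, ← ZMod.natCast_eq_zero_iff, Nat.cast_sub Fintype.card_pos,
      Nat.cast_one, sub_eq_zero]
  -- no scalar is an `r`-th root of unity unless `i = 1`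
  have hroot : i ≠ 1 → ∀ z : F, z ≠ 0 → z ^ r = 1 → z = 1 := by
    intro h z hz hzr
    have h1 : orderOf z ∣ r := orderOf_dvd_of_pow_eq_one hzr
    have h2 : orderOf z ∣ Fintype.card F - 1 :=
      orderOf_dvd_of_pow_eq_one (FiniteField.pow_card_sub_one_eq_one z hz)
    rcases (Nat.dvd_prime hr.out).mp h1 with h3 | h3
    · exact orderOf_eq_one_iff.mp h3
    · exact absurd (hdvd.mpr (h3 ▸ h2)) h
  constructor
  · intro h
    constructor
    · intro hi2 e s hs hes
      obtain ⟨g, hg, hge⟩ := exists_split (V := Fin n → F) hrF e s (by rw [hrank]; exact hes.symm)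
      have hdet : LinearMap.det g = 1 := hroot (by omega) _
        (fun h0 => by simpa [h0, hr.out.ne_zero] using det_pow_eq_one (r := r) hg) (det_pow_eq_one hg)
      obtain ⟨x, hx⟩ := exists_sl g hdet
      have hu : IsUniform g 1 i := isUniform_split hrF one_ne_zero (by rw [one_pow, one_smul, hg])
      have htype : HasType g 1 i ⊤ e s := by
        refine ⟨Inv.top g, by rw [top_inf_eq]; exact hge, by rw [finrank_top, hrank]; omega⟩
      rw [← hP g 1 i e s hu htype, ← hx]
      refine h x ⟨1, ?_⟩ fun c hc => ?_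
      · rw [eq_smul_one_iff, toLin_pow, hx, hg, one_smul]
      · rw [eq_smul_one_iff, hx] at hc
        subst hc
        haveI : Nonempty (Fin n) := Fin.pos_iff_nonempty.mp (Nat.pos_of_ne_zero hn)
        rw [_root_.smul_pow, one_pow] at hg
        have hc1 : c ^ r = 1 := by
          have := congrFun (LinearMap.congr_fun hg (fun _ => 1)) (Classical.arbitrary (Fin n))
          simpa using this
        have hc : c = 1 := hroot (by omega) c (fun h0 => by simp [h0, hr.out.ne_zero] at hc1) hc1
        have htop : End.eigenspace (c • (1 : Module.End F (Fin n → F))) 1 = ⊤ := by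
          rw [eq_top_iff]
          intro v _
          rw [End.mem_eigenspace_iff, hc]
          simp
        rw [htop, finrank_top, hrank] at hge
        have : 0 < s * i := Nat.mul_pos hs hipos
        omega
    · intro hi1 hrn hcond
      obtain ⟨z, hz, hzs⟩ := (exists_nonsplit_scalar_iff (F := F) (hdvd.mp hi1)
        (Nat.mul_div_cancel' hrn).symm hn).mpr hcond
      obtain ⟨g, hg⟩ := exists_nonsplit (V := Fin n → F) hz (n / r)
        (by rw [hrank, Nat.mul_div_cancel' hrn])
      obtain ⟨s, hs, hdet⟩ := nonsplit_det hz hg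
      rw [hrank] at hs
      obtain ⟨x, hx⟩ := exists_sl g (by
        rw [hdet, show s = n / r by rw [hs, Nat.mul_div_cancel_left _ hr.out.pos], hzs])
      have hz0 : z ≠ 0 := fun h0 => hz 0 (by simp [h0, hr.out.ne_zero])
      obtain ⟨hu, hE⟩ := isUniform_nonsplit hrF hz0 hz hg
      have htype : HasType g 0 r ⊤ 0 (n / r) := ⟨Inv.top g, by rw [top_inf_eq, hE, finrank_bot],
        by rw [finrank_top, hrank, zero_add, Nat.div_mul_cancel hrn]⟩
      rw [← hP g 0 r 0 _ hu htype, ← hx]
      refine h x ⟨z, by rw [eq_smul_one_iff, toLin_pow, hx, hg]⟩ fun c hc => ?_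
      rw [eq_smul_one_iff, hx] at hc
      subst hc
      haveI : Nonempty (Fin n) := Fin.pos_iff_nonempty.mp (Nat.pos_of_ne_zero hn)
      rw [_root_.smul_pow, one_pow] at hg
      refine hz c ?_
      have := congrFun (LinearMap.congr_fun hg (fun _ => 1)) (Classical.arbitrary (Fin n))
      simpa using this
  · rintro ⟨hsplit, hnon⟩ x ⟨z, hxz⟩ hns
    set f := Matrix.toLin' (x : Matrix (Fin n) (Fin n) F) with hfdef
    rw [eq_smul_one_iff, toLin_pow, ← hfdef] at hxz
    have hdet : LinearMap.det f = 1 := by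
      rw [hfdef, LinearMap.det_toLin']
      exact x.2
    have hzn : z ^ n = 1 := by
      have := congrArg LinearMap.det hxz
      rw [map_pow, hdet, one_pow, LinearMap.det_smul, map_one, mul_one, hrank] at this
      exact this.symm
    have hz0 : z ≠ 0 := fun h => by simp [h, hn] at hzn
    by_cases hp : ∃ c : F, c ^ r = z
    · obtain ⟨c, rfl⟩ := hp
      have hc : c ≠ 0 := by rintro rfl; simp [hr.out.ne_zero] at hz0
      have hu : IsUniform f c i := isUniform_split hrF hc hxz
      obtain ⟨s, hs⟩ := hu.exists_type (Inv.top f)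
      have hes := hs.2.2
      rw [finrank_top, hrank] at hes
      rw [hP f c i _ s hu hs]
      rcases eq_or_ne i 1 with h1 | h1
      · rw [h1]
        exact hQ1 _ _ (by rw [h1, mul_one] at hes; exact hes.symm)
      · refine hsplit (by omega) _ s ?_ hes.symm
        by_contra h0
        rw [show s = 0 by omega, zero_mul, add_zero] at hes
        have htop : End.eigenspace f c = ⊤ := by
          refine Submodule.eq_top_of_finrank_eq ?_
          rw [hrank]
          conv_rhs => rw [hes, top_inf_eq]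
        refine hns c ((eq_smul_one_iff _ c).mpr (LinearMap.ext fun v => ?_))
        exact End.mem_eigenspace_iff.mp (htop ▸ Submodule.mem_top)
    · push Not at hp
      obtain ⟨hu, hE⟩ := isUniform_nonsplit hrF hz0 hp hxz
      obtain ⟨s, hs, hdet'⟩ := nonsplit_det hp hxz
      rw [hrank] at hs
      have hi1 : i = 1 := by
        by_contra h
        have hinj : Function.Injective (fun u : Fˣ => u ^ r) := by
          intro a b hab
          simp only at hab
          have : ((a / b : Fˣ) : F) = 1 := hroot h _ (Units.ne_zero _) (by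
            rw [← Units.val_pow_eq_pow_val, div_pow, hab, div_self', Units.val_one])
          exact div_eq_one.mp (Units.val_eq_one.mp this)
        obtain ⟨u, hu'⟩ := (Finite.injective_iff_surjective.mp hinj) (Units.mk0 z hz0)
        exact hp u (by rw [← Units.val_pow_eq_pow_val]; exact congrArg Units.val hu')
      have hdiv : n / r = s := by rw [hs, Nat.mul_div_cancel_left _ hr.out.pos]
      rw [hP f 0 r 0 s hu ⟨Inv.top f, by rw [top_inf_eq, hE, finrank_bot],
        by rw [finrank_top, hrank, zero_add, mul_comm, hs]⟩, ← hdiv]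
      exact hnon hi1 ⟨s, hs⟩ ((exists_nonsplit_scalar_iff (F := F) (hdvd.mp hi1) hs hn).mp
        ⟨z, hp, hdet'.symm.trans hdet⟩)

end Cfsg.Agent.Lib.Elusive.Linear
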