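import Mathlib
import Cfsg.Agent.Lib.JordanType.Basic

/-!
Partitions attached to an endomorphism `1 + N` with `N ^ p = 0` in characteristic `p`, and the way
they split along invariant complementary subspaces.
-/

set_option autoImplicit false

namespace Cfsg.Agent.Lib.Elusive.UnipotentType

open Module Cfsg.Agent.Lib.JordanType Polynomial

universe u v

variable {F : Type u} [Field F] {V : Type v} [AddCommGroup V] [Module F V] {N : Module.End F V}

/-- The multiset of block sizes. -/
def parts {κ : Type*} [Fintype κ] (d : κ → ℕ) : Multiset ℕ := Finset.univ.val.map d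

theorem parts_sum {κ : Type*} [Fintype κ] (d : κ → ℕ) : (parts d).sum = ∑ k, d k := rfl

theorem count_parts {κ : Type*} [Fintype κ] (d : κ → ℕ) (j : ℕ) :
    (parts d).count j = (Finset.univ.filter fun k => d k = j).card := by
  rw [parts, Multiset.count_map, Finset.card_def, Finset.filter_val]
  simp only [eq_comm]

theorem finrank_eq {κ : Type*} [Fintype κ] {d : κ → ℕ} (C : Coords N d) :
    finrank F V = ∑ k, d k := by
  classical
  rw [C.E.finrank_eq, finrank_pi, Fintype.card_sigma]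
  simp

theorem parts_unique {κ κ' : Type*} [Fintype κ] [Fintype κ'] {d : κ → ℕ} {d' : κ' → ℕ}
    (C : Coords N d) (C' : Coords N d') (hd : ∀ k, 1 ≤ d k) (hd' : ∀ k, 1 ≤ d' k) :
    parts d = parts d' := by
  ext j
  rw [count_parts, count_parts]
  rcases Nat.eq_zero_or_pos j with rfl | hj
  · rw [Finset.filter_false_of_mem fun k _ => by have := hd k; omega,
      Finset.filter_false_of_mem fun k _ => by have := hd' k; omega]
    rfl
  · exact count_eq (fun i => (C.finrank_ker_pow i).symm.trans (C'.finrank_ker_pow i)) hj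

theorem parts_sum_elim {κ κ' : Type*} [Fintype κ] [Fintype κ'] (d : κ → ℕ) (d' : κ' → ℕ) :
    parts (Sum.elim d d') = parts d + parts d' := by
  show (Finset.univ.disjSum Finset.univ).val.map _ = _
  rw [Finset.val_disjSum, Multiset.map_disjSum]
  rfl

/-- Invariant complementary subspaces split the parts. -/
theorem parts_le_of_inv [FiniteDimensional F V] {κ : Type} [Fintype κ] {d : κ → ℕ}
    (C : Coords N d) (hd : ∀ k, 1 ≤ d k) (hN : IsNilpotent N) {U W : Submodule F V}
    (hc : IsCompl U W) (hU : ∀ x ∈ U, N x ∈ U) (hW : ∀ x ∈ W, N x ∈ W) :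
    ∃ ν, ν ≤ parts d ∧ ν.sum = finrank F U := by
  classical
  obtain ⟨m, hm⟩ := hN
  have hres : ∀ (X : Submodule F V) (hX : ∀ x ∈ X, N x ∈ X), IsNilpotent (N.restrict hX) :=
    fun X hX => Module.End.isNilpotent.restrict hX ⟨m, hm⟩
  obtain ⟨s₁, d₁, hd₁, ⟨C₁⟩⟩ := exists_coords (N.restrict hU) (hres U hU)
  obtain ⟨s₂, d₂, hd₂, ⟨C₂⟩⟩ := exists_coords (N.restrict hW) (hres W hW)
  let P := Submodule.prodEquivOfIsCompl U W hc
  let glue : ((((k : Fin s₁) × Fin (d₁ k)) → F) × (((k : Fin s₂) × Fin (d₂ k)) → F)) ≃ₗ[F]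
      (((k : Fin s₁ ⊕ Fin s₂) × Fin (Sum.elim d₁ d₂ k)) → F) :=
    (LinearEquiv.sumArrowLequivProdArrow _ _ F F).symm ≪≫ₗ
      LinearEquiv.funCongrLeft F F (Equiv.sumSigmaDistrib fun k => Fin (Sum.elim d₁ d₂ k))
  let E := P.symm ≪≫ₗ C₁.E.prodCongr C₂.E ≪≫ₗ glue
  have hl : ∀ (x : V) k i, E x ⟨Sum.inl k, i⟩ = C₁.E (P.symm x).1 ⟨k, i⟩ := fun x k i => rfl
  have hr : ∀ (x : V) k i, E x ⟨Sum.inr k, i⟩ = C₂.E (P.symm x).2 ⟨k, i⟩ := fun x k i => rfl
  have hP : ∀ x, P.symm (N x) = (N.restrict hU (P.symm x).1, N.restrict hW (P.symm x).2) := by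
    intro x
    rw [LinearEquiv.symm_apply_eq]
    show N x = N (P.symm x).1.1 + N (P.symm x).2.1
    rw [← map_add]
    exact congrArg N (P.apply_symm_apply x).symm
  let C' : Coords N (Sum.elim d₁ d₂) :=
    { E := E
      zero' := fun x k h => by
        rcases k with k | k
        · rw [hl, hP]; exact C₁.zero' _ k h
        · rw [hr, hP]; exact C₂.zero' _ k h
      succ' := fun x k i h => by
        rcases k with k | k
        · rw [hl, hl, hP]; exact C₁.succ' _ k i h
        · rw [hr, hr, hP]; exact C₂.succ' _ k i h }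
  have heq := parts_unique C C' hd (fun k => by rcases k with k | k; exacts [hd₁ k, hd₂ k])
  rw [parts_sum_elim] at heq
  exact ⟨parts d₁, heq ▸ Multiset.le_add_right _ _, by rw [parts_sum, ← finrank_eq C₁]⟩

theorem exists_subset_parts {κ : Type*} (s : Multiset κ) (f : κ → ℕ) (ν : Multiset ℕ)
    (h : ν ≤ s.map f) : ∃ t ≤ s, t.map f = ν := by
  induction s using Quotient.inductionOn with
  | h l =>
    induction ν using Quotient.inductionOn with
    | h w =>
      obtain ⟨w', hw', hsub⟩ := (Multiset.coe_le.mp h : w.Subperm (l.map f))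
      obtain ⟨t, ht, rfl⟩ := List.sublist_map_iff.mp hsub
      exact ⟨t, ht.subperm, Multiset.coe_eq_coe.mpr hw'⟩

/-- A sub-multiset of the parts gives invariant complementary subspaces. -/
theorem exists_inv_of_le {κ : Type} [Fintype κ] {d : κ → ℕ} (C : Coords N d) {ν : Multiset ℕ}
    (h : ν ≤ parts d) : ∃ U W : Submodule F V, IsCompl U W ∧ finrank F U = ν.sum ∧
      (∀ x ∈ U, N x ∈ U) ∧ (∀ x ∈ W, N x ∈ W) := by
  classical
  obtain ⟨t, ht, rfl⟩ := exists_subset_parts _ d ν h
  let S : Finset κ := ⟨t, Multiset.nodup_of_le ht Finset.univ.nodup⟩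
  -- vectors supported on a set of blocks
  let sup : Finset κ → Submodule F V := fun T => ⨅ p : {p : (k : κ) × Fin (d k) // p.1 ∉ T},
    LinearMap.ker ((LinearMap.proj p.1).comp C.E.toLinearMap)
  have mem : ∀ T x, x ∈ sup T ↔ ∀ k i, k ∉ T → C.E x ⟨k, i⟩ = 0 := fun T x => by
    simp [sup, Submodule.mem_iInf, Sigma.forall]
  have inv : ∀ T x, x ∈ sup T → N x ∈ sup T := by
    intro T x hx
    rw [mem] at hx ⊢
    rintro k ⟨i, hi⟩ hk
    rcases i with _ | i
    · exact C.zero' x k hi
    · rw [C.succ']; exact hx k _ hk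
  refine ⟨sup S, sup Sᶜ, ?_, ?_, inv _, inv _⟩
  · refine ⟨Submodule.disjoint_def.mpr fun x hx hx' => C.E.map_eq_zero_iff.mp (funext ?_), ?_⟩
    · rintro ⟨k, i⟩
      by_cases hk : k ∈ S
      · exact (mem _ x).mp hx' k i (by simpa using hk)
      · exact (mem _ x).mp hx k i hk
    · rw [codisjoint_iff, eq_top_iff]
      intro x _
      refine Submodule.mem_sup.mpr
        ⟨C.E.symm (fun p => if p.1 ∈ S then C.E x p else 0), (mem _ _).mpr fun k i hk => by simp [hk],
         C.E.symm (fun p => if p.1 ∈ S then 0 else C.E x p), (mem _ _).mpr fun k i hk => by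
           rw [Finset.mem_compl, not_not] at hk; simp [hk], C.E.injective (funext fun p => ?_)⟩
      simp only [map_add, LinearEquiv.apply_symm_apply, Pi.add_apply]
      split <;> simp
  · let L : sup S →ₗ[F] (((k : S) × Fin (d k)) → F) :=
      LinearMap.pi fun p => (LinearMap.proj (⟨p.1.1, p.2⟩ : (k : κ) × Fin (d k))).comp
        (C.E.toLinearMap.comp (sup S).subtype)
    have hL : ∀ x p, L x p = C.E x.1 ⟨p.1.1, p.2⟩ := fun x p => rfl
    have hbij : Function.Bijective L := by
      refine ⟨fun x y hxy => Subtype.ext (C.E.injective (funext fun ⟨k, i⟩ => ?_)), fun c => ?_⟩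
      · by_cases hk : k ∈ S
        · exact congrFun hxy ⟨⟨k, hk⟩, i⟩
        · rw [(mem _ _).mp x.2 k i hk, (mem _ _).mp y.2 k i hk]
      · refine ⟨⟨C.E.symm fun p => if hp : p.1 ∈ S then c ⟨⟨p.1, hp⟩, p.2⟩ else 0,
          (mem _ _).mpr fun k i hk => by simp [hk]⟩, funext fun ⟨⟨k, hk⟩, i⟩ => ?_⟩
        simp [hL, hk]
    rw [(LinearEquiv.ofBijective L hbij).finrank_eq, finrank_pi, Fintype.card_sigma]
    simp only [Fintype.card_fin]
    exact Finset.sum_coe_sort S d

/-- An endomorphism with prescribed parts. -/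
theorem exists_end (n : ℕ) (μ : Multiset ℕ) (hsum : μ.sum = n) :
    ∃ (s : ℕ) (d : Fin s → ℕ) (N : Module.End F (Fin n → F)),
      parts d = μ ∧ Nonempty (Coords N d) := by
  classical
  have hp : parts (μ.toList.get : Fin μ.toList.length → ℕ) = μ := by
    rw [parts, Fin.univ_val_map, List.ofFn_get, Multiset.coe_toList]
  set d : Fin μ.toList.length → ℕ := μ.toList.get with hd
  have hcard : Fintype.card ((k : Fin μ.toList.length) × Fin (d k)) = n := by
    rw [Fintype.card_sigma, ← hsum]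
    conv_rhs => rw [← hp, parts_sum]
    simp
  let L := LinearEquiv.funCongrLeft F F (Fintype.equivFinOfCardEq hcard)
  refine ⟨_, d, L.symm.toLinearMap ∘ₗ (stdCoords (F := F) d).E.symm.toLinearMap ∘ₗ
    (stdCoords (F := F) d).E.toLinearMap ∘ₗ (Matrix.toLin' (Cfsg.jordanTypeMatrix d F - 1)) ∘ₗ
      L.toLinearMap, hp, ⟨⟨L, fun x k h => ?_, fun x k i h => ?_⟩⟩⟩
  · simp only [LinearMap.comp_apply, LinearEquiv.coe_coe, LinearEquiv.apply_symm_apply,
      LinearEquiv.symm_apply_apply]
    exact (stdCoords (F := F) d).zero' (L x) k h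
  · simp only [LinearMap.comp_apply, LinearEquiv.coe_coe, LinearEquiv.apply_symm_apply,
      LinearEquiv.symm_apply_apply]
    exact (stdCoords (F := F) d).succ' (L x) k i h

section CharP

variable (p : ℕ) [hp : Fact p.Prime] [CharP F p]

theorem one_add_pow_char (N : Module.End F V) : (1 + N) ^ p = 1 + N ^ p := by
  obtain ⟨r, hr⟩ := (Commute.one_left N).exists_add_pow_prime_eq hp.out
  have hp0 : (p : Module.End F V) = 0 := by
    rw [← map_natCast (algebraMap F (Module.End F V)), CharP.cast_eq_zero, map_zero]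
  rw [hr, hp0, one_pow]
  simp

theorem sub_one_pow_pred (f : Module.End F V) :
    (f - 1) ^ (p - 1) = ∑ i ∈ Finset.range p, f ^ i := by
  have h : ((X : F[X]) - 1) ^ (p - 1) = ∑ i ∈ Finset.range p, X ^ i := by
    refine mul_right_cancel₀ (X_sub_C_ne_zero (1 : F)) ?_
    rw [map_one, geom_sum_mul, ← pow_succ, Nat.sub_add_cancel hp.out.one_le, sub_pow_char, one_pow]
  simpa [map_sum] using congrArg (aeval f) h

/-- A special linear matrix with prescribed parts at most `p`. -/
theorem exists_sl (n : ℕ) (μ : Multiset ℕ) (hsum : μ.sum = n)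
    (hμ : ∀ a ∈ μ, 0 < a ∧ a ≤ p) (hne : ∃ a ∈ μ, a ≠ 1) :
    ∃ (s : ℕ) (d : Fin s → ℕ) (x : Matrix.SpecialLinearGroup (Fin n) F),
      parts d = μ ∧ (∀ k, 1 ≤ d k) ∧ (∀ k, d k ≤ p) ∧ x ^ p = 1 ∧
      (∀ z : F, (x : Matrix (Fin n) (Fin n) F) ≠ z • (1 : Matrix (Fin n) (Fin n) F)) ∧
      Nonempty (Coords (Matrix.toLin' (x : Matrix (Fin n) (Fin n) F) - 1) d) := by
  classical
  obtain ⟨s, d, N, hd, ⟨C⟩⟩ := exists_end (F := F) n μ hsum
  have hmem : ∀ k, d k ∈ μ := fun k =>
    hd ▸ Multiset.mem_map_of_mem d (Finset.mem_univ k)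
  have hNp : N ^ p = 0 := C.pow_eq_zero_iff.mpr fun k => (hμ _ (hmem k)).2
  have hg : (1 + N) ^ p = 1 := by rw [one_add_pow_char p, hNp, add_zero]
  have hdet : LinearMap.det (1 + N) = 1 := by
    have h := congrArg LinearMap.det hg
    rw [map_pow, map_one] at h
    exact frobenius_inj F p (by simpa [frobenius_def] using h)
  let x : Matrix.SpecialLinearGroup (Fin n) F :=
    ⟨LinearMap.toMatrix' (1 + N), by rw [LinearMap.det_toMatrix', hdet]⟩
  have hx : Matrix.toLin' (x : Matrix (Fin n) (Fin n) F) = 1 + N := Matrix.toLin'_toMatrix' _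
  refine ⟨s, d, x, hd, fun k => (hμ _ (hmem k)).1, fun k => (hμ _ (hmem k)).2, ?_, ?_,
    by rw [hx, add_sub_cancel_left]; exact ⟨C⟩⟩
  · refine Subtype.ext (Matrix.toLin'.injective ?_)
    rw [Matrix.SpecialLinearGroup.coe_pow, Matrix.toLin'_pow, hx, hg,
      Matrix.SpecialLinearGroup.coe_one, Matrix.toLin'_one]
    rfl
  · intro z hz
    have h1 : (1 + N : Module.End F (Fin n → F)) = z • 1 := by
      rw [← hx, hz, map_smul, Matrix.toLin'_one]; rfl
    have hN' : N = (z - 1) • (1 : Module.End F (Fin n → F)) := by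
      refine LinearMap.ext fun v => ?_
      have h2 := LinearMap.congr_fun h1 v
      simp only [LinearMap.add_apply, Module.End.one_apply, LinearMap.smul_apply] at h2 ⊢
      exact (eq_sub_iff_add_eq'.mpr h2).trans (by module)
    have hN0 : N = 0 := by
      rcases eq_or_ne (z - 1) 0 with h0 | h0
      · rw [hN', h0, zero_smul]
      · rw [hN', _root_.smul_pow, one_pow] at hNp
        rcases smul_eq_zero.mp hNp with h | h
        · exact absurd (pow_eq_zero_iff hp.out.ne_zero |>.mp h) h0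
        · rw [hN', h, smul_zero]
    obtain ⟨a, ha, ha1⟩ := hne
    rw [← hd, parts, Multiset.mem_map] at ha
    obtain ⟨k, -, rfl⟩ := ha
    have := (C.pow_eq_zero_iff (j := 1)).mp (by rw [pow_one, hN0]) k
    have := (hμ _ (hmem k)).1
    omega

end CharP

end Cfsg.Agent.Lib.Elusive.UnipotentType
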