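import Mathlib
import Cfsg.Prelude.Def_ClassicalGeometry

/-!
An isometry of an alternating form whose square is scalar permutes a family of orthogonal
hyperbolic planes; for odd characteristic it fixes or swaps two complementary Lagrangians.
-/

set_option autoImplicit false

namespace Cfsg.Agent.Lib.Elusive.SympPlanes

open Module

variable {F V : Type*} [Field F] [AddCommGroup V] [Module F V]
  (B : LinearMap.BilinForm F V) (f : Module.End F V) (z : F)

/-- The hypotheses on the form and the map. -/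
structure SqIsometry : Prop where
  alt : B.IsAlt
  iso : ∀ u v, B (f u) (f v) = B u v
  sq : ∀ v, f (f v) = z • v
  ne : z ≠ 0

/-- An invariant subspace on which the form is nondegenerate. -/
def Good (X : Submodule F V) : Prop :=
  (∀ x ∈ X, f x ∈ X) ∧ ∀ x ∈ X, (∀ y ∈ X, B x y = 0) → x = 0

variable {B f z}

theorem SqIsometry.swap (h : SqIsometry B f z) (u v : V) : B v u = - B u v := by
  have := LinearMap.IsAlt.neg h.alt u v
  linear_combination -this

theorem exists_dual {X : Submodule F V} (hX : Good B f X) {v : V} (hv : v ∈ X) (hv0 : v ≠ 0) :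
    ∃ w ∈ X, B v w = 1 := by
  by_contra hne
  push Not at hne
  refine hv0 (hX.2 v hv fun y hy => ?_)
  by_contra h0
  exact hne ((B v y)⁻¹ • y) (X.smul_mem _ hy) (by rw [map_smul, smul_eq_mul, inv_mul_cancel₀ h0])

/-- The part of `X` orthogonal to a plane. -/
def perpPair (B : LinearMap.BilinForm F V) (X : Submodule F V) (v w : V) : Submodule F V :=
  X ⊓ LinearMap.ker (B v) ⊓ LinearMap.ker (B w)

theorem mem_perpPair {X : Submodule F V} {v w x : V} :
    x ∈ perpPair B X v w ↔ x ∈ X ∧ B v x = 0 ∧ B w x = 0 := by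
  simp [perpPair, and_assoc]

theorem decompose (h : SqIsometry B f z) {X : Submodule F V} {v w : V} (hv : v ∈ X) (hw : w ∈ X)
    (hvw : B v w = 1) {x : V} (hx : x ∈ X) :
    x + B w x • v - B v x • w ∈ perpPair B X v w := by
  refine mem_perpPair.mpr ⟨X.sub_mem (X.add_mem hx (X.smul_mem _ hv)) (X.smul_mem _ hw), ?_, ?_⟩
  · simp [hvw, h.alt v]
  · simp [h.swap v w, hvw, h.alt w]

theorem perpPair_nondeg (h : SqIsometry B f z) {X : Submodule F V} (hX : Good B f X) {v w : V}
    (hv : v ∈ X) (hw : w ∈ X) (hvw : B v w = 1) :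
    ∀ x ∈ perpPair B X v w, (∀ y ∈ perpPair B X v w, B x y = 0) → x = 0 := by
  intro x hx h0
  obtain ⟨hxX, hxv, hxw⟩ := mem_perpPair.mp hx
  refine hX.2 x hxX fun y hy => ?_
  have h1 := h0 _ (decompose h hv hw hvw hy)
  rw [map_sub, map_add, map_smul, map_smul, h.swap v x, h.swap w x, hxv, hxw] at h1
  simpa using h1

theorem perpPair_lt (h : SqIsometry B f z) {X : Submodule F V} {v w : V} (hv : v ∈ X)
    (hvw : B v w = 1) : perpPair B X v w < X := by
  refine lt_of_le_of_ne (fun x hx => (mem_perpPair.mp hx).1) fun he => ?_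
  have hmem : v ∈ perpPair B X v w := by rw [he]; exact hv
  have := (mem_perpPair.mp hmem).2.2
  rw [h.swap v w, hvw] at this
  simp at this

/-- Orthogonal hyperbolic planes spanning `X`, permuted by `f`. -/
structure Planes (B : LinearMap.BilinForm F V) (f : Module.End F V) (X : Submodule F V)
    {ι : Type} (v w : ι → V) (π : Equiv.Perm ι) : Prop where
  invol : π * π = 1
  one : ∀ i, B (v i) (w i) = 1
  orth : ∀ i j, i ≠ j → B (v i) (v j) = 0 ∧ B (v i) (w j) = 0 ∧ B (w i) (w j) = 0
  span : Submodule.span F (Set.range v ∪ Set.range w) = X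
  map_mem : ∀ i, f (v i) ∈ Submodule.span F {v (π i), w (π i)} ∧
    f (w i) ∈ Submodule.span F {v (π i), w (π i)}

theorem Planes.combine (h : SqIsometry B f z) {X Y : Submodule F V} {κ ι : Type} {a b : κ → V}
    {v w : ι → V} {σ : Equiv.Perm κ} {π : Equiv.Perm ι} (hY : Planes B f Y v w π)
    (hσ : σ * σ = 1) (hone : ∀ i, B (a i) (b i) = 1)
    (horth : ∀ i j, i ≠ j → B (a i) (a j) = 0 ∧ B (a i) (b j) = 0 ∧ B (b i) (b j) = 0)
    (hmap : ∀ i, f (a i) ∈ Submodule.span F {a (σ i), b (σ i)} ∧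
      f (b i) ∈ Submodule.span F {a (σ i), b (σ i)})
    (hperp : ∀ y ∈ Y, ∀ i, B (a i) y = 0 ∧ B (b i) y = 0)
    (hsup : Submodule.span F (Set.range a ∪ Set.range b) ⊔ Y = X) :
    Planes B f X (Sum.elim a v) (Sum.elim b w) (Equiv.sumCongr σ π) := by
  have hvY : ∀ i, v i ∈ Y := fun i => hY.span ▸ Submodule.subset_span (Or.inl ⟨i, rfl⟩)
  have hwY : ∀ i, w i ∈ Y := fun i => hY.span ▸ Submodule.subset_span (Or.inr ⟨i, rfl⟩)
  refine ⟨?_, ?_, ?_, ?_, ?_⟩
  · ext (i | i)
    · exact congrArg Sum.inl (Equiv.ext_iff.mp hσ i)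
    · exact congrArg Sum.inr (Equiv.ext_iff.mp hY.invol i)
  · rintro (i | i)
    exacts [hone i, hY.one i]
  · rintro (i | i) (j | j) hij
    · exact horth i j fun e => hij (congrArg Sum.inl e)
    · exact ⟨(hperp _ (hvY j) i).1, (hperp _ (hwY j) i).1, (hperp _ (hwY j) i).2⟩
    · simp only [Sum.elim_inl, Sum.elim_inr]
      rw [h.swap (a j) (v i), h.swap (b j) (v i), h.swap (b j) (w i), (hperp _ (hvY i) j).1,
        (hperp _ (hvY i) j).2, (hperp _ (hwY i) j).2]
      simp
    · exact hY.orth i j fun e => hij (congrArg Sum.inr e)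
  · rw [← hsup, ← hY.span, ← Submodule.span_union, Set.Sum.elim_range, Set.Sum.elim_range]
    congr 1
    ac_rfl
  · rintro (i | i)
    exacts [hmap i, hY.map_mem i]

/-- The invariance of an orthogonal part. -/
theorem perp_inv (h : SqIsometry B f z) {u x : V} (hx : B (f u) x = 0) : B u (f x) = 0 := by
  rw [← h.iso, h.sq, map_smul, hx, smul_zero]

theorem exists_planes [FiniteDimensional F V] (h : SqIsometry B f z) : ∀ k, ∀ X : Submodule F V,
    finrank F X = k → Good B f X →
    ∃ (ι : Type) (_ : Fintype ι) (v w : ι → V) (π : Equiv.Perm ι), Planes B f X v w π := by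
  intro k
  induction k using Nat.strong_induction_on with
  | _ k ih =>
    intro X hk hX
    rcases eq_or_ne X ⊥ with rfl | hne
    · exact ⟨Empty, inferInstance, Empty.elim, Empty.elim, 1, one_mul 1, fun i => i.elim,
        fun i => i.elim, by simp, fun i => i.elim⟩
    -- one plane which is invariant
    have one_plane : ∀ a ∈ X, ∀ b ∈ X, B a b = 1 → f a ∈ Submodule.span F {a, b} →
        f b ∈ Submodule.span F {a, b} →
        ∃ (ι : Type) (_ : Fintype ι) (v w : ι → V) (π : Equiv.Perm ι), Planes B f X v w π := by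
      intro a ha b hb hab hfa hfb
      set Y := perpPair B X a b
      have hperp : ∀ u ∈ Submodule.span F {a, b}, ∀ x ∈ Y, B u x = 0 := by
        intro u hu x hx
        obtain ⟨-, h1, h2⟩ := mem_perpPair.mp hx
        obtain ⟨c, d, rfl⟩ := Submodule.mem_span_pair.mp hu
        simp [h1, h2]
      have hY : Good B f Y := ⟨fun x hx => mem_perpPair.mpr ⟨hX.1 _ (mem_perpPair.mp hx).1,
        perp_inv h (hperp _ hfa x hx), perp_inv h (hperp _ hfb x hx)⟩,
        perpPair_nondeg h hX ha hb hab⟩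
      obtain ⟨ι, hι, v, w, π, hp⟩ := ih (finrank F Y)
        (hk ▸ Submodule.finrank_lt_finrank_of_lt (perpPair_lt h ha hab)) Y rfl hY
      refine ⟨Unit ⊕ ι, inferInstance, _, _, _, hp.combine h (κ := Unit) (σ := 1)
        (a := fun _ => a) (b := fun _ => b) (X := X) (one_mul 1) (fun _ => hab)
        (fun i j hij => absurd (Subsingleton.elim i j) hij) (fun _ => ⟨hfa, hfb⟩)
        (fun y hy _ => (mem_perpPair.mp hy).2) ?_⟩
      rw [Set.range_const, Set.range_const]
      refine le_antisymm (sup_le (Submodule.span_le.mpr ?_) fun y hy => (mem_perpPair.mp hy).1) ?_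
      · rintro y (rfl | rfl)
        exacts [ha, hb]
      · intro x hx
        refine Submodule.mem_sup.mpr ⟨B a x • b - B b x • a, ?_, _, decompose h ha hb hab hx, by abel⟩
        exact Submodule.sub_mem _ (Submodule.smul_mem _ _ (Submodule.subset_span (Or.inr rfl)))
          (Submodule.smul_mem _ _ (Submodule.subset_span (Or.inl rfl)))
    by_cases hT : ∃ v ∈ X, B v (f v) ≠ 0
    · obtain ⟨v, hv, hv'⟩ := hT
      refine one_plane v hv ((B v (f v))⁻¹ • f v) (X.smul_mem _ (hX.1 _ hv))
        (by rw [map_smul, smul_eq_mul, inv_mul_cancel₀ hv']) ?_ ?_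
      · exact Submodule.mem_span_pair.mpr ⟨0, B v (f v), by simp [smul_smul, mul_inv_cancel₀ hv']⟩
      · exact Submodule.mem_span_pair.mpr ⟨(B v (f v))⁻¹ * z, 0, by simp [h.sq, smul_smul]⟩
    push Not at hT
    by_cases hsc : ∀ v ∈ X, ∃ c : F, f v = c • v
    · obtain ⟨a, ha, ha0⟩ := Submodule.exists_mem_ne_zero_of_ne_bot hne
      obtain ⟨b, hb, hab⟩ := exists_dual hX ha ha0
      obtain ⟨c, hc⟩ := hsc a ha
      obtain ⟨c', hc'⟩ := hsc b hb
      exact one_plane a ha b hb hab (hc ▸ Submodule.smul_mem _ _ (Submodule.subset_span (Or.inl rfl)))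
        (hc' ▸ Submodule.smul_mem _ _ (Submodule.subset_span (Or.inr rfl)))
    push Not at hsc
    obtain ⟨v, hv, hv'⟩ := hsc
    -- `B v w = 1` and `B (f v) w = 0`
    obtain ⟨w, hw, hw1, hw0⟩ : ∃ w ∈ X, B v w = 1 ∧ B (f v) w = 0 := by
      obtain ⟨u, hu, huv⟩ : ∃ u ∈ X, B v u = 1 := exists_dual hX hv fun h0 => hv' 0 (by simp [h0])
      by_contra hne
      push Not at hne
      refine hv' (B (f v) u) (eq_of_sub_eq_zero (hX.2 _ (X.sub_mem (hX.1 _ hv) (X.smul_mem _ hv))
        fun y hy => ?_))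
      by_contra h0
      have h1 : B (f v) y - B (f v) u * B v y ≠ 0 := by simpa using h0
      refine hne (u - (B (f v) u / (B (f v) y - B (f v) u * B v y)) • (y - B v y • u))
        (X.sub_mem hu (X.smul_mem _ (X.sub_mem hy (X.smul_mem _ hu)))) (by simp [huv]) ?_
      simp only [map_sub, map_smul, smul_eq_mul]
      rw [show B (f v) y - B v y * B (f v) u = B (f v) y - B (f v) u * B v y by ring,
        div_mul_cancel₀ _ h1, sub_self]
    have hfv := hX.1 _ hv
    have hfw := hX.1 _ hw
    have h1 : B (f v) (f w) = 1 := by rw [h.iso, hw1]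
    have h2 : B v (f w) = 0 := perp_inv h hw0
    set X' := perpPair B X v w
    have hfv' : f v ∈ X' := mem_perpPair.mpr ⟨hfv, hT v hv, by rw [h.swap (f v) w, hw0, neg_zero]⟩
    have hfw' : f w ∈ X' := mem_perpPair.mpr ⟨hfw, h2, hT w hw⟩
    set Y := perpPair B X' (f v) (f w)
    have hX'nd := perpPair_nondeg h hX hv hw hw1
    have hYmem : ∀ x ∈ Y, x ∈ X ∧ B v x = 0 ∧ B w x = 0 ∧ B (f v) x = 0 ∧ B (f w) x = 0 := by
      intro x hx
      obtain ⟨h3, h4, h5⟩ := mem_perpPair.mp hx
      obtain ⟨h6, h7, h8⟩ := mem_perpPair.mp h3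
      exact ⟨h6, h7, h8, h4, h5⟩
    have hY : Good B f Y := by
      refine ⟨fun x hx => ?_, ?_⟩
      · obtain ⟨h6, h7, h8, h4, h5⟩ := hYmem x hx
        exact mem_perpPair.mpr ⟨mem_perpPair.mpr ⟨hX.1 _ h6, perp_inv h h4, perp_inv h h5⟩,
          by rw [h.iso]; exact h7, by rw [h.iso]; exact h8⟩
      · intro x hx h0
        obtain ⟨hx', hxa, hxb⟩ := mem_perpPair.mp hx
        refine hX'nd x hx' fun y hy => ?_
        have h3 := h0 _ (decompose h hfv' hfw' h1 hy)
        rw [map_sub, map_add, map_smul, map_smul, h.swap (f v) x, h.swap (f w) x, hxa, hxb] at h3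
        simpa using h3
    have hlt : Y < X := lt_of_le_of_lt (fun x hx => (mem_perpPair.mp hx).1) (perpPair_lt h hv hw1)
    obtain ⟨ι, hι, a, b, π, hp⟩ := ih (finrank F Y)
      (hk ▸ Submodule.finrank_lt_finrank_of_lt hlt) Y rfl hY
    refine ⟨Bool ⊕ ι, inferInstance, _, _, _, hp.combine h (κ := Bool) (σ := Equiv.boolNot)
      (a := fun e => cond e (f v) v) (b := fun e => cond e (f w) w) (X := X)
      (Equiv.ext fun e => by cases e <;> rfl) (fun e => by cases e; exacts [hw1, h1]) ?_ ?_ ?_ ?_⟩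
    · rintro (_ | _) (_ | _) hij <;> try exact absurd rfl hij
      · exact ⟨hT v hv, h2, hT w hw⟩
      · exact ⟨by simpa [h.swap v (f v)] using hT v hv, hw0, by simpa [h.swap w (f w)] using hT w hw⟩
    · rintro (_ | _)
      · exact ⟨Submodule.subset_span (Or.inl rfl), Submodule.subset_span (Or.inr rfl)⟩
      · exact ⟨Submodule.mem_span_pair.mpr ⟨z, 0, by simp [h.sq]⟩,
          Submodule.mem_span_pair.mpr ⟨0, z, by simp [h.sq]⟩⟩
    · intro y hy e
      obtain ⟨-, h3, h4, h5, h6⟩ := hYmem y hy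
      cases e
      exacts [⟨h3, h4⟩, ⟨h5, h6⟩]
    · refine le_antisymm (sup_le (Submodule.span_le.mpr ?_) fun y hy => (hYmem y hy).1) ?_
      · rintro y (⟨e, rfl⟩ | ⟨e, rfl⟩) <;> cases e
        exacts [hv, hfv, hw, hfw]
      · intro x hx
        set S := Submodule.span F ((Set.range fun e => cond e (f v) v) ∪ Set.range fun e => cond e (f w) w)
        have hvS : v ∈ S := Submodule.subset_span (Or.inl ⟨false, rfl⟩)
        have hfvS : f v ∈ S := Submodule.subset_span (Or.inl ⟨true, rfl⟩)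
        have hwS : w ∈ S := Submodule.subset_span (Or.inr ⟨false, rfl⟩)
        have hfwS : f w ∈ S := Submodule.subset_span (Or.inr ⟨true, rfl⟩)
        set x' := x + B w x • v - B v x • w with hx'
        refine Submodule.mem_sup.mpr ⟨(B v x • w - B w x • v) + (B (f v) x' • f w - B (f w) x' • f v),
          ?_, _, decompose h hfv' hfw' h1 (decompose h hv hw hw1 hx), by rw [hx']; abel⟩
        exact S.add_mem (S.sub_mem (S.smul_mem _ hwS) (S.smul_mem _ hvS))
          (S.sub_mem (S.smul_mem _ hfwS) (S.smul_mem _ hfvS))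

theorem Planes.linearIndependent {X : Submodule F V} {ι : Type} [Fintype ι] {v w : ι → V}
    {π : Equiv.Perm ι} (hp : Planes B f X v w π) (h : SqIsometry B f z) :
    LinearIndependent F (Sum.elim v w) := by
  classical
  rw [Fintype.linearIndependent_iff]
  intro g hg
  simp only [Fintype.sum_sum_type, Sum.elim_inl, Sum.elim_inr] at hg
  rintro (i | i)
  · have := congrArg (fun x => B x (w i)) hg
    simp only [map_add, LinearMap.add_apply, map_sum, LinearMap.sum_apply, map_smul,
      LinearMap.smul_apply, map_zero, LinearMap.zero_apply, smul_eq_mul] at this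
    rwa [Finset.sum_eq_single i (fun j _ hj => by rw [(hp.orth j i hj).2.1, mul_zero]) (by simp),
      hp.one, mul_one, Finset.sum_eq_zero, add_zero] at this
    intro j _
    rcases eq_or_ne j i with rfl | hj
    · rw [h.alt, mul_zero]
    · rw [(hp.orth j i hj).2.2, mul_zero]
  · have := congrArg (fun x => B (v i) x) hg
    simp only [map_add, map_sum, map_smul, map_zero, smul_eq_mul] at this
    rwa [add_comm, Finset.sum_eq_single i (fun j _ hj => by rw [(hp.orth i j hj.symm).2.1, mul_zero])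
      (by simp), hp.one, mul_one, Finset.sum_eq_zero, add_zero] at this
    intro j _
    rcases eq_or_ne j i with rfl | hj
    · rw [h.alt, mul_zero]
    · rw [(hp.orth i j hj.symm).1, mul_zero]

/-- In odd characteristic: complementary totally singular subspaces, fixed or swapped. -/
theorem exists_lagrangians [FiniteDimensional F V] (h : SqIsometry B f z) (h2 : (2 : F) ≠ 0) :
    ∀ k, ∀ X : Submodule F V, finrank F X = k → Good B f X →
    ∃ U W : Submodule F V, U ⊔ W = X ∧ (∀ u ∈ U, ∀ v ∈ U, B u v = 0) ∧ (∀ u ∈ W, ∀ v ∈ W, B u v = 0) ∧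
      (z = 1 → U.map f ≤ U ∧ W.map f ≤ W) ∧ (z ≠ 1 → U.map f ≤ W ∧ W.map f ≤ U) := by
  intro k
  induction k using Nat.strong_induction_on with
  | _ k ih =>
    intro X hk hX
    rcases eq_or_ne X ⊥ with rfl | hne
    · exact ⟨⊥, ⊥, by simp, by simp, by simp, by simp, by simp⟩
    obtain ⟨a, ha, b, hb, hab, hz1, hz2⟩ : ∃ a ∈ X, ∃ b ∈ X, B a b = 1 ∧
        (z = 1 → f a ∈ Submodule.span F {a} ∧ f b ∈ Submodule.span F {b}) ∧
        (z ≠ 1 → f a ∈ Submodule.span F {b} ∧ f b ∈ Submodule.span F {a}) := by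
      by_cases hz : z = 1
      · obtain ⟨v, hv, hv0⟩ := Submodule.exists_mem_ne_zero_of_ne_bot hne
        obtain ⟨a, ha, ha0, c, hc, hfa⟩ :
            ∃ a ∈ X, a ≠ 0 ∧ ∃ c : F, c * c = 1 ∧ f a = c • a := by
          rcases eq_or_ne (v + f v) 0 with h0 | h0
          · exact ⟨v, hv, hv0, -1, by simp, by rw [neg_one_smul]; exact (neg_eq_of_add_eq_zero_right h0).symm⟩
          · exact ⟨v + f v, X.add_mem hv (hX.1 _ hv), h0, 1, one_mul 1,
              by rw [map_add, h.sq, hz, one_smul, one_smul, add_comm]⟩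
        obtain ⟨u, hu, hau⟩ := exists_dual hX ha ha0
        refine ⟨a, ha, (2 : F)⁻¹ • (u + c • f u),
          X.smul_mem _ (X.add_mem hu (X.smul_mem _ (hX.1 _ hu))), ?_, fun _ => ⟨?_, ?_⟩,
          fun hn => absurd hz hn⟩
        · have h3 : B a (f u) = c := by
            have := h.iso a (f u)
            rw [hfa, h.sq, hz, one_smul, map_smul, LinearMap.smul_apply, hau, smul_eq_mul, mul_one] at this
            exact this.symm
          rw [map_smul, map_add, map_smul, hau, h3, smul_eq_mul, smul_eq_mul, hc, one_add_one_eq_two,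
            inv_mul_cancel₀ h2]
        · exact Submodule.mem_span_singleton.mpr ⟨c, hfa.symm⟩
        · refine Submodule.mem_span_singleton.mpr ⟨c, ?_⟩
          rw [map_smul, map_add, map_smul, h.sq, hz, one_smul, smul_comm, smul_add, smul_smul, hc,
            one_smul, add_comm]
      · obtain ⟨a, ha, hd⟩ : ∃ v ∈ X, B v (f v) ≠ 0 := by
          by_contra hne'
          push Not at hne'
          obtain ⟨v, hv, hv0⟩ := Submodule.exists_mem_ne_zero_of_ne_bot hne
          obtain ⟨u, hu, hvu⟩ := exists_dual hX (hX.1 _ hv) (fun h0 => hv0 (by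
            have := congrArg f h0
            rw [h.sq, map_zero, smul_eq_zero] at this
            exact this.resolve_left h.ne))
          have hs := hne' (v + u) (X.add_mem hv hu)
          have hvfu : B v (f u) = z := by
            have := h.iso v (f u)
            rw [h.sq, map_smul, smul_eq_mul, hvu, mul_one] at this
            exact this.symm
          simp only [map_add, LinearMap.add_apply, hne' v hv, hne' u hu, hvfu, h.swap (f v) u, hvu] at hs
          exact hz (by linear_combination hs)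
        refine ⟨a, ha, (B a (f a))⁻¹ • f a, X.smul_mem _ (hX.1 _ ha),
          by rw [map_smul, smul_eq_mul, inv_mul_cancel₀ hd], fun h' => absurd h' hz,
          fun _ => ⟨Submodule.mem_span_singleton.mpr ⟨B a (f a), by simp [smul_smul, mul_inv_cancel₀ hd]⟩,
            Submodule.mem_span_singleton.mpr ⟨(B a (f a))⁻¹ * z, by simp [h.sq, smul_smul]⟩⟩⟩
    set Y := perpPair B X a b
    have hperp : ∀ x ∈ Y, B (f a) x = 0 ∧ B (f b) x = 0 := by
      intro x hx
      obtain ⟨-, h1, h3⟩ := mem_perpPair.mp hx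
      by_cases hz : z = 1
      · obtain ⟨⟨c, hc⟩, ⟨c', hc'⟩⟩ := (hz1 hz).imp Submodule.mem_span_singleton.mp Submodule.mem_span_singleton.mp
        simp [← hc, ← hc', h1, h3]
      · obtain ⟨⟨c, hc⟩, ⟨c', hc'⟩⟩ := (hz2 hz).imp Submodule.mem_span_singleton.mp Submodule.mem_span_singleton.mp
        simp [← hc, ← hc', h1, h3]
    have hY : Good B f Y := ⟨fun x hx => mem_perpPair.mpr ⟨hX.1 _ (mem_perpPair.mp hx).1,
      perp_inv h (hperp x hx).1, perp_inv h (hperp x hx).2⟩, perpPair_nondeg h hX ha hb hab⟩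
    obtain ⟨U, W, hUW, hU, hW, h1, h3⟩ := ih (finrank F Y)
      (hk ▸ Submodule.finrank_lt_finrank_of_lt (perpPair_lt h ha hab)) Y rfl hY
    have hUY : U ≤ Y := hUW ▸ le_sup_left
    have hWY : W ≤ Y := hUW ▸ le_sup_right
    have hsing : ∀ e : V, (∀ x ∈ Y, B e x = 0) → ∀ T ≤ Y, (∀ u ∈ T, ∀ v ∈ T, B u v = 0) →
        ∀ u ∈ Submodule.span F {e} ⊔ T, ∀ v ∈ Submodule.span F {e} ⊔ T, B u v = 0 := by
      intro e he T hT hT' u hu v hv
      obtain ⟨_, hu1, u', hu', rfl⟩ := Submodule.mem_sup.mp hu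
      obtain ⟨_, hv1, v', hv', rfl⟩ := Submodule.mem_sup.mp hv
      obtain ⟨c, rfl⟩ := Submodule.mem_span_singleton.mp hu1
      obtain ⟨c', rfl⟩ := Submodule.mem_span_singleton.mp hv1
      simp [h.alt e, he _ (hT hv'), h.swap e u', he _ (hT hu'), hT' _ hu' _ hv']
    refine ⟨Submodule.span F {a} ⊔ U, Submodule.span F {b} ⊔ W, ?_,
      hsing a (fun x hx => (mem_perpPair.mp hx).2.1) U hUY hU,
      hsing b (fun x hx => (mem_perpPair.mp hx).2.2) W hWY hW,
      fun hz => ⟨?_, ?_⟩, fun hz => ⟨?_, ?_⟩⟩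
    · refine le_antisymm (sup_le (sup_le ?_ ?_) (sup_le ?_ ?_)) fun x hx => ?_
      · simpa [Submodule.span_singleton_le_iff_mem] using ha
      · exact hUY.trans fun x hx => (mem_perpPair.mp hx).1
      · simpa [Submodule.span_singleton_le_iff_mem] using hb
      · exact hWY.trans fun x hx => (mem_perpPair.mp hx).1
      · obtain ⟨u, hu, w', hw', huw⟩ := Submodule.mem_sup.mp (hUW.ge (decompose h ha hb hab hx))
        refine Submodule.mem_sup.mpr ⟨-(B b x • a) + u, Submodule.mem_sup.mpr ⟨_,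
          Submodule.neg_mem _ (Submodule.smul_mem _ _ (Submodule.mem_span_singleton_self a)), u, hu, rfl⟩,
          B a x • b + w', Submodule.mem_sup.mpr ⟨_,
          Submodule.smul_mem _ _ (Submodule.mem_span_singleton_self b), w', hw', rfl⟩, ?_⟩
        linear_combination (norm := abel) huw
    all_goals rw [Submodule.map_sup, Submodule.map_span, Set.image_singleton]
    all_goals refine sup_le_sup ?_ ?_
    all_goals try rw [Submodule.span_singleton_le_iff_mem]
    exacts [(hz1 hz).1, (h1 hz).1, (hz1 hz).2, (h1 hz).2, (hz2 hz).1, (h3 hz).1, (hz2 hz).2, (h3 hz).2]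

/-- The standard symplectic form as a bilinear map, with a symplectic matrix. -/
theorem standard {m : ℕ} (x : Matrix.symplecticGroup (Fin m) F) {c : F}
    (hx : (x : Matrix (Fin m ⊕ Fin m) (Fin m ⊕ Fin m) F) * x = c • 1) (hm : 0 < m) :
    ∃ B : LinearMap.BilinForm F (Fin m ⊕ Fin m → F),
      (∀ u v, B u v = Cfsg.sympForm m F u v) ∧
      SqIsometry B (Matrix.toLin' (x : Matrix (Fin m ⊕ Fin m) (Fin m ⊕ Fin m) F)) c ∧
      Good B (Matrix.toLin' (x : Matrix (Fin m ⊕ Fin m) (Fin m ⊕ Fin m) F)) ⊤ := by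
  set J := Matrix.J (Fin m) F
  let B := Matrix.toBilin' J
  have hB : ∀ u v, B u v = Cfsg.sympForm m F u v := fun u v => Matrix.toBilin'_apply' J u v
  refine ⟨B, hB, ⟨fun v => ?_, fun u v => ?_, fun v => ?_, ?_⟩, fun _ _ => trivial, fun u _ hu => ?_⟩
  · rw [hB]
    simp [Cfsg.sympForm, Matrix.J, Matrix.mulVec, dotProduct, Matrix.fromBlocks, Fintype.sum_sum_type,
      Matrix.one_apply, mul_comm]
  · rw [hB, hB, Matrix.toLin'_apply, Matrix.toLin'_apply, Cfsg.sympForm, Cfsg.sympForm,
      ← Matrix.vecMul_transpose, ← Matrix.dotProduct_mulVec, Matrix.mulVec_mulVec, Matrix.mulVec_mulVec,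
      SymplecticGroup.mem_iff'.mp x.2]
  · rw [Matrix.toLin'_apply, Matrix.toLin'_apply, Matrix.mulVec_mulVec, hx, Matrix.smul_mulVec,
      Matrix.one_mulVec]
  · rintro rfl
    have hd : IsUnit (x : Matrix (Fin m ⊕ Fin m) (Fin m ⊕ Fin m) F).det := SymplecticGroup.symplectic_det x.2
    haveI : Nonempty (Fin m ⊕ Fin m) := ⟨Sum.inl ⟨0, hm⟩⟩
    rw [zero_smul] at hx
    have := congrArg Matrix.det hx
    rw [Matrix.det_mul, Matrix.det_zero] at this
    exact (hd.mul hd).ne_zero this
  · have hv : Matrix.vecMul u J = 0 := by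
      funext i
      have := hu (Pi.single i 1) trivial
      rwa [hB, Cfsg.sympForm, Matrix.dotProduct_mulVec, dotProduct_single, mul_one] at this
    exact Matrix.vecMul_injective_of_isUnit
      ((Matrix.isUnit_iff_isUnit_det _).2 (Matrix.isUnit_det_J (Fin m) F))
      (hv.trans (Matrix.zero_vecMul _).symm)

end Cfsg.Agent.Lib.Elusive.SympPlanes
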