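import Cfsg.Agent.Lib.Elusive.SympPieces
import Cfsg.Agent.Lib.Elusive.SympPlanes

/-!
Invariant nondegenerate subspaces of isometries of an alternating form: orthogonal complements,
invariant planes of involutions, transitivity on nondegenerate subspaces of a given dimension.
-/

set_option autoImplicit false

namespace Cfsg.Agent.Lib.Elusive.SympInv

open Module Cfsg.Agent.Lib.Symplectic Cfsg.Agent.Lib.Elusive.SympPieces

variable {F V : Type*} [Field F] [AddCommGroup V] [Module F V] [FiniteDimensional F V]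
  {B : V →ₗ[F] V →ₗ[F] F} {f : Module.End F V}

/-- An injective isometry preserves the orthogonal of an invariant subspace. -/
theorem inv_orth (hinj : Function.Injective f) (hiso : ∀ u v, B (f u) (f v) = B u v)
    {W : Submodule F V} (hW : Inv f W) : Inv f (orth B W) := by
  have heq : W.map f = W := Submodule.eq_of_le_of_finrank_eq hW
    (Submodule.equivMapOfInjective f hinj W).finrank_eq.symm
  refine Inv.of_mem fun x hx => mem_orth.mpr fun w hw => ?_
  obtain ⟨w', hw', rfl⟩ := heq.ge hw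
  rw [hiso]
  exact mem_orth.mp hx w' hw'

/-- The orthogonal sum of an invariant nondegenerate subspace and one orthogonal to it. -/
theorem sup_nondeg (hB : IsSympForm B) {P W : Submodule F V} (hP : Nondeg B P) (hW : Nondeg B W)
    (hle : W ≤ orth B P) :
    Nondeg B (P ⊔ W) ∧ finrank F ↥(P ⊔ W) = finrank F P + finrank F W := by
  refine ⟨fun x hx hxy => ?_, finrank_sup_of_disjoint ?_⟩
  · obtain ⟨a, ha, b, hb, rfl⟩ := Submodule.mem_sup.mp hx
    have ha0 : a = 0 := hP a ha fun y hy => by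
      have h1 := hxy y (Submodule.mem_sup_left hy)
      rwa [map_add, LinearMap.add_apply, hB.comm_eq_zero.mp (mem_orth.mp (hle hb) y hy), add_zero] at h1
    have hb0 : b = 0 := hW b hb fun y hy => by
      have h1 := hxy y (Submodule.mem_sup_right hy)
      rwa [ha0, zero_add] at h1
    rw [ha0, hb0, add_zero]
  · exact le_bot_iff.mp ((nondeg_iff_inf_orth hB).mp hP ▸ inf_le_inf_left _ hle)

/-- A pair with a nonzero product spans a nondegenerate plane. -/
theorem plane_nondeg (hB : IsSympForm B) {a b : V} (hab : B a b ≠ 0) :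
    Nondeg B (Submodule.span F {a, b}) ∧ finrank F ↥(Submodule.span F {a, b}) = 2 := by
  classical
  have hnd : Nondeg B (Submodule.span F {a, b}) := by
    intro x hx hxy
    obtain ⟨s, t, rfl⟩ := Submodule.mem_span_pair.mp hx
    have h1 := hxy b (Submodule.subset_span (by simp))
    have h2 := hxy a (Submodule.subset_span (by simp))
    simp [map_add, map_smul, hB.self] at h1 h2
    simp [h1.resolve_right hab, h2.resolve_right (fun h => hab (hB.comm_eq_zero.mp h))]
  refine ⟨hnd, ?_⟩
  have h1 := finrank_span_finset_le_card (R := F) ({a, b} : Finset V)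
  rw [Finset.coe_pair] at h1
  have h2 : finrank F ↥(Submodule.span F ({a, b} : Set V)) ≤ 2 := h1.trans Finset.card_le_two
  have h3 : 0 < finrank F ↥(Submodule.span F ({a, b} : Set V)) := by
    refine Nat.pos_of_ne_zero fun h0 => hab ?_
    have h4 := (Submodule.mem_bot F).mp ((Submodule.finrank_eq_zero.mp h0).le
      (Submodule.subset_span (show a ∈ ({a, b} : Set V) by simp)))
    rw [h4, map_zero, LinearMap.zero_apply]
  obtain ⟨m, hm⟩ := even_finrank_of_nondeg hB hnd
  omega

/-- Away from characteristic two an isometry with scalar square has invariant planes. -/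
theorem exists_plane (hB : IsSympForm B) (h2 : (2 : F) ≠ 0) (hiso : ∀ u v, B (f u) (f v) = B u v)
    {z : F} (hsq : ∀ v, f (f v) = z • v) {X : Submodule F V} (hX : Inv f X) (hnd : Nondeg B X)
    (hne : X ≠ ⊥) :
    ∃ P, P ≤ X ∧ Inv f P ∧ Nondeg B P ∧ finrank F P = 2 := by
  suffices h : ∃ a ∈ X, ∃ b ∈ X, B a b ≠ 0 ∧ f a ∈ Submodule.span F {a, b} ∧
      f b ∈ Submodule.span F {a, b} by
    obtain ⟨a, ha, b, hb, hab, hfa, hfb⟩ := h
    refine ⟨Submodule.span F {a, b}, ?_, ?_, plane_nondeg hB hab⟩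
    · rw [Submodule.span_le]
      rintro x (rfl | rfl)
      exacts [ha, hb]
    · rw [Inv, Submodule.map_span, Submodule.span_le]
      rintro _ ⟨x, (rfl | rfl), rfl⟩
      exacts [hfa, hfb]
  obtain ⟨v, hv, hv0⟩ := Submodule.exists_mem_ne_zero_of_ne_bot hne
  by_cases hz : z = 1
  · obtain ⟨a, ha, ha0, c, hc, hfa⟩ : ∃ a ∈ X, a ≠ 0 ∧ ∃ c : F, c * c = 1 ∧ f a = c • a := by
      rcases eq_or_ne (v + f v) 0 with h0 | h0
      · exact ⟨v, hv, hv0, -1, by simp,
          by rw [neg_one_smul]; exact (neg_eq_of_add_eq_zero_right h0).symm⟩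
      · exact ⟨v + f v, X.add_mem hv (hX.mem hv), h0, 1, one_mul 1,
          by rw [map_add, hsq, hz, one_smul, one_smul, add_comm]⟩
    obtain ⟨u, hu, hau⟩ : ∃ u ∈ X, B a u ≠ 0 := by
      by_contra hcon
      push Not at hcon
      exact ha0 (hnd a ha hcon)
    refine ⟨a, ha, u + c • f u, X.add_mem hu (X.smul_mem _ (hX.mem hu)), ?_, ?_, ?_⟩
    · have h3 : B a (f u) = c * B a u := by
        have h4 := hiso a u
        rw [hfa, map_smul, LinearMap.smul_apply, smul_eq_mul] at h4
        calc B a (f u) = (c * c) * B a (f u) := by rw [hc, one_mul]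
          _ = c * B a u := by rw [mul_assoc, h4]
      rw [map_add, map_smul, smul_eq_mul, h3, ← mul_assoc, hc, one_mul, ← two_mul]
      exact mul_ne_zero h2 hau
    · exact hfa ▸ Submodule.smul_mem _ _ (Submodule.subset_span (by simp))
    · have h5 : f (u + c • f u) = c • (u + c • f u) := by
        rw [map_add, map_smul, hsq, hz, one_smul, smul_add, smul_smul, hc, one_smul, add_comm]
      rw [h5]
      exact Submodule.smul_mem _ _ (Submodule.subset_span (by simp))
  · obtain ⟨a, ha, hd⟩ : ∃ a ∈ X, B a (f a) ≠ 0 := by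
      by_contra hcon
      push Not at hcon
      refine hv0 (hnd v hv fun y hy => ?_)
      -- `B a (f b)` is both symmetric and `z` times itself
      have h1 : ∀ a ∈ X, ∀ b ∈ X, B a (f b) = B (f a) b := fun a ha b hb => by
        have h := hcon (a + b) (X.add_mem ha hb)
        simp only [map_add, LinearMap.add_apply, hcon a ha, hcon b hb, zero_add, add_zero] at h
        rw [hB.swap b (f a)] at h
        linear_combination h
      have h6 := h1 v hv (f y) (hX.mem hy)
      rw [hsq, map_smul, smul_eq_mul, hiso] at h6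
      by_contra h0
      exact hz (mul_right_cancel₀ h0 (h6.trans (one_mul _).symm))
    exact ⟨a, ha, f a, hX.mem ha, hd, Submodule.subset_span (by simp),
      hsq a ▸ Submodule.smul_mem _ _ (Submodule.subset_span (by simp))⟩

/-- Away from characteristic two such an isometry fixes nondegenerate subspaces of every even dimension. -/
theorem exists_inv_of_even (hB : IsSympForm B) (h2 : (2 : F) ≠ 0)
    (hiso : ∀ u v, B (f u) (f v) = B u v) (hinj : Function.Injective f) {z : F}
    (hsq : ∀ v, f (f v) = z • v) :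
    ∀ k, ∀ X : Submodule F V, Inv f X → Nondeg B X → 2 * k ≤ finrank F X →
      ∃ W, W ≤ X ∧ Inv f W ∧ Nondeg B W ∧ finrank F W = 2 * k := by
  intro k
  induction k with
  | zero =>
    exact fun X _ _ _ => ⟨⊥, bot_le, Inv.bot f, fun x hx _ => (Submodule.mem_bot F).mp hx, by simp⟩
  | succ k ih =>
    intro X hX hnd hk
    obtain ⟨P, hPX, hP, hPnd, hPd⟩ := exists_plane hB h2 hiso hsq hX hnd (fun h => by
      rw [h, finrank_bot] at hk
      omega)
    obtain ⟨hY, hsup, hdim⟩ := split hB hPnd hnd hPX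
    obtain ⟨W, hWY, hW, hWnd, hWd⟩ := ih _ (hX.inf (inv_orth hinj hiso hP)) hY (by omega)
    obtain ⟨hnd', hd'⟩ := sup_nondeg hB hPnd hWnd (hWY.trans inf_le_right)
    exact ⟨P ⊔ W, sup_le hPX (hWY.trans inf_le_left), hP.sup hW, hnd', by omega⟩

/-- Isometries are transitive on nondegenerate subspaces of a given dimension. -/
theorem exists_isom_subspace (hB : IsSympForm B) {W W' : Submodule F V} (hW : Nondeg B W)
    (hW' : Nondeg B W') (hdim : finrank F W = finrank F W') :
    ∃ g : Isom B, W.map (g : V ≃ₗ[F] V).toLinearMap = W' := by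
  have hnd : Nondeg B ⊤ := fun x _ hx => hB.nondeg x fun y => hx y trivial
  have hkey : ∀ {W : Submodule F V}, Nondeg B W → Nondeg B (orth B W) ∧ IsCompl W (orth B W) ∧
      finrank F V = finrank F W + finrank F ↥(orth B W) := fun {W} hW => by
    obtain ⟨h1, h2, h3⟩ := split hB hW hnd le_top
    rw [top_inf_eq] at h1 h2 h3
    rw [finrank_top] at h3
    exact ⟨h1, ⟨disjoint_iff.mpr ((nondeg_iff_inf_orth hB).mp hW), codisjoint_iff.mpr h2⟩, h3⟩
  obtain ⟨hY, hc, hd⟩ := hkey hW
  obtain ⟨hY', hc', hd'⟩ := hkey hW'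
  obtain ⟨φ, hφ⟩ := exists_isometry (isSympForm_restr hB hW) (isSympForm_restr hB hW') hdim
  obtain ⟨ψ, hψ⟩ := exists_isometry (isSympForm_restr hB hY) (isSympForm_restr hB hY') (by omega)
  let T : V ≃ₗ[F] V := (Submodule.prodEquivOfIsCompl _ _ hc).symm ≪≫ₗ φ.prodCongr ψ ≪≫ₗ
    Submodule.prodEquivOfIsCompl _ _ hc'
  have hT : ∀ (a : W) (b : orth B W), T ((a : V) + b) = (φ a : V) + ψ b := fun a b => by
    have h1 : (Submodule.prodEquivOfIsCompl _ _ hc).symm ((a : V) + b) = (a, b) := by
      rw [LinearEquiv.symm_apply_eq]; rfl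
    simp [T, h1]
  have hmem : ∀ x, ∃ (a : W) (b : orth B W), x = (a : V) + b := fun x => by
    obtain ⟨a, ha, b, hb, h⟩ := Submodule.mem_sup.mp (hc.sup_eq_top.ge (Submodule.mem_top (x := x)))
    exact ⟨⟨a, ha⟩, ⟨b, hb⟩, h.symm⟩
  have hg : T ∈ Isom B := fun x y => by
    obtain ⟨a, b, rfl⟩ := hmem x
    obtain ⟨a', b', rfl⟩ := hmem y
    rw [hT, hT]
    simp only [map_add, LinearMap.add_apply]
    rw [mem_orth.mp (ψ b').2 _ (φ a).2, hB.comm_eq_zero.mp (mem_orth.mp (ψ b).2 _ (φ a').2),
      mem_orth.mp b'.2 _ a.2, hB.comm_eq_zero.mp (mem_orth.mp b.2 _ a'.2)]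
    congr 1
    · congr 1
      exact hφ a a'
    · congr 1
      exact hψ b b'
  refine ⟨⟨T, hg⟩, Submodule.eq_of_le_of_finrank_eq ?_ (by rw [LinearEquiv.finrank_map_eq, hdim])⟩
  rintro _ ⟨x, hx, rfl⟩
  have h2 := hT ⟨x, hx⟩ 0
  simp only [map_zero, ZeroMemClass.coe_zero, add_zero] at h2
  show T x ∈ W'
  rw [h2]
  exact (φ ⟨x, hx⟩).2

/-- The isometry group of the orthogonal of a nondegenerate subspace embeds in its stabilizer. -/
theorem card_orth_dvd_stabilizer (hB : IsSympForm B) {W : Submodule F V} (hW : Nondeg B W)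
    (S : Subgroup (Isom B)) (hS : ∀ g : Isom B, (∀ x ∈ W, (g : V ≃ₗ[F] V) x = x) → g ∈ S) :
    Nat.card (Isom (restr B (orth B W))) ∣ Nat.card S := by
  have hnd : Nondeg B ⊤ := fun x _ hx => hB.nondeg x fun y => hx y trivial
  obtain ⟨-, h2, -⟩ := split hB hW hnd le_top
  rw [top_inf_eq] at h2
  have hc : IsCompl W (orth B W) := ⟨disjoint_iff.mpr ((nondeg_iff_inf_orth hB).mp hW), codisjoint_iff.mpr h2⟩
  let e := Submodule.prodEquivOfIsCompl _ _ hc
  let ext : (orth B W ≃ₗ[F] orth B W) → (V ≃ₗ[F] V) := fun h =>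
    e.symm ≪≫ₗ (LinearEquiv.refl F W).prodCongr h ≪≫ₗ e
  have hext : ∀ h (a : W) (b : orth B W), ext h ((a : V) + b) = (a : V) + h b := fun h a b => by
    have h1 : e.symm ((a : V) + b) = (a, b) := by rw [LinearEquiv.symm_apply_eq]; rfl
    simp [ext, h1, e]
  have hmem : ∀ x, ∃ (a : W) (b : orth B W), x = (a : V) + b := fun x => by
    obtain ⟨a, ha, b, hb, h⟩ := Submodule.mem_sup.mp (hc.sup_eq_top.ge (Submodule.mem_top (x := x)))
    exact ⟨⟨a, ha⟩, ⟨b, hb⟩, h.symm⟩
  have hiso : ∀ h : Isom (restr B (orth B W)), ext h ∈ Isom B := fun h x y => by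
    obtain ⟨a, b, rfl⟩ := hmem x
    obtain ⟨a', b', rfl⟩ := hmem y
    rw [hext, hext]
    simp only [map_add, LinearMap.add_apply]
    rw [mem_orth.mp ((h : orth B W ≃ₗ[F] orth B W) b').2 _ a.2,
      hB.comm_eq_zero.mp (mem_orth.mp ((h : orth B W ≃ₗ[F] orth B W) b).2 _ a'.2),
      mem_orth.mp b'.2 _ a.2, hB.comm_eq_zero.mp (mem_orth.mp b.2 _ a'.2)]
    congr 2
    exact h.2 b b'
  let Φ : Isom (restr B (orth B W)) →* S :=
    { toFun := fun h => ⟨⟨ext h, hiso h⟩, hS _ fun x hx => by
        have h1 := hext h ⟨x, hx⟩ 0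
        simpa using h1⟩
      map_one' := Subtype.ext (Subtype.ext (LinearEquiv.ext fun x => by
        obtain ⟨a, b, rfl⟩ := hmem x
        show ext _ _ = (a : V) + b
        rw [hext]
        rfl))
      map_mul' := fun h h' => Subtype.ext (Subtype.ext (LinearEquiv.ext fun x => by
        obtain ⟨a, b, rfl⟩ := hmem x
        show ext _ _ = ext h (ext h' _)
        rw [hext, hext, hext]
        rfl)) }
  refine Subgroup.card_dvd_of_injective Φ fun h h' heq => Subtype.ext (LinearEquiv.ext fun b => ?_)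
  have h1 : ext h ((0 : W) + (b : V)) = ext h' ((0 : W) + (b : V)) :=
    congrArg (fun g : S => ((g : Isom B) : V ≃ₗ[F] V) ((0 : W) + (b : V))) heq
  rw [hext, hext, add_right_inj] at h1
  exact Subtype.ext h1

end Cfsg.Agent.Lib.Elusive.SympInv
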