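import Mathlib
import Cfsg.Prelude.Def_GeometricClasses
import Cfsg.Agent.Lib.Elusive.RootScalar

/-!
Ranks of `g - z` for a linear map `g` which is a Kronecker product in some frame.
-/

set_option autoImplicit false

namespace Cfsg.Agent.Lib.Elusive.TensorRank

open Module Matrix
open scoped Kronecker

variable {F : Type*} [Field F] {a b : ℕ}

/-- Contraction of the first factor against `φ`. -/
def contract (φ : Fin a → F) : (Fin a × Fin b → F) →ₗ[F] (Fin b → F) where
  toFun M j := ∑ i, φ i * M (i, j)
  map_add' M N := funext fun j => by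
    simp only [Pi.add_apply, mul_add, Finset.sum_add_distrib]
  map_smul' c M := funext fun j => by
    simp only [Pi.smul_apply, smul_eq_mul, RingHom.id_apply, Finset.mul_sum]
    exact Finset.sum_congr rfl fun i _ => by ring

theorem contract_apply (φ : Fin a → F) (M : Fin a × Fin b → F) (j : Fin b) :
    contract φ M j = ∑ i, φ i * M (i, j) := rfl

theorem contract_kron (φ : Fin a → F) (A : Matrix (Fin a) (Fin a) F) (B : Matrix (Fin b) (Fin b) F)
    (M : Fin a × Fin b → F) :
    contract φ ((A ⊗ₖ B) *ᵥ M) = B *ᵥ contract (Aᵀ *ᵥ φ) M := by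
  funext j
  simp only [contract_apply, mulVec, dotProduct, kroneckerMap_apply, Fintype.sum_prod_type,
    Finset.mul_sum, Finset.sum_mul, transpose_apply]
  conv_lhs => enter [2, i]; rw [Finset.sum_comm]
  rw [Finset.sum_comm]
  refine Finset.sum_congr rfl fun j' _ => ?_
  rw [Finset.sum_comm]
  exact Finset.sum_congr rfl fun i _ => Finset.sum_congr rfl fun i' _ => by ring

/-- The pure tensor with first factor `u`. -/
def pureLeft (u : Fin a → F) : (Fin b → F) →ₗ[F] (Fin a × Fin b → F) where
  toFun y p := u p.1 * y p.2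
  map_add' x y := funext fun p => by simp [mul_add]
  map_smul' c y := funext fun p => by simp [mul_left_comm]

theorem contract_pureLeft (φ u : Fin a → F) (y : Fin b → F) :
    contract φ (pureLeft u y) = (φ ⬝ᵥ u) • y := by
  funext j
  simp only [contract_apply, Pi.smul_apply, smul_eq_mul, dotProduct, Finset.sum_mul]
  exact Finset.sum_congr rfl fun i _ => (mul_assoc _ _ _).symm

theorem exists_of_not_scalar (A : Matrix (Fin a) (Fin a) F) (h : ∀ c : F, A ≠ c • 1) :
    ∃ φ u : Fin a → F, φ ⬝ᵥ u = 0 ∧ φ ⬝ᵥ (A *ᵥ u) = 1 := by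
  classical
  by_contra hcon
  have hline : ∀ u, A *ᵥ u ∈ Submodule.span F {u} := by
    intro u
    by_contra hu
    obtain ⟨f, hf, hker⟩ := Submodule.exists_le_ker_of_notMem hu
    have hdot : ∀ v, (fun i => (f (A *ᵥ u))⁻¹ * f (Pi.single i 1)) ⬝ᵥ v = (f (A *ᵥ u))⁻¹ * f v := by
      intro v
      conv_rhs => rw [pi_eq_sum_univ' v, map_sum, Finset.mul_sum]
      refine Finset.sum_congr rfl fun i _ => ?_
      rw [map_smul, smul_eq_mul]
      ring
    refine hcon ⟨_, u, by rw [hdot, LinearMap.mem_ker.mp (hker (Submodule.mem_span_singleton_self u)), mul_zero],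
      by rw [hdot, inv_mul_cancel₀ hf]⟩
  rcases Nat.eq_zero_or_pos a with rfl | ha
  · exact h 0 (Matrix.ext fun i => i.elim0)
  choose c hc using fun u => Submodule.mem_span_singleton.mp (hline u)
  have hcol : ∀ i j, A i j = if i = j then c (Pi.single j 1) else 0 := fun i j => by
    have h1 := congrFun (hc (Pi.single j 1)) i
    rw [mulVec_single_one] at h1
    simp only [Pi.smul_apply, Pi.single_apply, smul_eq_mul, mul_ite, mul_one, mul_zero, col_apply] at h1
    exact h1.symm
  have hall : ∀ i, c (Pi.single i 1) = c 1 := fun i => by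
    have h1 := congrFun (hc 1) i
    simp only [Pi.smul_apply, Pi.one_apply, smul_eq_mul, mul_one, mulVec, dotProduct, hcol,
      Finset.sum_ite_eq, Finset.mem_univ, if_true] at h1
    exact h1.symm
  exact h (c 1) (Matrix.ext fun i j => by
    rw [hcol, Matrix.smul_apply, Matrix.one_apply, smul_eq_mul, mul_ite, mul_one, mul_zero]
    split <;> simp_all)

/-- A Kronecker product with non-scalar first factor moves many directions. -/
theorem le_finrank_range {A : Matrix (Fin a) (Fin a) F} {B : Matrix (Fin b) (Fin b) F}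
    (hA : ∀ c : F, A ≠ c • 1) (hB : IsUnit B) (z : F) :
    b ≤ finrank F (LinearMap.range (Matrix.toLin' (A ⊗ₖ B) - z • 1)) := by
  obtain ⟨φ, u, hu, hAu⟩ := exists_of_not_scalar A hA
  let L : (Fin b → F) →ₗ[F] (Fin a × Fin b → F) := (Matrix.toLin' (A ⊗ₖ B) - z • 1) ∘ₗ pureLeft u
  have hinj : Function.Injective L := (injective_iff_map_eq_zero L).mpr fun y hy => by
    have h1 := congrArg (contract φ) hy
    simp only [L, LinearMap.comp_apply, LinearMap.sub_apply, LinearMap.smul_apply, Module.End.one_apply,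
      Matrix.toLin'_apply, map_sub, map_smul, contract_kron, contract_pureLeft, hu, zero_smul,
      smul_zero, sub_zero, map_zero] at h1
    rw [dotProduct_mulVec, ← mulVec_transpose] at hAu
    rw [hAu, one_smul] at h1
    exact (Matrix.mulVec_injective_of_isUnit hB) (h1.trans (mulVec_zero B).symm)
  refine le_trans ?_ (Submodule.finrank_mono (LinearMap.range_comp_le_range (pureLeft u) _))
  rw [LinearMap.finrank_range_of_inj hinj, Module.finrank_fin_fun]

section Conj

variable {V : Type*} [AddCommGroup V] [Module F V]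

/-- `g` is, in the frame `L`, the Kronecker product of `A` and `B`. -/
def InFrame (L : (Fin a × Fin b → F) ≃ₗ[F] V) (g : Module.End F V)
    (A : Matrix (Fin a) (Fin a) F) (B : Matrix (Fin b) (Fin b) F) : Prop :=
  ∀ M, g (L M) = L ((A ⊗ₖ B) *ᵥ M)

variable {L : (Fin a × Fin b → F) ≃ₗ[F] V} {g : Module.End F V}
  {A : Matrix (Fin a) (Fin a) F} {B : Matrix (Fin b) (Fin b) F}

theorem InFrame.finrank_range (h : InFrame L g A B) (z : F) :
    finrank F (LinearMap.range (g - z • 1)) =
      finrank F (LinearMap.range (Matrix.toLin' (A ⊗ₖ B) - z • 1)) := by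
  rw [show g - z • 1 = L.toLinearMap ∘ₗ (Matrix.toLin' (A ⊗ₖ B) - z • 1) ∘ₗ L.symm.toLinearMap from
    LinearMap.ext fun v => by
      obtain ⟨M, rfl⟩ := L.surjective v
      simp [h M], LinearMap.range_comp, LinearEquiv.finrank_map_eq,
    LinearMap.range_comp_of_range_eq_top _ (LinearEquiv.range _)]

theorem InFrame.swap (h : InFrame L g A B) :
    InFrame ((LinearEquiv.funCongrLeft F F (Equiv.prodComm (Fin a) (Fin b))).trans L) g B A := by
  intro M
  rw [LinearEquiv.trans_apply, h, LinearEquiv.trans_apply]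
  congr 1
  funext p
  simp only [LinearEquiv.funCongrLeft_apply, LinearMap.funLeft_apply, mulVec, dotProduct,
    kroneckerMap_apply, Equiv.prodComm_apply, Prod.swap, Fintype.sum_prod_type]
  rw [Finset.sum_comm]
  exact Finset.sum_congr rfl fun i _ => Finset.sum_congr rfl fun j _ => by ring

theorem InFrame.pow (h : InFrame L g A B) (k : ℕ) : InFrame L (g ^ k) (A ^ k) (B ^ k) := by
  induction k with
  | zero => intro M; simp
  | succ k ih =>
    intro M
    rw [pow_succ, Module.End.mul_apply, h, ih, Matrix.mulVec_mulVec, ← Matrix.mul_kronecker_mul,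
      ← pow_succ, ← pow_succ]

theorem InFrame.scalar_of_scalar (h : InFrame L g A B) (hB : IsUnit B) (hb : 0 < b) {z : F}
    (hg : g = z • 1) : ∃ c : F, A = c • 1 := by
  by_contra hcon
  push Not at hcon
  have h1 := le_finrank_range hcon hB z
  rw [← h.finrank_range, hg, sub_self, LinearMap.range_zero, finrank_bot] at h1
  omega

/-- If the first factor is scalar, `g` is `a` copies of one map. -/
theorem InFrame.exists_copies (h : InFrame L g A B) {c : F} (hA : A = c • 1) :
    ∃ L' : (Fin a → Fin b → F) ≃ₗ[F] V, ∀ M, g (L' M) = L' fun i => (c • Matrix.toLin' B) (M i) := by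
  refine ⟨((LinearEquiv.curry F F (Fin a) (Fin b)).symm).trans L, fun M => ?_⟩
  rw [LinearEquiv.trans_apply, h, LinearEquiv.trans_apply]
  congr 1
  funext ⟨i, j⟩
  simp [hA, mulVec, dotProduct, kroneckerMap_apply, Fintype.sum_prod_type, Matrix.one_apply,
    Finset.mul_sum, mul_assoc]
  rw [Finset.sum_comm]
  simp

end Conj

section Copies

variable {V W : Type*} [AddCommGroup V] [Module F V] [AddCommGroup W] [Module F W] [FiniteDimensional F W]
  {g : Module.End F V} {h : Module.End F W} {L : (Fin a → W) ≃ₗ[F] V}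

theorem finrank_range_copies (hL : ∀ M, g (L M) = L fun i => h (M i)) (z : F) :
    finrank F (LinearMap.range (g - z • 1)) = a * finrank F (LinearMap.range (h - z • 1)) := by
  let K := LinearMap.piMap fun _ : Fin a => h - z • 1
  have hK : LinearMap.range (g - z • 1) = (LinearMap.range K).map L.toLinearMap := by
    rw [← LinearMap.range_comp, show g - z • 1 = (L.toLinearMap ∘ₗ K) ∘ₗ L.symm.toLinearMap from
      LinearMap.ext fun v => by
        obtain ⟨M, rfl⟩ := L.surjective v
        simp only [LinearMap.sub_apply, LinearMap.smul_apply, Module.End.one_apply, hL, LinearMap.comp_apply,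
          LinearEquiv.coe_coe, LinearEquiv.symm_apply_apply, ← map_smul, ← map_sub]
        rfl,
      LinearMap.range_comp_of_range_eq_top _ (LinearEquiv.range _)]
  let e : (Fin a → LinearMap.range (h - z • 1)) ≃ₗ[F] LinearMap.range K :=
    LinearEquiv.ofBijective
      ((LinearMap.piMap fun _ : Fin a => (LinearMap.range (h - z • 1)).subtype).codRestrict _ fun M =>
        LinearMap.mem_range.mpr ⟨fun i => (M i).2.choose, funext fun i => (M i).2.choose_spec⟩)
      ⟨fun M N hMN => funext fun i => Subtype.ext (congrFun (congrArg Subtype.val hMN) i), by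
        rintro ⟨_, M, rfl⟩
        exact ⟨fun i => ⟨_, M i, rfl⟩, rfl⟩⟩
  rw [hK, LinearEquiv.finrank_map_eq, ← e.finrank_eq, Module.finrank_pi_fintype, Finset.sum_const,
    Finset.card_univ, Fintype.card_fin, smul_eq_mul]

theorem pow_eq_one_copies (hL : ∀ M, g (L M) = L fun i => h (M i)) (ha : 0 < a) {r : ℕ} (hg : g ^ r = 1) :
    h ^ r = 1 := by
  have hk : ∀ k M, (g ^ k) (L M) = L fun i => (h ^ k) (M i) := by
    intro k
    induction k with
    | zero => intro M; rfl
    | succ k ih => intro M; rw [pow_succ, Module.End.mul_apply, hL, ih]; rfl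
  refine LinearMap.ext fun w => ?_
  have h1 := hk r fun _ => w
  rw [hg, Module.End.one_apply] at h1
  exact (congrFun (L.injective h1) ⟨0, ha⟩).symm

end Copies

/-- A non-trivial root of unity moves at least one piece. -/
theorem le_rank_root [Fintype F] {V : Type*} [AddCommGroup V] [Module F V] [FiniteDimensional F V]
    {r : ℕ} [Fact r.Prime] (hrF : (r : F) ≠ 0) {g : Module.End F V} (hg : g ^ r = 1) :
    ∃ k, finrank F (LinearMap.range (g - (1 : F) • 1)) = k * orderOf (Fintype.card F : ZMod r) ∧
      (g ≠ 1 → k ≠ 0) := by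
  have hu := isUniform_split (μ := (1 : F)) hrF one_ne_zero (f := g) (by rw [one_pow, one_smul, hg])
  obtain ⟨k, hk⟩ := hu.exists_type (Inv.top g)
  have h1 := hk.2.2
  rw [top_inf_eq, finrank_top] at h1
  have h2 := LinearMap.finrank_range_add_finrank_ker (g - (1 : F) • 1)
  have h3 : LinearMap.ker (g - (1 : F) • 1) = End.eigenspace g (1 : F) := by
    rw [End.eigenspace_def]
  rw [h3] at h2
  refine ⟨k, by omega, fun hne hk0 => hne ?_⟩
  subst hk0
  have h4 : LinearMap.range (g - (1 : F) • 1) = ⊥ := Submodule.finrank_eq_zero.mp (by omega)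
  rw [LinearMap.range_eq_bot, one_smul, sub_eq_zero] at h4
  exact h4

variable {ι : Type} [Fintype ι] [DecidableEq ι]

/-- A member of a tensor stabiliser, or of a conjugate of one, is a Kronecker product in some frame. -/
theorem exists_inFrame (e : ι ≃ Fin a × Fin b) (P : GL ι F) {x g : GL ι F}
    (h : g⁻¹ * x * g ∈ Cfsg.Geo.tensorProductSubgroup a b e P) :
    ∃ (L : (Fin a × Fin b → F) ≃ₗ[F] (ι → F)) (A : GL (Fin a) F) (B : GL (Fin b) F),
      (∀ M, L M = ((g * P : GL ι F) : Matrix ι ι F) *ᵥ (M ∘ e)) ∧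
      InFrame L (Matrix.toLin' (x : Matrix ι ι F)) (A : Matrix (Fin a) (Fin a) F) (B : Matrix (Fin b) (Fin b) F) := by
  obtain ⟨h', ⟨k, ⟨A, B, hk⟩, rfl⟩, hx⟩ := h
  let L : (Fin a × Fin b → F) ≃ₗ[F] (ι → F) :=
    (LinearEquiv.funCongrLeft F F e).trans
      (Matrix.toLinearEquiv' ((g * P : GL ι F) : Matrix ι ι F) (g * P).invertible)
  have hLa : ∀ M, L M = ((g * P : GL ι F) : Matrix ι ι F) *ᵥ (M ∘ e) := fun M => rfl
  refine ⟨L, A, B, hLa, fun M => ?_⟩
  have hx' : x * (g * P) = (g * P) * (Cfsg.Geo.glReindex (F := F) e.symm) k := by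
    have h2 : P * (Cfsg.Geo.glReindex (F := F) e.symm) k * P⁻¹ = g⁻¹ * x * g := hx
    calc x * (g * P) = g * (g⁻¹ * x * g) * P := by group
      _ = _ := by rw [← h2]; group
  rw [Matrix.toLin'_apply, hLa, hLa, mulVec_mulVec, ← Units.val_mul, hx', Units.val_mul, ← mulVec_mulVec]
  congr 1
  show ((Matrix.reindexAlgEquiv F F e.symm) (k : Matrix (Fin a × Fin b) (Fin a × Fin b) F)) *ᵥ _ = _
  rw [Matrix.reindexAlgEquiv_apply, Matrix.reindex_apply, Equiv.symm_symm, Matrix.submatrix_mulVec_equiv,
    hk]
  simp [Function.comp_assoc]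

end Cfsg.Agent.Lib.Elusive.TensorRank
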