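import Cfsg.Agent.Lib.Elusive.SympPieces
import Cfsg.Agent.Lib.Elusive.SympPlanes
import Cfsg.Agent.Lib.Elusive.SympInv
import Cfsg.Agent.Lib.K41.ExtForm.OfMatrix
import Cfsg.Agent.S5980

/-!
Tools for elements of prime order of `Sp_2d(q)` and normalisers of field subalgebras: witnesses of
small rank, families of planes, the order of the symplectic group inside `GL`.
Owner: helper88.
-/

set_option autoImplicit false
open scoped MatrixGroups

namespace Cfsg.Agent.Lib.Elusive.ExtFieldSymp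

open Module Matrix Cfsg.Agent.Lib.Symplectic Cfsg.Agent.Lib.Elusive Cfsg.Agent.Lib.Elusive.SympPieces
  Cfsg.Agent.S5980

variable {F : Type*} [Field F] {d : ℕ}

local notation "V" => (Fin d ⊕ Fin d → F)
local notation "Mat" => Matrix (Fin d ⊕ Fin d) (Fin d ⊕ Fin d) F
local notation "GLd" => GL (Fin d ⊕ Fin d) F

/-- The moved part. -/
noncomputable def mv (x : GLd) : Module.End F V := Matrix.toLin' (x : Mat) - 1

theorem mv_apply (x : GLd) (v : V) : mv x v = (x : Mat) *ᵥ v - v := rfl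

theorem rank_conj (g x : GLd) :
    finrank F (LinearMap.range (mv (g⁻¹ * x * g))) = finrank F (LinearMap.range (mv x)) := by
  have h : ∀ y : GLd, mv y = Matrix.toLin' ((y : Mat) - 1) := fun y => by
    rw [map_sub, Matrix.toLin'_one]; rfl
  rw [h, h]
  show (((g⁻¹ * x * g : GLd) : Mat) - 1).rank = ((x : Mat) - 1).rank
  have h1 : ((g⁻¹ * x * g : GLd) : Mat) - 1 = ((g⁻¹ : GLd) : Mat) * ((x : Mat) - 1) * (g : Mat) := by
    rw [mul_sub, mul_one, sub_mul, ← Units.val_mul, ← Units.val_mul, ← Units.val_mul, inv_mul_cancel,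
      Units.val_one]
  rw [h1, Matrix.rank_mul_eq_left_of_isUnit_det _ _ ((Matrix.isUnit_iff_isUnit_det _).1 g.isUnit),
    Matrix.rank_mul_eq_right_of_isUnit_det _ _ ((Matrix.isUnit_iff_isUnit_det _).1 (g⁻¹).isUnit)]

theorem not_scalar (x : GLd) (h0 : 0 < finrank F (LinearMap.range (mv x)))
    (h1 : finrank F (LinearMap.range (mv x)) < 2 * d) (z : F) : (x : Mat) ≠ z • 1 := by
  intro hx
  have hm : mv x = (z - 1) • (1 : Module.End F V) := LinearMap.ext fun v => by
    rw [mv_apply, hx, Matrix.smul_mulVec, Matrix.one_mulVec, LinearMap.smul_apply, Module.End.one_apply, sub_smul, one_smul]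
  rcases eq_or_ne (z - 1) 0 with hz | hz
  · rw [hm, hz, zero_smul, LinearMap.range_zero, finrank_bot] at h0
    exact h0.ne rfl
  · rw [hm, LinearMap.range_smul _ _ hz, Module.End.one_eq_id, LinearMap.range_id, finrank_top,
      finrank_std] at h1
    exact h1.ne rfl

/-- A conjugate in `N` of a witness. -/
theorem derange {N : Subgroup GLd} {r : ℕ}
    (hall : ∀ x ∈ Cfsg.spGL d F, (∃ z : F, ((x ^ r : GLd) : Mat) = z • (1 : Mat)) →
      (∀ z : F, (x : Mat) ≠ z • (1 : Mat)) → ∃ g ∈ Cfsg.spGL d F, g⁻¹ * x * g ∈ N)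
    {x : GLd} (hx : x ∈ Cfsg.spGL d F) (hxr : x ^ r = 1) {c : ℕ}
    (hc : finrank F (LinearMap.range (mv x)) = c) (hns : ∀ z : F, (x : Mat) ≠ z • 1) :
    ∃ y ∈ N, y ∈ Cfsg.spGL d F ∧ y ^ r = 1 ∧ finrank F (LinearMap.range (mv y)) = c := by
  obtain ⟨g, hg, hgN⟩ := hall x hx ⟨1, by rw [hxr, Units.val_one, one_smul]⟩ hns
  refine ⟨_, hgN, Subgroup.mul_mem _ (Subgroup.mul_mem _ (Subgroup.inv_mem _ hg) hx) hg, ?_,
    (rank_conj g x).trans hc⟩
  have := conj_pow (i := r) (a := g⁻¹) (b := x)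
  rw [inv_inv] at this
  rw [this, hxr, mul_one, inv_mul_cancel]

theorem exists_transvection (p : ℕ) [CharP F p] (hd : 0 < d) :
    ∃ x ∈ Cfsg.spGL d F, x ^ p = 1 ∧ finrank F (LinearMap.range (mv x)) = 1 := by
  have hS := isSympForm_stdForm d F
  let u : V := Pi.single (Sum.inl ⟨0, hd⟩) 1
  have hu0 : u ≠ 0 := by simp [u]
  let t := transv hS u (1 : F)
  have hk : ∀ k : ℕ, t ^ k = transv hS u (k : F) := by
    intro k
    induction k with
    | zero => exact isom_ext fun y => by simp [transv_smul]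
    | succ k ih => rw [pow_succ, ih, transv_mul, Nat.cast_succ]
  obtain ⟨v, hv⟩ := hS.exists_eq_one hu0
  have heq : ∀ y, mv (toGL t) y = stdForm d F y u • u := fun y => by
    rw [mv_apply, toGL_mulVec, transv_smul, one_mul, add_sub_cancel_left]
  refine ⟨_, toGL_mem t, ?_, le_antisymm ((Submodule.finrank_mono (t := Submodule.span F {u}) ?_).trans
    (finrank_span_singleton hu0).le) ?_⟩
  · rw [← map_pow, hk, CharP.cast_eq_zero, show transv hS u (0 : F) = 1 from
      isom_ext fun y => by simp [transv_smul], map_one]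
  · rintro _ ⟨y, rfl⟩
    exact Submodule.mem_span_singleton.mpr ⟨_, (heq y).symm⟩
  · refine Submodule.one_le_finrank_iff.mpr fun h0 => ?_
    rw [LinearMap.range_eq_bot] at h0
    have h1 := heq v
    rw [h0, LinearMap.zero_apply, eq_comm, smul_eq_zero, hS.swap, hv] at h1
    simp [hu0] at h1

theorem exists_diag (h2 : (2 : F) ≠ 0) (hd : 0 < d) :
    ∃ x ∈ Cfsg.spGL d F, x ^ 2 = 1 ∧ finrank F (LinearMap.range (mv x)) = 2 := by
  classical
  let i0 : Fin d ⊕ Fin d := Sum.inl ⟨0, hd⟩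
  let i1 : Fin d ⊕ Fin d := Sum.inr ⟨0, hd⟩
  let w : Fin d ⊕ Fin d → F := fun i => if i = i0 then -1 else if i = i1 then -1 else 1
  have hw : ∀ i, w i * w i = 1 := fun i => by simp only [w]; split_ifs <;> simp
  have hlr : ∀ k, w (Sum.inl k) = w (Sum.inr k) := fun k => by simp [w, i0, i1]
  let x : GLd := ⟨Matrix.diagonal w, Matrix.diagonal w, by rw [Matrix.diagonal_mul_diagonal]; simp [hw],
    by rw [Matrix.diagonal_mul_diagonal]; simp [hw]⟩
  refine ⟨x, fun u v => ?_, Units.ext ?_, ?_⟩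
  · show Cfsg.sympForm d F (Matrix.diagonal w *ᵥ u) (Matrix.diagonal w *ᵥ v) = _
    rw [← stdForm_eq_sympForm, ← stdForm_eq_sympForm, stdForm_apply, stdForm_apply]
    refine Finset.sum_congr rfl fun k _ => ?_
    simp only [Matrix.mulVec_diagonal, ← hlr]
    linear_combination (u (Sum.inr k) * v (Sum.inl k) - u (Sum.inl k) * v (Sum.inr k)) * hw (Sum.inl k)
  · rw [Units.val_pow_eq_pow_val, pow_two, Units.val_one]
    show Matrix.diagonal w * Matrix.diagonal w = 1
    rw [Matrix.diagonal_mul_diagonal]; simp [hw]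
  · have h1 : mv x = Matrix.toLin' (Matrix.diagonal w) - (1 : F) • 1 := by rw [one_smul]; rfl
    have hne : (-1 : F) ≠ 1 := fun h => h2 (by linear_combination -h)
    rw [h1, finrank_range_diag, Nat.card_congr (Equiv.subtypeEquivRight
      (q := fun i => i ∈ ({i0, i1} : Finset (Fin d ⊕ Fin d))) fun i => by
        simp only [w, Finset.mem_insert, Finset.mem_singleton]
        split_ifs with h h' <;> simp [*]),
      Nat.card_eq_fintype_card, Fintype.card_coe, Finset.card_pair (by simp [i0, i1])]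

/-- The order of `spGL`. -/
theorem card_spGL [Fintype F] :
    Nat.card (Cfsg.spGL d F) =
      Fintype.card F ^ (d ^ 2) * ∏ i ∈ Finset.range d, (Fintype.card F ^ (2 * (i + 1)) - 1) := by
  have hinj : Function.Injective (toGL (F := F) (d := d)) := (injective_iff_map_eq_one _).mpr fun g hg =>
    isom_ext fun v => by rw [← toGL_mulVec, hg, Units.val_one, Matrix.one_mulVec, one_smul]
  have hrange : (toGL (F := F) (d := d)).range = Cfsg.spGL d F := by
    refine le_antisymm (by rintro _ ⟨g, rfl⟩; exact toGL_mem g) fun x hx => ?_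
    refine ⟨⟨K41.ExtForm.glEquiv x, fun u v => iso_of_mem hx u v⟩, Units.ext (Matrix.toLin'.injective
      (LinearMap.ext fun v => ?_))⟩
    rw [Matrix.toLin'_apply, Matrix.toLin'_apply, toGL_mulVec]
    rfl
  rw [← hrange, Nat.card_congr (MonoidHom.ofInjective hinj).toEquiv.symm,
    card_isom (isSympForm_stdForm d F) (Nat.card_eq_fintype_card) (finrank_std d F)]

/-- A subgroup of the stabiliser limits the index. -/
theorem index_dvd [Fintype F] {N : Subgroup GLd} {r : ℕ} (hΩ : r ∣ N.relIndex (Cfsg.spGL d F))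
    {H : Type*} [Group H] (φ : H →* GLd) (hφ : Function.Injective φ) (hN : ∀ h, φ h ∈ N)
    (hT : ∀ h, φ h ∈ Cfsg.spGL d F) :
    ∃ t, r ∣ t ∧ Nat.card (Cfsg.spGL d F) = t * Nat.card H := by
  have hle : φ.range ≤ N := by rintro _ ⟨h, rfl⟩; exact hN h
  have hTle : φ.range ≤ Cfsg.spGL d F := by rintro _ ⟨h, rfl⟩; exact hT h
  refine ⟨φ.range.relIndex (Cfsg.spGL d F), hΩ.trans (Subgroup.relIndex_dvd_of_le_left _ hle), ?_⟩
  rw [Nat.card_congr (MonoidHom.ofInjective hφ).toEquiv, Subgroup.relIndex,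
    ← Nat.card_congr (Subgroup.subgroupOfEquivOfLe hTle).toEquiv, Subgroup.index_mul_card]

section Ranges

variable [Fintype F] {r : ℕ} [Fact r.Prime] {x : GL (Fin d ⊕ Fin d) F}

omit [Fintype F] in
theorem lin_pow (hxr : x ^ r = 1) : Matrix.toLin' (x : Mat) ^ r = 1 := by
  rw [← Matrix.toLin'_pow, ← Units.val_pow_eq_pow_val, hxr, Units.val_one, Matrix.toLin'_one]; rfl

omit [Fintype F] in
theorem rootIso (hr2 : r ≠ 2) (hrF : (r : F) ≠ 0) (hx : x ∈ Cfsg.spGL d F) (hxr : x ^ r = 1) :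
    RootIso (stdForm d F) (Matrix.toLin' (x : Mat)) r :=
  ⟨isSympForm_stdForm d F, iso_of_mem hx, lin_pow hxr, hr2, hrF⟩

theorem exists_piece_element (hr2 : r ≠ 2) (hrF : (r : F) ≠ 0)
    (hr : r ∣ Nat.card (Cfsg.spGL d F)) :
    pieceDim (orderOf (Fintype.card F : ZMod r)) ≤ 2 * d ∧ ∃ x ∈ Cfsg.spGL d F, x ^ r = 1 ∧
      finrank F (LinearMap.range (mv x)) = pieceDim (orderOf (Fintype.card F : ZMod r)) := by
  have hrq : ¬ r ∣ Fintype.card F := fun h => hrF (by
    obtain ⟨c, hc⟩ := h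
    have := congrArg (Nat.cast (R := F)) hc
    rw [Nat.cast_mul] at this
    by_contra h0
    obtain ⟨P, hP⟩ := CharP.exists F
    obtain ⟨f, hpp, hf⟩ := FiniteField.card F P
    have hdvd : r ∣ P ^ (f : ℕ) := ⟨c, hf.symm.trans hc⟩
    exact h0 ((CharP.cast_eq_zero_iff F P r).mpr
      ((Nat.prime_dvd_prime_iff_eq Fact.out hpp).mp ((Fact.out : r.Prime).dvd_of_dvd_pow hdvd) ▸ dvd_rfl)))
  have hle : pieceDim (orderOf (Fintype.card F : ZMod r)) ≤ 2 * d := pieceDim_le hrq (by
    rw [card_sp (q := Fintype.card F) Nat.card_eq_fintype_card, ← card_spGL]; exact hr)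
  obtain ⟨c, hc⟩ := (even_pieceDim (orderOf (Fintype.card F : ZMod r))).two_dvd
  obtain ⟨y, hy, hye⟩ := exists_element hr2 hrF d (d - c) 1 (by omega)
  let yI := spEquiv d F y
  have hyl : Matrix.toLin' (toGL yI : Mat) = Matrix.toLin' (y : Mat) :=
    LinearMap.ext fun v => (Matrix.toLin'_apply _ _).trans (toGL_mulVec yI v)
  refine ⟨hle, _, toGL_mem yI, Units.ext (Matrix.toLin'.injective ?_), ?_⟩
  · rw [Units.val_pow_eq_pow_val, Matrix.toLin'_pow, hyl, hy.pow, Units.val_one, Matrix.toLin'_one]; rfl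
  · have h3 := LinearMap.finrank_range_add_finrank_ker (mv (toGL yI))
    have h4 : LinearMap.ker (mv (toGL yI)) = End.eigenspace (Matrix.toLin' (y : Mat)) (1 : F) := by
      rw [End.eigenspace_def, one_smul, mv, hyl]
    rw [h4, hye, finrank_std] at h3
    omega

/-- A piece element is not scalar. -/
theorem piece_not_scalar (hd : 2 ≤ d) (hrF : (r : F) ≠ 0) (hxr : x ^ r = 1)
    (hc : finrank F (LinearMap.range (mv x)) = pieceDim (orderOf (Fintype.card F : ZMod r)))
    (z : F) : (x : Mat) ≠ z • 1 := by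
  set i := orderOf (Fintype.card F : ZMod r) with hi
  have hipos : 0 < i := orderOf_card_pos hrF
  have hcpos : 0 < pieceDim i := by unfold pieceDim; split <;> omega
  rcases Nat.lt_or_ge (pieceDim i) (2 * d) with hlt | hge
  · exact not_scalar x (by omega) (by omega) z
  intro hxz
  haveI : Nonempty (Fin d ⊕ Fin d) := ⟨Sum.inl ⟨0, by omega⟩⟩
  have hzr : z ^ r = 1 := by
    have h1 := congrArg Units.val hxr
    rw [Units.val_pow_eq_pow_val, hxz, _root_.smul_pow, one_pow, Units.val_one] at h1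
    exact smul_left_injective F (one_ne_zero (α := Mat)) (h1.trans (one_smul F 1).symm)
  have hz0 : z ≠ 0 := fun h => by rw [h, zero_pow (Fact.out : r.Prime).ne_zero] at hzr; exact zero_ne_one hzr
  have hz1 : z = 1 := by
    rw [← orderOf_eq_one_iff]
    rcases (Nat.dvd_prime Fact.out).mp (orderOf_dvd_of_pow_eq_one hzr) with h | h
    · exact h
    · exfalso
      have h1 : ((Fintype.card F : ℕ) : ZMod r) = 1 := by
        have h3 := (ZMod.natCast_eq_zero_iff _ _).mpr
          (h ▸ orderOf_dvd_of_pow_eq_one (FiniteField.pow_card_sub_one_eq_one z hz0))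
        rwa [Nat.cast_sub Fintype.card_pos, Nat.cast_one, sub_eq_zero] at h3
      rw [hi, h1, orderOf_one] at hge
      simp [pieceDim] at hge
      omega
  have hm : mv x = 0 := LinearMap.ext fun v => by
    rw [mv_apply, hxz, hz1, one_smul, Matrix.one_mulVec, sub_self, LinearMap.zero_apply]
  rw [hm, LinearMap.range_zero, finrank_bot] at hc
  omega

/-- The moved part of an element of odd order prime to `q`. -/
theorem range_odd (hr2 : r ≠ 2) (hrF : (r : F) ≠ 0) (hx : x ∈ Cfsg.spGL d F) (hxr : x ^ r = 1) :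
    Lib.Elusive.Inv (Matrix.toLin' (x : Mat)) (LinearMap.range (mv x)) ∧
      Nondeg (stdForm d F) (LinearMap.range (mv x)) ∧
      LinearMap.range (mv x) ⊓ End.eigenspace (Matrix.toLin' (x : Mat)) (1 : F) = ⊥ := by
  have h := rootIso hr2 hrF hx hxr
  obtain ⟨Z, hZ, -, hZE, hZnd, -, hdim, hsup⟩ := h.fixed_split (Inv.top _)
    (fun u _ hu => h.symp.nondeg u fun y => hu y trivial)
  have hle : LinearMap.range (mv x) ≤ Z := by
    rintro _ ⟨v, rfl⟩
    obtain ⟨e, he, z, hz, rfl⟩ := Submodule.mem_sup.mp (hsup.ge (Submodule.mem_top (x := v)))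
    have he' : Matrix.toLin' (x : Mat) e = e := by simpa using End.mem_eigenspace_iff.mp he.2
    rw [mv, map_add, LinearMap.sub_apply, LinearMap.sub_apply, he', Module.End.one_apply, sub_self,
      zero_add]
    exact Z.sub_mem (hZ.mem hz) hz
  have heq : LinearMap.range (mv x) = Z := Submodule.eq_of_le_of_finrank_eq hle (by
    have h3 := LinearMap.finrank_range_add_finrank_ker (mv x)
    have h4 : LinearMap.ker (mv x) = End.eigenspace (Matrix.toLin' (x : Mat)) (1 : F) := by
      rw [End.eigenspace_def, one_smul]; rfl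
    rw [h4] at h3
    rw [top_inf_eq, finrank_top] at hdim
    omega)
  rw [heq]
  exact ⟨hZ, hZnd, hZE⟩

omit [Fintype F] in
/-- The moved part of an involution in odd characteristic. -/
theorem range_two (h2 : (2 : F) ≠ 0) (hx : x ∈ Cfsg.spGL d F) (hx2 : x ^ 2 = 1) :
    Nondeg (stdForm d F) (LinearMap.range (mv x)) := by
  have hff : ∀ v, (x : Mat) *ᵥ ((x : Mat) *ᵥ v) = v := fun v => by
    rw [Matrix.mulVec_mulVec, ← Units.val_mul, ← pow_two, hx2, Units.val_one, Matrix.one_mulVec]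
  rintro _ ⟨u, rfl⟩ h
  refine (isSympForm_stdForm d F).nondeg _ fun v => ?_
  have h1 := h (mv x v) ⟨v, rfl⟩
  have h3 := iso_of_mem hx (mv x u) ((x : Mat) *ᵥ v)
  simp only [Matrix.toLin'_apply] at h3
  rw [hff, show (x : Mat) *ᵥ mv x u = -mv x u by rw [mv_apply, Matrix.mulVec_sub, hff, neg_sub],
    map_neg, LinearMap.neg_apply] at h3
  rw [mv_apply x v, map_sub] at h1
  have : (2 : F) * stdForm d F (mv x u) v = 0 := by linear_combination -h3 - h1
  exact (mul_eq_zero.mp this).resolve_left h2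

end Ranges

section Field

variable {k : ℕ} {K : Subalgebra F (Matrix (Fin d ⊕ Fin d) (Fin d ⊕ Fin d) F)}

theorem mulVec_eq_zero (hK : Cfsg.Geo.IsFieldSubalgebra k K) {a : Mat} (ha : a ∈ K) {v : V} (hv : v ≠ 0)
    (h : a *ᵥ v = 0) : a = 0 := by
  by_contra hne
  obtain ⟨b, hb, hab⟩ := hK.inv a ha hne
  apply hv
  rw [← Matrix.one_mulVec v, ← hab, hK.comm a ha b hb, ← Matrix.mulVec_mulVec, h, Matrix.mulVec_zero]

theorem range_inv {x : GLd} (hc : ∀ a ∈ K, (x : Mat) * a = a * (x : Mat)) {a : Mat} (ha : a ∈ K) {w : V}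
    (hw : w ∈ LinearMap.range (mv x)) : a *ᵥ w ∈ LinearMap.range (mv x) := by
  obtain ⟨v, rfl⟩ := hw
  exact ⟨a *ᵥ v, by rw [mv_apply, mv_apply, Matrix.mulVec_sub, Matrix.mulVec_mulVec, Matrix.mulVec_mulVec, hc a ha]⟩

theorem le_one_of_line (hK : Cfsg.Geo.IsFieldSubalgebra k K) {x : GLd}
    (hc : ∀ a ∈ K, (x : Mat) * a = a * (x : Mat)) (h : finrank F (LinearMap.range (mv x)) = 1) : k ≤ 1 := by
  obtain ⟨u, hu, hu0⟩ := Submodule.exists_mem_ne_zero_of_ne_bot (p := LinearMap.range (mv x))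
    (fun h0 => by rw [h0, finrank_bot] at h; exact zero_ne_one h)
  let φ : K →ₗ[F] LinearMap.range (mv x) :=
    { toFun := fun a => ⟨(a : Mat) *ᵥ u, range_inv hc a.2 hu⟩
      map_add' := fun a b => Subtype.ext (by simp [Matrix.add_mulVec])
      map_smul' := fun c a => Subtype.ext (by simp [Matrix.smul_mulVec]) }
  have hφ : Function.Injective φ := (injective_iff_map_eq_zero φ).mpr fun a ha =>
    Subtype.ext (mulVec_eq_zero hK a.2 hu0 (congrArg Subtype.val ha))
  exact hK.finrank_eq ▸ (LinearMap.finrank_le_finrank_of_injective hφ).trans h.le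

/-- Nondegenerate subspaces invariant under a field of self-adjoint elements. -/
theorem two_mul_dvd (hK : Cfsg.Geo.IsFieldSubalgebra k K)
    (hsa : ∀ a ∈ K, ∀ u v, stdForm d F (a *ᵥ u) v = stdForm d F u (a *ᵥ v))
    (halt : ∀ a ∈ K, ∀ v, stdForm d F (a *ᵥ v) v = 0) :
    ∀ n, ∀ W : Submodule F V, finrank F W = n → (∀ a ∈ K, ∀ v ∈ W, a *ᵥ v ∈ W) →
      Nondeg (stdForm d F) W → 2 * k ∣ n := by
  intro n
  induction n using Nat.strong_induction_on with
  | _ n ih =>
    intro W hn hW hnd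
    rcases eq_or_ne W ⊥ with rfl | hne
    · rw [finrank_bot] at hn; exact hn ▸ dvd_zero _
    obtain ⟨u, hu, hu0⟩ := Submodule.exists_mem_ne_zero_of_ne_bot hne
    obtain ⟨v, hv, huv⟩ : ∃ v ∈ W, stdForm d F u v ≠ 0 := by
      by_contra h
      push Not at h
      exact hu0 (hnd u hu h)
    let Φ : K × K →ₗ[F] V :=
      { toFun := fun c => (c.1 : Mat) *ᵥ u + (c.2 : Mat) *ᵥ v
        map_add' := fun c c' => by
          simp only [Prod.fst_add, Prod.snd_add, Subalgebra.coe_add, Matrix.add_mulVec]; abel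
        map_smul' := fun t c => by
          simp only [Prod.smul_fst, Prod.smul_snd, Subalgebra.coe_smul, Matrix.smul_mulVec, smul_add,
            RingHom.id_apply] }
    have hΦ : ∀ c : K × K, Φ c = (c.1 : Mat) *ᵥ u + (c.2 : Mat) *ᵥ v := fun c => rfl
    have hiso : ∀ (w : V), ∀ a ∈ K, ∀ b ∈ K, stdForm d F (a *ᵥ w) (b *ᵥ w) = 0 := fun w a ha b hb => by
      rw [← hsa b hb, Matrix.mulVec_mulVec]
      exact halt _ (K.mul_mem hb ha) w
    have key : ∀ c : K × K, (∀ c' : K × K, stdForm d F (Φ c) (Φ c') = 0) → c = 0 := by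
      rintro ⟨⟨a, ha⟩, b, hb⟩ h
      have h1 : ∀ a' ∈ K, stdForm d F u ((a * a') *ᵥ v) = 0 := fun a' ha' => by
        have h' := h (0, ⟨a', ha'⟩)
        simp only [hΦ, Subalgebra.coe_zero, Matrix.zero_mulVec, zero_add, map_add, LinearMap.add_apply,
          hiso v b hb a' ha', add_zero] at h'
        rwa [← Matrix.mulVec_mulVec, ← hsa a ha]
      have h3 : ∀ b' ∈ K, stdForm d F ((b * b') *ᵥ u) v = 0 := fun b' hb' => by
        have h' := h (⟨b', hb'⟩, 0)
        simp only [hΦ, Subalgebra.coe_zero, Matrix.zero_mulVec, add_zero, map_add, LinearMap.add_apply,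
          hiso u a ha b' hb', zero_add] at h'
        rw [← Matrix.mulVec_mulVec, hsa b hb]
        exact (isSympForm_stdForm d F).comm_eq_zero.mp h'
      refine Prod.ext (Subtype.ext ?_) (Subtype.ext ?_)
      · by_contra hne
        obtain ⟨a', ha', haa⟩ := hK.inv a ha hne
        have := h1 a' ha'
        rw [haa, Matrix.one_mulVec] at this
        exact huv this
      · by_contra hne
        obtain ⟨b', hb', hbb⟩ := hK.inv b hb hne
        have := h3 b' hb'
        rw [hbb, Matrix.one_mulVec] at this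
        exact huv this
    have hinj : Function.Injective Φ := (injective_iff_map_eq_zero Φ).mpr fun c hc =>
      key c fun c' => by rw [hc, map_zero, LinearMap.zero_apply]
    have hPnd : Nondeg (stdForm d F) (LinearMap.range Φ) := by
      rintro _ ⟨c, rfl⟩ h
      rw [key c fun c' => h _ ⟨c', rfl⟩, map_zero]
    have hPW : LinearMap.range Φ ≤ W := by
      rintro _ ⟨c, rfl⟩
      exact W.add_mem (hW _ c.1.2 u hu) (hW _ c.2.2 v hv)
    have hPd : finrank F (LinearMap.range Φ) = 2 * k := by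
      rw [LinearMap.finrank_range_of_inj hinj, Module.finrank_prod,
        show finrank F K = k from hK.finrank_eq, two_mul]
    have hkpos : 0 < 2 * k := by
      rw [← hPd]
      refine Submodule.one_le_finrank_iff.mpr fun h0 => hu0 ?_
      have h1 : Φ (1, 0) ∈ LinearMap.range Φ := ⟨_, rfl⟩
      rw [h0, Submodule.mem_bot, hΦ] at h1
      simpa using h1
    obtain ⟨hY, -, hYd⟩ := split (isSympForm_stdForm d F) hPnd hnd hPW
    have hY' := ih _ (by omega) _ rfl (fun a ha y hy => Submodule.mem_inf.mpr ⟨hW a ha y hy.1, mem_orth.mpr fun w hw => by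
      obtain ⟨c, rfl⟩ := hw
      rw [← hsa a ha]
      refine mem_orth.mp hy.2 _ ⟨(⟨a, ha⟩ * c.1, ⟨a, ha⟩ * c.2), ?_⟩
      rw [hΦ, hΦ, Subalgebra.coe_mul, Subalgebra.coe_mul, Matrix.mulVec_add, Matrix.mulVec_mulVec,
        Matrix.mulVec_mulVec]⟩) hY
    rw [← hn, hYd, hPd]
    exact dvd_add dvd_rfl hY'

theorem comm_of_rank (hK : Cfsg.Geo.IsFieldSubalgebra k K) {x : GLd}
    (hx : x ∈ Cfsg.Geo.subalgebraNormalizer K) (hr : 2 * finrank F (LinearMap.range (mv x)) < 2 * d)
    (a : Mat) (ha : a ∈ K) : (x : Mat) * a = a * (x : Mat) := by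
  set a' := (x : Mat) * a * ((x⁻¹ : GLd) : Mat) with ha'
  have ha'K : a' ∈ K := (hx a).1 ha
  have hxa : (x : Mat) * a = a' * (x : Mat) := by rw [ha', Units.inv_mul_cancel_right]
  have h1 := LinearMap.finrank_range_add_finrank_ker (mv x)
  rw [finrank_std] at h1
  obtain ⟨v, ⟨hv, hav⟩, hv0⟩ := Submodule.exists_mem_ne_zero_of_ne_bot (p := LinearMap.ker (mv x) ⊓ (LinearMap.ker (mv x)).comap (Matrix.toLin' a)) (fun h0 => by
    have h2 := Submodule.finrank_sup_add_finrank_inf_eq (LinearMap.ker (mv x)) ((LinearMap.ker (mv x)).comap (Matrix.toLin' a))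
    have h3 := Submodule.finrank_le (LinearMap.ker (mv x) ⊔ (LinearMap.ker (mv x)).comap (Matrix.toLin' a))
    have h4 : 2 * d ≤ finrank F (LinearMap.range (mv x)) + finrank F ((LinearMap.ker (mv x)).comap (Matrix.toLin' a)) := by
      have h5 := LinearMap.finrank_range_add_finrank_ker (mv x ∘ₗ Matrix.toLin' a)
      rw [LinearMap.ker_comp, finrank_std] at h5
      have := Submodule.finrank_mono (LinearMap.range_comp_le_range (Matrix.toLin' a) (mv x))
      omega
    rw [h0, finrank_bot] at h2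
    rw [finrank_std] at h3
    omega)
  have hv' : (x : Mat) *ᵥ v = v := sub_eq_zero.mp hv
  have hav' : (x : Mat) *ᵥ (a *ᵥ v) = a *ᵥ v := sub_eq_zero.mp hav
  have h : a' - a = 0 := mulVec_eq_zero hK (K.sub_mem ha'K ha) hv0 (by
    rw [Matrix.sub_mulVec, sub_eq_zero]
    calc a' *ᵥ v = a' *ᵥ ((x : Mat) *ᵥ v) := by rw [hv']
      _ = (x : Mat) *ᵥ (a *ᵥ v) := by rw [Matrix.mulVec_mulVec, ← hxa, Matrix.mulVec_mulVec]
      _ = a *ᵥ v := hav')
  rw [hxa, sub_eq_zero.mp h]

theorem comm_of_pow [Fintype F] (hd : 0 < d) (hk : k.Prime) (hK : Cfsg.Geo.IsFieldSubalgebra k K) {x : GLd}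
    (hx : x ∈ Cfsg.Geo.subalgebraNormalizer K) {r : ℕ} (hr : r.Prime) (hrk : r ≠ k) (hxr : x ^ r = 1)
    (a : Mat) (ha : a ∈ K) : (x : Mat) * a = a * (x : Mat) := by
  haveI : Nonempty (Fin d ⊕ Fin d) := ⟨Sum.inl ⟨0, hd⟩⟩
  letI : Field K := K41.ExtForm.fieldOfSub hK
  haveI : Finite K := Finite.of_injective (fun x : K => (x : Mat)) Subtype.val_injective
  let Ψ : Cfsg.Geo.subalgebraNormalizer K →* (K ≃ₐ[F] K) :=
    { toFun := fun g =>
        { toFun := fun c => ⟨((g : GLd) : Mat) * c * (((g : GLd)⁻¹ : GLd) : Mat), (g.2 _).1 c.2⟩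
          invFun := fun c => ⟨(((g : GLd)⁻¹ : GLd) : Mat) * c * ((g : GLd) : Mat), by
            have := ((Cfsg.Geo.subalgebraNormalizer K).inv_mem g.2 _).1 c.2
            rwa [inv_inv] at this⟩
          left_inv := fun c => Subtype.ext (by simp [mul_assoc])
          right_inv := fun c => Subtype.ext (by simp [mul_assoc])
          map_mul' := fun c e => Subtype.ext (by simp [mul_assoc])
          map_add' := fun c e => Subtype.ext (by simp [mul_add, add_mul])
          commutes' := fun t => Subtype.ext (by simp [Algebra.algebraMap_eq_smul_one]) }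
      map_one' := AlgEquiv.ext fun c => Subtype.ext (by simp)
      map_mul' := fun g e => AlgEquiv.ext fun c => Subtype.ext (by simp [mul_assoc]) }
  have h1 : Ψ ⟨x, hx⟩ = 1 := by
    refine orderOf_eq_one_iff.mp (Nat.dvd_one.mp ?_)
    rw [← (Nat.coprime_primes hr hk).mpr hrk]
    refine Nat.dvd_gcd (orderOf_dvd_of_pow_eq_one ?_) ?_
    · rw [← map_pow, show (⟨x, hx⟩ : Cfsg.Geo.subalgebraNormalizer K) ^ r = 1 from Subtype.ext hxr, map_one]
    · have := orderOf_dvd_natCard (Ψ ⟨x, hx⟩)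
      rwa [IsGalois.card_aut_eq_finrank, show finrank F K = k from hK.finrank_eq] at this
  have h2 := congrArg Subtype.val (AlgEquiv.congr_fun h1 ⟨a, ha⟩)
  calc (x : Mat) * a = (x : Mat) * a * ((x⁻¹ : GLd) : Mat) * (x : Mat) := by rw [Units.inv_mul_cancel_right]
    _ = a * (x : Mat) := congrArg (fun c => c * (x : Mat)) h2

theorem exists_sqrt_gen [Fintype F] (hd : 0 < d) (h2 : (2 : F) ≠ 0) (hK : Cfsg.Geo.IsFieldSubalgebra 2 K) :
    ∃ J ∈ K, ∃ δ : F, J * J = δ • 1 ∧ (∀ c : F, δ ≠ c * c) ∧ (∀ c : F, J ≠ c • 1) ∧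
      ∀ a ∈ K, ∃ s t : F, a = s • 1 + t • J := by
  haveI : Nonempty (Fin d ⊕ Fin d) := ⟨Sum.inl ⟨0, hd⟩⟩
  obtain ⟨j, hj, hjs⟩ : ∃ j ∈ K, ∀ c : F, j ≠ c • (1 : Mat) := by
    by_contra h
    push Not at h
    have : (⊤ : Submodule F K) ≤ Submodule.span F {(1 : K)} := fun a _ => by
      obtain ⟨c, hc⟩ := h a a.2
      exact Submodule.mem_span_singleton.mpr ⟨c, Subtype.ext hc.symm⟩
    have h1 := Submodule.finrank_mono this
    rw [finrank_top, hK.finrank_eq] at h1
    have h3 : finrank F (Submodule.span F ({(1 : K)} : Set K)) ≤ 1 :=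
      (finrank_span_le_card ({(1 : K)} : Set K)).trans (by simp)
    omega
  have hli : LinearIndependent F ![(1 : K), ⟨j, hj⟩] := by
    rw [LinearIndependent.pair_iff' (fun h => one_ne_zero (α := Mat) (congrArg Subtype.val h))]
    exact fun a ha => hjs a (congrArg Subtype.val ha).symm
  let bF := basisOfLinearIndependentOfCardEqFinrank hli (by rw [hK.finrank_eq, Fintype.card_fin])
  have hcombo : ∀ a ∈ K, ∃ s t : F, a = s • 1 + t • j := fun a ha => by
    refine ⟨bF.repr ⟨a, ha⟩ 0, bF.repr ⟨a, ha⟩ 1, ?_⟩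
    have := congrArg Subtype.val (bF.sum_repr ⟨a, ha⟩)
    rw [Fin.sum_univ_two] at this
    simpa [bF] using this.symm
  obtain ⟨s, t, hst⟩ := hcombo _ (K.mul_mem hj hj)
  set J := j - (t / 2) • (1 : Mat) with hJ
  have hJK : J ∈ K := K.sub_mem hj (K.smul_mem K.one_mem _)
  have hJs : ∀ c : F, J ≠ c • 1 := fun c hc => hjs (c + t / 2) (by rw [add_smul, ← hc, hJ, sub_add_cancel])
  have hJJ : J * J = (s + t / 2 * (t / 2)) • 1 := by
    rw [hJ, sub_mul, mul_sub, mul_sub, hst, Matrix.smul_mul, Matrix.mul_smul, Matrix.smul_mul,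
      one_mul, mul_one, Matrix.mul_smul, mul_one, smul_smul]
    match_scalars <;> field_simp <;> ring
  refine ⟨J, hJK, _, hJJ, fun c hc => ?_, hJs, fun a ha => ?_⟩
  · have h1 : (J - c • 1) * (J + c • 1) = 0 := by
      rw [sub_mul, mul_add, mul_add, hJJ, hc, Matrix.mul_smul, mul_one, Matrix.smul_mul, one_mul,
        Matrix.smul_mul, one_mul, smul_smul]
      abel
    obtain ⟨y, hy, hy1⟩ := hK.inv _ (K.sub_mem hJK (K.smul_mem K.one_mem c)) (sub_ne_zero.mpr (hJs c))
    refine hJs (-c) ?_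
    have hy2 : y * (J - c • 1) = 1 := (hK.comm y hy _ (K.sub_mem hJK (K.smul_mem K.one_mem c))).trans hy1
    rw [neg_smul, eq_neg_iff_add_eq_zero]
    calc J + c • 1 = y * (J - c • 1) * (J + c • 1) := by rw [hy2, one_mul]
      _ = 0 := by rw [mul_assoc, h1, mul_zero]
  · obtain ⟨s', t', h⟩ := hcombo a ha
    refine ⟨s' + t' * (t / 2), t', ?_⟩
    rw [h, hJ, smul_sub, smul_smul, add_smul]
    abel

theorem mem_of_twist [Finite F] {J : Mat} (hJ : J ∈ K) (hKJ : ∀ a ∈ K, ∃ s t : F, a = s • 1 + t • J)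
    (y : GLd) (s : F) (h : ∀ v, (y : Mat) *ᵥ (J *ᵥ v) = s • (J *ᵥ ((y : Mat) *ᵥ v))) :
    y ∈ Cfsg.Geo.subalgebraNormalizer K := by
  refine K41.ExtForm.mem_normalizer_of_semi K y fun c hc => ?_
  obtain ⟨a, b, rfl⟩ := hKJ c hc
  refine ⟨a • 1 + (b * s) • J, K.add_mem (K.smul_mem K.one_mem _) (K.smul_mem hJ _), fun v => ?_⟩
  simp only [Matrix.add_mulVec, Matrix.smul_mulVec, Matrix.one_mulVec, Matrix.mulVec_add, Matrix.mulVec_smul,
    h, smul_smul]

end Field

section Families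

/-- Families of planes with prescribed Gram matrix and action. -/
theorem exists_family {f : Module.End F V}
    (horth : ∀ W : Submodule F V, Lib.Elusive.Inv f W → Lib.Elusive.Inv f (orth (stdForm d F) W))
    (A : Matrix (Fin 2) (Fin 2) F) (Q : F → Prop)
    (hplane : ∀ X : Submodule F V, Lib.Elusive.Inv f X → Nondeg (stdForm d F) X → X ≠ ⊥ → ∀ κ : F, κ ≠ 0 →
      ∃ u ∈ X, ∃ v ∈ X, ∃ ε : F, Q ε ∧ stdForm d F u v = κ ∧ f u = (ε * A 0 0) • u + (ε * A 1 0) • v ∧
        f v = (ε * A 0 1) • u + (ε * A 1 1) • v) :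
    ∀ (b : ℕ) (κ : Fin b → F), (∀ j, κ j ≠ 0) → ∀ X : Submodule F V, Lib.Elusive.Inv f X →
      Nondeg (stdForm d F) X → finrank F X = 2 * b →
      ∃ (w : Fin 2 × Fin b → V) (ε : Fin b → F), (∀ p, w p ∈ X) ∧ (∀ j, Q (ε j)) ∧
        (∀ j, stdForm d F (w (0, j)) (w (1, j)) = κ j) ∧
        (∀ p p', p.2 ≠ p'.2 → stdForm d F (w p) (w p') = 0) ∧
        (∀ p, f (w p) = ∑ i, (ε p.2 * A i p.1) • w (i, p.2)) := by
  have hB := isSympForm_stdForm d F
  intro b
  induction b with
  | zero =>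
    intro κ _ X _ _ _
    exact ⟨fun p => p.2.elim0, fun j => j.elim0, fun p => p.2.elim0, fun j => j.elim0, fun j => j.elim0,
      fun p => p.2.elim0, fun p => p.2.elim0⟩
  | succ b ih =>
    intro κ hκ X hX hnd hdim
    obtain ⟨u, hu, v, hv, ε₀, hε₀, huv, hfu, hfv⟩ := hplane X hX hnd (fun h => by
      rw [h, finrank_bot] at hdim; omega) (κ 0) (hκ 0)
    obtain ⟨hPnd, hPd⟩ := SympInv.plane_nondeg hB (a := u) (b := v) (by rw [huv]; exact hκ 0)
    set P := Submodule.span F {u, v}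
    have hPinv : Lib.Elusive.Inv f P := Inv.of_mem fun y hy => by
      obtain ⟨s, t, rfl⟩ := Submodule.mem_span_pair.mp hy
      rw [map_add, map_smul, map_smul, hfu, hfv]
      exact P.add_mem (P.smul_mem _ (Submodule.mem_span_pair.mpr ⟨_, _, rfl⟩))
        (P.smul_mem _ (Submodule.mem_span_pair.mpr ⟨_, _, rfl⟩))
    have hPX : P ≤ X := Submodule.span_le.mpr (by rintro _ (rfl | rfl) <;> assumption)
    obtain ⟨hY, -, hYd⟩ := split hB hPnd hnd hPX
    obtain ⟨w, ε, hw, hε, hwκ, hworth, hwf⟩ := ih (fun j => κ j.succ) (fun j => hκ _) _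
      (hX.inf (horth P hPinv)) hY (by omega)
    let W : Fin 2 × Fin (b + 1) → V := fun p =>
      Fin.cases (motive := fun _ => V) (![u, v] p.1) (fun j => w (p.1, j)) p.2
    have hW0 : ∀ i, W (i, 0) = ![u, v] i := fun i => rfl
    have hWs : ∀ i j, W (i, Fin.succ j) = w (i, j) := fun i j => rfl
    have hW0P : ∀ i, W (i, 0) ∈ P := fun i => by
      rw [hW0]; fin_cases i
      · exact Submodule.subset_span (by simp)
      · exact Submodule.subset_span (by simp)
    refine ⟨W, Fin.cons ε₀ ε, ?_, Fin.cases (by simpa using hε₀) (fun j => by simpa using hε j), ?_, ?_, ?_⟩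
    · rintro ⟨i, j⟩
      refine Fin.cases ?_ (fun j => ?_) j
      · exact hPX (hW0P i)
      · rw [hWs]; exact (hw _).1
    · refine Fin.cases ?_ fun j => ?_
      · exact huv
      · exact hwκ j
    · rintro ⟨i, j⟩ ⟨i', j'⟩
      refine Fin.cases ?_ (fun j => ?_) j <;> refine Fin.cases ?_ (fun j' => ?_) j' <;> intro hne
      · exact absurd rfl hne
      · rw [hWs]; exact mem_orth.mp (hw (i', j')).2 _ (hW0P i)
      · rw [hWs]; exact hB.comm_eq_zero.mp (mem_orth.mp (hw (i, j)).2 _ (hW0P i'))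
      · rw [hWs, hWs]; exact hworth _ _ fun h => hne (congrArg Fin.succ h)
    · rintro ⟨i, j⟩
      refine Fin.cases ?_ (fun j => ?_) j
      · simp only [hW0, Fin.cons_zero, Fin.sum_univ_two]
        fin_cases i
        · simpa using hfu
        · simpa using hfv
      · simp only [hWs, Fin.cons_succ]
        exact hwf (i, j)

variable {b : ℕ}

theorem family_li {w : Fin 2 × Fin b → V} {κ : Fin b → F} (hκ : ∀ j, κ j ≠ 0)
    (hwκ : ∀ j, stdForm d F (w (0, j)) (w (1, j)) = κ j)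
    (hworth : ∀ p p', p.2 ≠ p'.2 → stdForm d F (w p) (w p') = 0) : LinearIndependent F w := by
  have hS := isSympForm_stdForm d F
  rw [Fintype.linearIndependent_iff]
  intro c hc
  have h0 : ∀ x : V, ∑ p, c p * stdForm d F (w p) x = 0 := fun x => by
    have := congrArg (fun y => stdForm d F y x) hc
    simpa [map_sum, LinearMap.sum_apply] using this
  rintro ⟨i, j⟩
  fin_cases i
  · have h := h0 (w (1, j))
    rw [Finset.sum_eq_single (0, j)] at h
    · rw [hwκ] at h; exact (mul_eq_zero.mp h).resolve_right (hκ j)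
    · rintro ⟨i', j'⟩ - hne
      rcases eq_or_ne j' j with rfl | hj
      · fin_cases i'
        · exact absurd rfl hne
        · exact mul_eq_zero_of_right _ (hS.self _)
      · exact mul_eq_zero_of_right _ (hworth _ _ hj)
    · simp
  · have h := h0 (w (0, j))
    rw [Finset.sum_eq_single (1, j)] at h
    · rw [hS.swap, hwκ] at h; exact (mul_eq_zero.mp h).resolve_right (neg_ne_zero.mpr (hκ j))
    · rintro ⟨i', j'⟩ - hne
      rcases eq_or_ne j' j with rfl | hj
      · fin_cases i'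
        · exact mul_eq_zero_of_right _ (hS.self _)
        · exact absurd rfl hne
      · exact mul_eq_zero_of_right _ (hworth _ _ hj)
    · simp

/-- The basis of a family of planes filling the space. -/
noncomputable def familyBasis (hb : d = b) {w : Fin 2 × Fin b → V} (hli : LinearIndependent F w) :
    Basis (Fin 2 × Fin b) F V :=
  Basis.mk hli (by
    refine (Submodule.eq_top_of_finrank_eq ?_).ge
    rw [finrank_span_eq_card hli, Fintype.card_prod, Fintype.card_fin, Fintype.card_fin, finrank_std, hb])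

theorem familyBasis_apply (hb : d = b) {w : Fin 2 × Fin b → V} (hli : LinearIndependent F w) (p) :
    familyBasis hb hli p = w p := Basis.mk_apply _ _ _

/-- Two families with the same Gram matrix are conjugate. -/
theorem exists_isom (hb : d = b) {w w' : Fin 2 × Fin b → V} {κ : Fin b → F} (hκ : ∀ j, κ j ≠ 0)
    (hwκ : ∀ j, stdForm d F (w (0, j)) (w (1, j)) = κ j)
    (hworth : ∀ p p', p.2 ≠ p'.2 → stdForm d F (w p) (w p') = 0)
    (hwκ' : ∀ j, stdForm d F (w' (0, j)) (w' (1, j)) = κ j)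
    (hworth' : ∀ p p', p.2 ≠ p'.2 → stdForm d F (w' p) (w' p') = 0) :
    ∃ g ∈ Cfsg.spGL d F, ∀ p, (g : Mat) *ᵥ w' p = w p := by
  have hS := isSympForm_stdForm d F
  let e := familyBasis hb (family_li hκ hwκ hworth)
  let e' := familyBasis hb (family_li hκ hwκ' hworth')
  let T : V ≃ₗ[F] V := e'.equiv e (Equiv.refl _)
  have hT : ∀ p, T (w' p) = w p := fun p => by
    rw [← familyBasis_apply hb (family_li hκ hwκ' hworth'), Basis.equiv_apply, Equiv.refl_apply, familyBasis_apply]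
  have hgram : ∀ p p', stdForm d F (w p) (w p') = stdForm d F (w' p) (w' p') := by
    rintro ⟨i, j⟩ ⟨i', j'⟩
    rcases eq_or_ne j j' with rfl | hne
    · fin_cases i <;> fin_cases i' <;> simp [hS.self, hS.swap (w (1, j)), hS.swap (w' (1, j)), hwκ, hwκ']
    · rw [hworth _ _ hne, hworth' _ _ hne]
  have hTiso : (stdForm d F).compl₁₂ T.toLinearMap T.toLinearMap = stdForm d F :=
    e'.ext fun p => e'.ext fun p' => by
      rw [LinearMap.compl₁₂_apply, familyBasis_apply, familyBasis_apply]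
      show stdForm d F (T (w' p)) (T (w' p')) = _
      rw [hT, hT, hgram]
  refine ⟨toGL ⟨T, fun u v => LinearMap.congr_fun (LinearMap.congr_fun hTiso u) v⟩, toGL_mem _, fun p => ?_⟩
  rw [toGL_mulVec]
  exact hT p

/-- The conjugate acts on the second family as the element on the first. -/
theorem conj_act {x g : GLd} {w w' : Fin 2 × Fin b → V} (hg : ∀ p, (g : Mat) *ᵥ w' p = w p)
    {C : Fin 2 × Fin b → Fin 2 → F}
    (hx : ∀ p, Matrix.toLin' (x : Mat) (w p) = ∑ i, C p i • w (i, p.2)) (p : Fin 2 × Fin b) :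
    ((g⁻¹ * x * g : GLd) : Mat) *ᵥ w' p = ∑ i, C p i • w' (i, p.2) := by
  rw [Units.val_mul, Units.val_mul, ← Matrix.mulVec_mulVec, hg, ← Matrix.mulVec_mulVec,
    ← Matrix.toLin'_apply (x : Mat), hx, Matrix.mulVec_sum]
  refine Finset.sum_congr rfl fun i _ => ?_
  rw [Matrix.mulVec_smul, ← hg, Matrix.mulVec_mulVec, ← Units.val_mul, inv_mul_cancel, Units.val_one,
    Matrix.one_mulVec]

end Families

end Cfsg.Agent.Lib.Elusive.ExtFieldSymp
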