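import Cfsg.Agent.Lib.Elusive.SympIsotropic

/-!
Quadratic forms with a given polar form in characteristic two, classified by their Gauss sum:
orbit of the isometry group, parity counts, invariant forms of involutions.
-/

set_option autoImplicit false

namespace Cfsg.Agent.Lib.Elusive.FormClass

open Module Cfsg.Agent.Lib.Symplectic Cfsg.Agent.Lib.Elusive.SympPieces

section Field

variable (F : Type*) [Field F] [CharP F 2]

/-- `y ↦ y² + y`. -/
def artinSchreier : F →+ F where
  toFun y := y * y + y
  map_zero' := by simp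
  map_add' a b := by
    have h : (a + b) * (a + b) = a * a + b * b := by linear_combination a * b * (CharTwo.two_eq_zero : (2 : F) = 0)
    rw [h]; abel

variable {F}

open Classical in
/-- The additive character with kernel the values of `y² + y`. -/
noncomputable def chi (c : F) : ℤ := if c ∈ (artinSchreier F).range then 1 else -1

theorem chi_zero : chi (0 : F) = 1 := if_pos (zero_mem _)

theorem chi_eq_or (c : F) : chi c = 1 ∨ chi c = -1 := by
  classical
  unfold chi
  split <;> simp

theorem chi_eq_one_iff {c : F} : chi c = 1 ↔ ∃ y, y * y + y = c := by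
  classical
  unfold chi
  split
  next h => exact iff_of_true rfl h
  next h => exact iff_of_false (by norm_num) h

variable [Fintype F]

theorem index_range : (artinSchreier F).range.index = 2 := by
  classical
  have hker : Nat.card (artinSchreier F).ker = 2 := by
    have h : ((artinSchreier F).ker : Set F) = {0, 1} := by
      ext y
      rw [SetLike.mem_coe, AddMonoidHom.mem_ker, Set.mem_insert_iff, Set.mem_singleton_iff]
      show y * y + y = 0 ↔ _
      rw [show y * y + y = y * (y + 1) by ring, mul_eq_zero, CharTwo.add_eq_zero]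
    rw [← SetLike.coe_sort_coe, Nat.card_coe_set_eq, h, Set.ncard_pair zero_ne_one]
  have h1 := AddSubgroup.index_mul_card (artinSchreier F).ker
  rw [AddSubgroup.index_ker, hker] at h1
  have h2 := AddSubgroup.index_mul_card (artinSchreier F).range
  rw [← h1, mul_comm (Nat.card (artinSchreier F).range) 2] at h2
  exact Nat.eq_of_mul_eq_mul_right Nat.card_pos h2

theorem chi_add (a b : F) : chi (a + b) = chi a * chi b := by
  classical
  have h := AddSubgroup.add_mem_iff_of_index_two (index_range (F := F)) (a := a) (b := b)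
  unfold chi
  by_cases ha : a ∈ (artinSchreier F).range <;> by_cases hb : b ∈ (artinSchreier F).range <;>
    simp [ha, hb, h]

theorem chi_sq (c : F) : chi (c * c) = chi c := by
  have h : chi (c * c + c) = 1 := chi_eq_one_iff.mpr ⟨c, rfl⟩
  rw [chi_add] at h
  rcases chi_eq_or (c * c) with h1 | h1 <;> rcases chi_eq_or c with h2 | h2 <;> simp [h1, h2] at h ⊢

theorem exists_chi_neg : ∃ c : F, chi c = -1 := by
  by_contra h
  push Not at h
  have htop : (artinSchreier F).range = ⊤ := by
    rw [eq_top_iff]
    intro c _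
    exact chi_eq_one_iff.mp ((chi_eq_or c).resolve_right (h c))
  have := index_range (F := F)
  rw [htop, AddSubgroup.index_top] at this
  omega

end Field

variable {F : Type*} [Field F] [CharP F 2] {V : Type*} [AddCommGroup V] [Module F V]

/-- A quadratic form with polar form `B`. -/
structure QForm (B : V →ₗ[F] V →ₗ[F] F) (Q : V → F) : Prop where
  smul : ∀ (c : F) (v : V), Q (c • v) = c ^ 2 * Q v
  add : ∀ x y, Q (x + y) = Q x + Q y + B x y

variable {B : V →ₗ[F] V →ₗ[F] F} {Q Q' : V → F}

/-- `Q + B(v, ·)²`. -/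
def shift (B : V →ₗ[F] V →ₗ[F] F) (Q : V → F) (v : V) : V → F := fun x => Q x + B v x * B v x

theorem QForm.zero (h : QForm B Q) : Q 0 = 0 := by simpa using h.smul 0 0

theorem QForm.shift (h : QForm B Q) (v : V) : QForm B (shift B Q v) := by
  refine ⟨fun c x => ?_, fun x y => ?_⟩
  · simp only [FormClass.shift, map_smul, smul_eq_mul, h.smul]
    ring
  · simp only [FormClass.shift, map_add, h.add]
    linear_combination B v x * B v y * (CharTwo.two_eq_zero : (2 : F) = 0)

theorem QForm.comp (h : QForm B Q) {g : Module.End F V} (hg : ∀ u v, B (g u) (g v) = B u v) :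
    QForm B (fun x => Q (g x)) :=
  ⟨fun c x => by simp only [map_smul, h.smul], fun x y => by simp only [map_add, h.add, hg]⟩

theorem comm (hB : IsSympForm B) (x y : V) : B x y = B y x := by
  rw [hB.swap x y, CharTwo.neg_eq]

section Sum

variable [Fintype V]

/-- The Gauss sum. -/
noncomputable def gauss (Q : V → F) : ℤ := ∑ x, chi (Q x)

theorem gauss_comp (g : V ≃ₗ[F] V) (Q : V → F) : gauss (fun x => Q (g x)) = gauss Q :=
  Equiv.sum_comp g.toEquiv fun x => chi (Q x)

variable [Fintype F]

theorem gauss_shift (hB : IsSympForm B) (h : QForm B Q) (v : V) :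
    gauss (shift B Q v) = chi (Q v) * gauss Q := by
  have h1 : ∀ x, chi (shift B Q v x) = chi (Q v) * chi (Q (x + v)) := fun x => by
    rw [shift, chi_add, chi_sq, ← chi_add, ← chi_add, h.add, comm hB x v]
    congr 1
    linear_combination -(Q v) * (CharTwo.two_eq_zero : (2 : F) = 0)
  rw [gauss, Finset.sum_congr rfl fun x _ => h1 x, ← Finset.mul_sum]
  congr 1
  exact Equiv.sum_comp (Equiv.addRight v) fun x => chi (Q x)

theorem sum_chi_apply {z : V} {W : Submodule F V} [Fintype W] {k₀ : V} (hk₀ : k₀ ∈ W)
    (h : B z k₀ ≠ 0) : ∑ k : W, chi (B z (k : V)) = 0 := by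
  obtain ⟨c, hc⟩ := exists_chi_neg (F := F)
  let k₁ : W := ⟨(c / B z k₀) • k₀, W.smul_mem _ hk₀⟩
  have h1 : ∀ k : W, chi (B z ((k + k₁ : W) : V)) = - chi (B z (k : V)) := fun k => by
    simp only [Submodule.coe_add, map_add, k₁, map_smul, smul_eq_mul, div_mul_cancel₀ _ h, chi_add, hc]
    ring
  have h2 := Equiv.sum_comp (Equiv.addRight k₁) fun k : W => chi (B z (k : V))
  simp only [Equiv.coe_addRight, h1, Finset.sum_neg_distrib] at h2
  omega

theorem gauss_sq (hB : IsSympForm B) (h : QForm B Q) :
    gauss Q * gauss Q = Fintype.card V := by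
  classical
  have h2 : ∀ x z, chi (Q x) * chi (Q (x + z)) = chi (Q z) * chi (B z x) := fun x z => by
    rw [← chi_add, ← chi_add, h.add, comm hB x z]
    congr 1
    linear_combination Q x * (CharTwo.two_eq_zero : (2 : F) = 0)
  calc gauss Q * gauss Q = ∑ x, ∑ z, chi (Q x) * chi (Q (x + z)) := by
        rw [gauss, Finset.sum_mul_sum]
        exact Finset.sum_congr rfl fun x _ =>
          (Equiv.sum_comp (Equiv.addLeft x) fun y => chi (Q x) * chi (Q y)).symm
    _ = ∑ z, chi (Q z) * ∑ x, chi (B z x) := by
        rw [Finset.sum_comm]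
        simp only [h2, Finset.mul_sum]
    _ = Fintype.card V := by
        rw [Finset.sum_eq_single (0 : V) (fun z _ hz => ?_) (by simp)]
        · simp [h.zero, chi_zero]
        · obtain ⟨k₀, hk₀⟩ := hB.exists_eq_one hz
          have h3 := sum_chi_apply (B := B) (W := ⊤) (z := z) (k₀ := k₀) trivial (by rw [hk₀]; exact one_ne_zero)
          rw [show ∑ x, chi (B z x) = ∑ k : (⊤ : Submodule F V), chi (B z (k : V)) from
            (Equiv.sum_comp Submodule.topEquiv.toEquiv fun x => chi (B z x)).symm, h3, mul_zero]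

theorem gauss_ne_zero (hB : IsSympForm B) (h : QForm B Q) : gauss Q ≠ 0 := fun h0 => by
  have h1 := gauss_sq hB h
  rw [h0, mul_zero] at h1
  have : 0 < Fintype.card V := Fintype.card_pos
  omega

/-- The number of vectors with trivial character. -/
theorem two_mul_count (Q : V → F) :
    2 * (Nat.card {x : V // chi (Q x) = 1} : ℤ) = Fintype.card V + gauss Q := by
  classical
  have h1 : ∀ x, 1 + chi (Q x) = if chi (Q x) = 1 then 2 else 0 := fun x => by
    rcases chi_eq_or (Q x) with h | h <;> simp [h]
  have h2 := Finset.sum_congr rfl fun x (_ : x ∈ (Finset.univ : Finset V)) => h1 x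
  rw [Finset.sum_add_distrib, Finset.sum_ite, Finset.sum_const_zero, add_zero, Finset.sum_const,
    Finset.sum_const, Finset.card_univ] at h2
  rw [Nat.card_eq_fintype_card, Fintype.card_subtype, gauss]
  simp only [nsmul_eq_mul, mul_one] at h2
  linarith

/-- A totally singular subspace of half dimension. -/
theorem gauss_of_singular [FiniteDimensional F V] (hB : IsSympForm B) (h : QForm B Q)
    {K : Submodule F V} (hK : ∀ k ∈ K, Q k = 0) (hdim : 2 * finrank F K = finrank F V) :
    0 < gauss Q := by
  classical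
  have hle : K ≤ orth B K := fun x hx => mem_orth.mpr fun w hw => by
    have h1 := h.add w x
    rw [hK _ (K.add_mem hw hx), hK w hw, hK x hx, zero_add, zero_add] at h1
    exact h1.symm
  have heq : K = orth B K := Submodule.eq_of_le_of_finrank_eq hle (by
    have := SympIsotropic.finrank_add_orth hB K
    omega)
  have hinner : ∀ y, ∑ k : K, chi (B y (k : V)) = if y ∈ K then (Fintype.card K : ℤ) else 0 := by
    intro y
    split
    next hy =>
      rw [Finset.sum_congr rfl fun (k : K) _ => show chi (B y (k : V)) = 1 by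
        rw [mem_orth.mp (hle k.2) y hy, chi_zero]]
      simp
    next hy =>
      obtain ⟨k₀, hk₀, hne⟩ : ∃ k₀ ∈ K, B y k₀ ≠ 0 := by
        by_contra hcon
        push Not at hcon
        exact hy (heq.ge (mem_orth.mpr fun w hw => hB.comm_eq_zero.mp (hcon w hw)))
      exact sum_chi_apply hk₀ hne
  have h1 : (Fintype.card K : ℤ) * gauss Q = ∑ y, chi (Q y) * ∑ k : K, chi (B y (k : V)) := by
    have h2 : ∀ k : K, ∑ y, chi (Q y) * chi (B y (k : V)) = gauss Q := fun k => by
      rw [gauss, ← Equiv.sum_comp (Equiv.addRight (k : V)) fun y => chi (Q y)]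
      refine Finset.sum_congr rfl fun y _ => ?_
      rw [Equiv.coe_addRight, h.add, hK k k.2, add_zero, chi_add]
    simp only [Finset.mul_sum]
    rw [Finset.sum_comm, Finset.sum_congr rfl fun k _ => h2 k]
    simp
  rw [Finset.sum_congr rfl fun y _ => by rw [hinner y]] at h1
  simp only [mul_ite, mul_zero] at h1
  rw [Finset.sum_ite, Finset.sum_const_zero, add_zero, ← Finset.sum_mul,
    Finset.sum_congr rfl fun y hy => show chi (Q y) = 1 by
      rw [hK y (Finset.mem_filter.mp hy).2, chi_zero]] at h1
  have hpos : (0 : ℤ) < Fintype.card K := by exact_mod_cast Fintype.card_pos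
  have hpos' : (0 : ℤ) < ∑ y ∈ Finset.univ.filter (fun y => y ∈ K), (1 : ℤ) :=
    Finset.sum_pos (fun _ _ => one_pos) ⟨0, by simp⟩
  by_contra hn
  push Not at hn
  nlinarith

variable [FiniteDimensional F V]

/-- Any two forms differ by the square of a functional. -/
theorem exists_shift (hB : IsSympForm B) (h : QForm B Q) (h' : QForm B Q') :
    ∃ v, Q' = shift B Q v := by
  have hinj : ∀ a b : F, a * a = b * b → a = b := fun a b hab => by
    have h1 : (a + b) * (a + b) = 0 := by
      linear_combination hab + (b * b + a * b) * (CharTwo.two_eq_zero : (2 : F) = 0)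
    exact CharTwo.add_eq_zero.mp (mul_self_eq_zero.mp h1)
  have hsqrt : ∀ x, ∃ s : F, s * s = Q x + Q' x := fun x => by
    obtain ⟨s, hs⟩ := FiniteField.isSquare_of_char_two (ringChar.eq_iff.mpr inferInstance) (Q x + Q' x)
    exact ⟨s, hs.symm⟩
  choose s hs using hsqrt
  let L : V →ₗ[F] F :=
    { toFun := s
      map_add' := fun x y => hinj _ _ (by
        rw [hs, h.add, h'.add]
        linear_combination -hs x - hs y + (B x y - s x * s y) * (CharTwo.two_eq_zero : (2 : F) = 0))
      map_smul' := fun c x => hinj _ _ (by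
        rw [hs, h.smul, h'.smul, RingHom.id_apply, smul_eq_mul]
        linear_combination -(c ^ 2) * hs x) }
  have hb : Function.Injective B := (injective_iff_map_eq_zero _).mpr fun x hx =>
    hB.nondeg x fun y => by rw [hx]; rfl
  obtain ⟨v, hv⟩ := (LinearMap.injective_iff_surjective_of_finrank_eq_finrank
    Subspace.dual_finrank_eq.symm).mp hb L
  refine ⟨v, funext fun x => ?_⟩
  have h1 : B v x = s x := LinearMap.congr_fun hv x
  rw [shift, h1, hs]
  linear_combination -(Q x) * (CharTwo.two_eq_zero : (2 : F) = 0)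

omit [Fintype V] [FiniteDimensional F V] in
theorem shift_injective (hB : IsSympForm B) (Q : V → F) : Function.Injective (shift B Q) := by
  intro v w hvw
  refine sub_eq_zero.mp (hB.nondeg _ fun x => ?_)
  have h1 : B v x * B v x = B w x * B w x := add_left_cancel (congrFun hvw x)
  have h2 : (B v x - B w x) * (B v x - B w x) = 0 := by
    linear_combination h1 + (B w x * B w x - B v x * B w x) * (CharTwo.two_eq_zero : (2 : F) = 0)
  rw [map_sub, LinearMap.sub_apply]
  exact mul_self_eq_zero.mp h2

/-- Forms with the same Gauss sum are isometric. -/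
theorem exists_isom (hB : IsSympForm B) (h : QForm B Q) (h' : QForm B Q')
    (hg : gauss Q' = gauss Q) :
    ∃ g : Isom B, ∀ x, Q ((g : V ≃ₗ[F] V) x) = Q' x := by
  obtain ⟨v, rfl⟩ := exists_shift hB h h'
  rw [gauss_shift hB h] at hg
  have hv : chi (Q v) = 1 := by
    rcases chi_eq_or (Q v) with h1 | h1
    · exact h1
    · rw [h1, neg_one_mul] at hg
      have := gauss_ne_zero hB h
      omega
  obtain ⟨ν, hν⟩ : ∃ ν : F, ν * ν * Q v + ν = 1 := by
    rcases eq_or_ne (Q v) 0 with h0 | h0
    · exact ⟨1, by simp [h0]⟩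
    · obtain ⟨y, hy⟩ := chi_eq_one_iff.mp hv
      exact ⟨y / Q v, by field_simp; linear_combination hy⟩
  refine ⟨transv hB v ν, fun x => ?_⟩
  show Q (transv hB v ν • x) = shift B Q v x
  rw [transv_smul, h.add, h.smul, map_smul, smul_eq_mul, shift, comm hB v x]
  linear_combination B x v * B x v * hν

/-- An involution in characteristic two fixes a form with a given Gauss sum. -/
theorem exists_invariant (hB : IsSympForm B) (h : QForm B Q) {f : Module.End F V}
    (hiso : ∀ u v, B (f u) (f v) = B u v) (hff : ∀ v, f (f v) = v) {d : ℕ}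
    (hd : finrank F V = 2 * d) (hcond : 0 < gauss Q ∨ Odd d) :
    ∃ Q', QForm B Q' ∧ (∀ x, Q' (f x) = Q' x) ∧ gauss Q' = gauss Q := by
  classical
  set N := f - 1
  have hN : ∀ x, N x = f x - x := fun x => rfl
  obtain ⟨a, ha⟩ := exists_shift hB h (h.comp hiso)
  have hker : ∀ k, N k = 0 ↔ f k = k := fun k => by rw [hN, sub_eq_zero]
  have hrange : LinearMap.range N = orth B (LinearMap.ker N) := by
    refine Submodule.eq_of_le_of_finrank_eq ?_ ?_
    · rintro _ ⟨y, rfl⟩
      refine mem_orth.mpr fun k hk => ?_
      have hk' := (hker k).mp hk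
      rw [hN, map_sub]
      nth_rewrite 1 [← hk']
      rw [hiso, sub_self]
    · have h1 := SympIsotropic.finrank_add_orth hB (LinearMap.ker N)
      have h2 := N.finrank_range_add_finrank_ker
      omega
  have haN : a ∈ LinearMap.range N := by
    rw [hrange, mem_orth]
    intro k hk
    have h1 := congrFun ha k
    simp only [shift, (hker k).mp hk] at h1
    have h2 : B a k = 0 := mul_self_eq_zero.mp (by linear_combination -h1)
    exact hB.comm_eq_zero.mp h2
  obtain ⟨v, hv⟩ := haN
  have hfix : ∀ x, shift B Q v (f x) = shift B Q v x := fun x => by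
    have h1 : Q (f x) = Q x + B a x * B a x := congrFun ha x
    have h2 : B v (f x) = B (f v) x := by rw [← hiso (f v) x, hff]
    have h3 : f v = a + v := by rw [← hv, hN, sub_add_cancel]
    simp only [shift, h1, h2, h3, map_add, LinearMap.add_apply]
    linear_combination (B a x * B a x + B a x * B v x) * (CharTwo.two_eq_zero : (2 : F) = 0)
  set Q₀ := shift B Q v
  have hQ₀ : QForm B Q₀ := h.shift v
  have hg₀ : gauss Q₀ = chi (Q v) * gauss Q := gauss_shift hB h v
  rcases chi_eq_or (Q v) with h1 | h1
  · exact ⟨Q₀, hQ₀, hfix, by rw [hg₀, h1, one_mul]⟩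
  by_cases hex : ∃ k, f k = k ∧ chi (Q₀ k) = -1
  · obtain ⟨k, hk, hk'⟩ := hex
    refine ⟨shift B Q₀ k, hQ₀.shift k, fun x => ?_, ?_⟩
    · show Q₀ (f x) + B k (f x) * B k (f x) = Q₀ x + B k x * B k x
      rw [hfix, show B k (f x) = B k x by nth_rewrite 1 [← hk]; exact hiso k x]
    · rw [gauss_shift hB hQ₀, hk', hg₀, h1]
      ring
  -- otherwise the fixed space is totally singular
  exfalso
  push Not at hex
  have hK : ∀ k ∈ LinearMap.ker N, Q₀ k = 0 := fun k hk => by
    by_contra hne
    obtain ⟨c, hc⟩ := exists_chi_neg (F := F)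
    obtain ⟨s, hs⟩ := FiniteField.isSquare_of_char_two (ringChar.eq_iff.mpr inferInstance) (c / Q₀ k)
    refine hex (s • k) (by rw [map_smul, (hker k).mp hk]) ?_
    rw [hQ₀.smul, pow_two, ← hs, div_mul_cancel₀ _ hne, hc]
  have hrk : LinearMap.range N ≤ LinearMap.ker N := by
    rintro _ ⟨y, rfl⟩
    rw [LinearMap.mem_ker, hN, hN, map_sub, hff, ← neg_sub (f y) y, sub_eq_add_neg, ← neg_add, neg_eq_zero]
    have : (2 : F) • (f y - y) = 0 := by rw [CharTwo.two_eq_zero, zero_smul]
    rwa [two_smul] at this
  have hiK : SympIsotropic.Iso B (LinearMap.ker N) := fun x hx y hy => by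
    have h2 := hQ₀.add x y
    rw [hK _ (Submodule.add_mem _ hx hy), hK x hx, hK y hy, zero_add, zero_add] at h2
    exact h2.symm
  have hdimK : finrank F (LinearMap.ker N) = d := by
    have h2 := Submodule.finrank_mono hrk
    have h3 := N.finrank_range_add_finrank_ker
    have h4 := SympIsotropic.two_mul_finrank_le hB (X := ⊤) (fun x _ hx => hB.nondeg x fun y => hx y trivial)
      le_top hiK
    rw [finrank_top] at h4
    omega
  have hpos : 0 < gauss Q₀ := gauss_of_singular hB hQ₀ hK (by omega)
  rw [hg₀, h1] at hpos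
  have hodd : Odd d := hcond.resolve_left (by omega)
  -- the form `B(x, N y)` on a complement is alternating and nondegenerate
  obtain ⟨C, hC⟩ := Submodule.exists_isCompl (LinearMap.ker N)
  have hs : IsSympForm (B.compl₁₂ C.subtype (N ∘ₗ C.subtype)) := by
    refine ⟨fun u => ?_, fun u hu => ?_⟩
    · show B (u : V) (N (u : V)) = 0
      have h2 := hfix (u : V)
      rw [show f (u : V) = (u : V) + N (u : V) by rw [hN, add_sub_cancel], hQ₀.add,
        hK _ (hrk ⟨_, rfl⟩), add_zero, add_eq_left] at h2
      exact h2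
    · refine Subtype.ext (Submodule.disjoint_def.mp hC.disjoint _ ?_ u.2)
      have hrange' : LinearMap.range N = LinearMap.ker N := Submodule.eq_of_le_of_finrank_eq hrk (by
        have h3 := N.finrank_range_add_finrank_ker
        omega)
      have horth : LinearMap.ker N = orth B (LinearMap.ker N) := by rw [← hrange, hrange']
      rw [horth, mem_orth]
      intro k hk
      rw [← hrange'] at hk
      obtain ⟨y, rfl⟩ := hk
      obtain ⟨k', hk', c, hc, rfl⟩ := Submodule.mem_sup.mp (hC.sup_eq_top.ge (Submodule.mem_top (x := y)))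
      rw [map_add, LinearMap.mem_ker.mp hk', zero_add]
      exact hB.comm_eq_zero.mp (hu ⟨c, hc⟩)
  obtain ⟨k, hk⟩ := even_finrank hs
  have h5 := Submodule.finrank_add_eq_of_isCompl hC
  obtain ⟨l, hl⟩ := hodd
  omega

/-- An involution with `B(x, f x) = 0` and fixed space equal to the image fixes only plus forms. -/
theorem exists_singular_of_invariant (hB : IsSympForm B) (h : QForm B Q) {f : Module.End F V}
    (hiso : ∀ x, Q (f x) = Q x) (halt : ∀ x, B x (f x) = 0)
    (hker : ∀ x, (f - 1) x = 0 → x ∈ LinearMap.range (f - 1)) (hkk : ∀ x, (f - 1) ((f - 1) x) = 0) :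
    ∃ K : Submodule F V, (∀ k ∈ K, Q k = 0) ∧ 2 * finrank F K = finrank F V := by
  refine ⟨LinearMap.range (f - 1), ?_, ?_⟩
  · rintro _ ⟨y, rfl⟩
    have h1 := hiso y
    rw [show f y = y + (f - 1) y by simp, h.add] at h1
    have h2 : B y ((f - 1) y) = 0 := by
      rw [LinearMap.sub_apply, Module.End.one_apply, map_sub, halt, hB.self, sub_zero]
    rw [h2, add_zero, add_eq_left] at h1
    exact h1
  · have h1 : LinearMap.ker (f - 1) = LinearMap.range (f - 1) := by
      refine le_antisymm (fun x hx => hker x hx) ?_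
      rintro _ ⟨y, rfl⟩
      exact hkk y
    have h2 := (f - 1).finrank_range_add_finrank_ker
    rw [h1] at h2
    omega

omit [FiniteDimensional F V] in
/-- A fixed point free invariant of prime order: the count is one modulo the prime. -/
theorem count_modEq {r : ℕ} [Fact r.Prime] (h : QForm B Q) {f : Module.End F V} (hfr : f ^ r = 1)
    (hfix : ∀ x, f x = x → x = 0) (hinv : ∀ x, Q (f x) = Q x) :
    Nat.card {x : V // chi (Q x) = 1} ≡ 1 [MOD r] := by
  classical
  let S := {x : V // chi (Q x) = 1}
  let σ : Function.End S := fun x => ⟨f x.1, by rw [hinv]; exact x.2⟩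
  have hpow : ∀ k (x : S), ((σ ^ k) x : V) = (f ^ k) x.1 := by
    intro k
    induction k with
    | zero => intro x; rfl
    | succ k ih => intro x; rw [pow_succ', pow_succ', Module.End.mul_apply, ← ih]; rfl
  have hσ : σ ^ r ^ 1 = 1 := funext fun x => Subtype.ext (by rw [hpow, pow_one, hfr]; rfl)
  have h1 := Equiv.Perm.card_fixedPoints_modEq (p := r) (n := 1) hσ
  have h2 : Fintype.card σ.fixedPoints = 1 := by
    refine Fintype.card_eq_one_iff.mpr ⟨⟨⟨0, by rw [h.zero, chi_zero]⟩, Subtype.ext (map_zero f)⟩, ?_⟩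
    rintro ⟨x, hx⟩
    exact Subtype.ext (Subtype.ext (hfix x.1 (congrArg Subtype.val hx)))
  rw [h2] at h1
  rwa [Nat.card_eq_fintype_card]

end Sum

end Cfsg.Agent.Lib.Elusive.FormClass
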