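import Mathlib

/-!
An endomorphism whose square is scalar has a basis on which it acts monomially through an
involution; involutions with prescribed fixed point number preserving a block system.
-/

namespace Cfsg.Agent.Lib.Elusive.MonomialBasis

open Module

variable {F V : Type*} [Field F] [AddCommGroup V] [Module F V] [FiniteDimensional F V]

theorem exists_of_sub_sq {f : Module.End F V} {c : F} (hc : c ≠ 0)
    (hN : (f - c • 1) * (f - c • 1) = 0) (hsq : ∀ v, f (f v) = (c * c) • v) :
    ∃ (ι : Type) (b : Basis ι F V) (π : Equiv.Perm ι), π * π = 1 ∧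
      ∀ j, ∃ e : F, e ≠ 0 ∧ f (b j) = e • b (π j) := by
  classical
  set N : Module.End F V := f - c • 1 with hNdef
  have hf : ∀ v, f v = N v + c • v := fun v => by simp [hNdef]
  have hle : LinearMap.range N ≤ LinearMap.ker N := by
    rintro _ ⟨v, rfl⟩
    exact LinearMap.mem_ker.mpr (by rw [← Module.End.mul_apply, hN]; rfl)
  obtain ⟨C, hC⟩ := (LinearMap.ker N).exists_isCompl
  obtain ⟨D₀, hD₀⟩ := Submodule.exists_isCompl (LinearMap.range N)
  set D := D₀ ⊓ LinearMap.ker N with hDdef
  have hdisj : LinearMap.range N ⊓ D = ⊥ := by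
    rw [hDdef, ← inf_assoc, hD₀.inf_eq_bot, bot_inf_eq]
  have hsup : LinearMap.range N ⊔ D = LinearMap.ker N := by
    rw [hDdef, ← sup_inf_assoc_of_le D₀ hle, hD₀.sup_eq_top, top_inf_eq]
  let L : (C × C) × D →ₗ[F] V :=
    (C.subtype.coprod (f.comp C.subtype)).coprod D.subtype
  have hinj : Function.Injective L := by
    rw [← LinearMap.ker_eq_bot, LinearMap.ker_eq_bot']
    rintro ⟨⟨u, u'⟩, w⟩ h
    have h0 : (u : V) + f u' + (w : V) = 0 := by simpa [L] using h
    have hNw : N (w : V) = 0 := LinearMap.mem_ker.mp w.2.2
    have hNN : ∀ v, N (N v) = 0 := fun v => by rw [← Module.End.mul_apply, hN]; rfl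
    have h1 : N ((u : V) + c • (u' : V)) = 0 := by
      have h2 := congrArg N h0
      rw [map_add, map_add, hNw, add_zero, map_zero, hf, map_add, hNN, zero_add] at h2
      rw [map_add]; exact h2
    have hu : (u : V) + c • (u' : V) = 0 :=
      (Submodule.mem_bot F).mp (hC.inf_eq_bot ▸
        ⟨LinearMap.mem_ker.mpr h1, add_mem u.2 (C.smul_mem c u'.2)⟩)
    have h3 : N (u' : V) + (w : V) = 0 := by
      rw [hf] at h0
      linear_combination (norm := abel) h0 - hu
    have hNu : N (u' : V) = 0 := by
      refine (Submodule.mem_bot F).mp (hdisj ▸ ⟨⟨_, rfl⟩, ?_⟩)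
      rw [eq_neg_of_add_eq_zero_left h3]
      exact neg_mem w.2
    have hu' : (u' : V) = 0 :=
      (Submodule.mem_bot F).mp (hC.inf_eq_bot ▸ ⟨LinearMap.mem_ker.mpr hNu, u'.2⟩)
    rw [hu', smul_zero, add_zero] at hu
    rw [hNu, zero_add] at h3
    exact Prod.ext (Prod.ext (Subtype.ext hu) (Subtype.ext hu')) (Subtype.ext h3)
  have hdim : finrank F ((C × C) × D) = finrank F V := by
    have h1 := Submodule.finrank_add_eq_of_isCompl hC
    have h2 := LinearMap.finrank_range_add_finrank_ker N
    have h3 : finrank F (LinearMap.ker N) = finrank F (LinearMap.range N) + finrank F D := by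
      rw [← hsup, ← Submodule.finrank_sup_add_finrank_inf_eq, hdisj, finrank_bot, add_zero]
    rw [Module.finrank_prod, Module.finrank_prod]
    omega
  let B := (((Module.finBasis F C).prod (Module.finBasis F C)).prod (Module.finBasis F D)).map
    (LinearEquiv.ofInjective L hinj ≪≫ₗ
      LinearEquiv.ofTop _ (Submodule.eq_top_of_finrank_eq
        (by rw [LinearMap.finrank_range_of_inj hinj, hdim])))
  have hB : ∀ x, B x = L ((((Module.finBasis F C).prod (Module.finBasis F C)).prod
      (Module.finBasis F D)) x) := fun x => rfl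
  refine ⟨_, B, Equiv.sumCongr (Equiv.sumComm _ _) (Equiv.refl _), ?_, ?_⟩
  · ext (( _ | _ ) | _) <;> rfl
  rintro ((j | j) | j)
  · refine ⟨1, one_ne_zero, ?_⟩
    simp [hB, L]
  · refine ⟨c * c, mul_ne_zero hc hc, ?_⟩
    simp [hB, L, hsq]
  · refine ⟨c, hc, ?_⟩
    have hw : N (((Module.finBasis F D) j : D) : V) = 0 :=
      LinearMap.mem_ker.mp ((Module.finBasis F D) j).2.2
    simp [hB, L, hf, hw]

theorem exists_of_sq {f : Module.End F V} {z : F} (hz : z ≠ 0) (hf : f * f = z • 1) :
    ∃ (ι : Type) (b : Basis ι F V) (π : Equiv.Perm ι), π * π = 1 ∧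
      ∀ j, ∃ e : F, e ≠ 0 ∧ f (b j) = e • b (π j) := by
  classical
  have hff : ∀ v, f (f v) = z • v := fun v => LinearMap.congr_fun hf v
  by_cases hsq : ∃ c : F, c * c = z
  · obtain ⟨c, rfl⟩ := hsq
    have hc : c ≠ 0 := fun h => hz (by simp [h])
    by_cases h2 : (2 : F) = 0
    · refine exists_of_sub_sq hc (LinearMap.ext fun v => ?_) hff
      have h3 : ∀ w : V, w + w = 0 := fun w => by rw [← two_smul F w, h2, zero_smul]
      simp only [Module.End.mul_apply, LinearMap.sub_apply, LinearMap.smul_apply,
        Module.End.one_apply, LinearMap.zero_apply, map_sub, map_smul, smul_sub, hff, smul_smul]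
      have h4 := h3 ((c * c) • v - c • f v)
      linear_combination (norm := abel) h4
    · set P := End.eigenspace f c
      set M := End.eigenspace f (-c)
      have hPM : IsCompl P M := by
        constructor
        · rw [disjoint_iff, Submodule.eq_bot_iff]
          rintro v ⟨h1, h2'⟩
          have h3 : c • v = (-c) • v :=
            (End.mem_eigenspace_iff.mp h1).symm.trans (End.mem_eigenspace_iff.mp h2')
          have h4 : ((2 : F) * c) • v = 0 := by
            rw [two_mul, add_smul]; rw [neg_smul] at h3
            exact add_eq_zero_iff_eq_neg.mpr h3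
          exact (smul_eq_zero.mp h4).resolve_left (mul_ne_zero h2 hc)
        · rw [codisjoint_iff, eq_top_iff]
          intro v _
          have hp : f v + c • v ∈ P := End.mem_eigenspace_iff.mpr (by
            rw [map_add, map_smul, hff, smul_add, smul_smul, add_comm])
          have hm : f v - c • v ∈ M := End.mem_eigenspace_iff.mpr (by
            rw [map_sub, map_smul, hff, smul_sub, smul_smul, neg_mul, neg_smul, neg_smul]; abel)
          have h5 : v = (2 * c)⁻¹ • ((f v + c • v) - (f v - c • v)) := by
            rw [show (f v + c • v) - (f v - c • v) = (2 * c) • v by rw [two_mul, add_smul]; abel,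
              inv_smul_smul₀ (mul_ne_zero h2 hc)]
          rw [h5]
          exact Submodule.smul_mem _ _ (sub_mem (Submodule.mem_sup_left hp)
            (Submodule.mem_sup_right hm))
      refine ⟨_, ((Module.finBasis F P).prod (Module.finBasis F M)).map
        (Submodule.prodEquivOfIsCompl P M hPM), 1, one_mul 1, ?_⟩
      rintro (j | j)
      · refine ⟨c, hc, ?_⟩
        simpa using End.mem_eigenspace_iff.mp ((Module.finBasis F P) j).2
      · refine ⟨-c, neg_ne_zero.mpr hc, ?_⟩
        simpa using End.mem_eigenspace_iff.mp ((Module.finBasis F M) j).2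
  · -- no eigenvalue: a maximal family `v, f v`
    suffices h : ∀ k, ∀ W : Submodule F V, finrank F W = k → (∀ w ∈ W, f w ∈ W) →
        ∃ s : Finset V, Submodule.span F (↑s ∪ f '' ↑s : Set V) = W ∧
          2 * s.card ≤ finrank F W by
      obtain ⟨s, hs, hcard⟩ := h _ ⊤ rfl fun w _ => trivial
      let g : Fin s.card × Bool → V := fun x =>
        if x.2 then f (s.equivFin.symm x.1 : V) else (s.equivFin.symm x.1 : V)
      have hspan : Submodule.span F (Set.range g) = ⊤ := by
        rw [eq_top_iff, ← hs, Submodule.span_le]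
        rintro _ (hv | ⟨v, hv, rfl⟩)
        · exact Submodule.subset_span ⟨(s.equivFin ⟨_, hv⟩, false), by simp [g]⟩
        · exact Submodule.subset_span ⟨(s.equivFin ⟨_, hv⟩, true), by simp [g]⟩
      have hli : LinearIndependent F g := by
        rw [linearIndependent_iff_card_le_finrank_span, Set.finrank, hspan]
        rw [Fintype.card_prod, Fintype.card_fin, Fintype.card_bool, finrank_top]
        rw [finrank_top] at hcard
        omega
      refine ⟨_, Basis.mk hli hspan.ge, Equiv.prodCongr (Equiv.refl _) Equiv.boolNot, ?_, ?_⟩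
      · ext ⟨i, b⟩ <;> simp
      rintro ⟨i, b⟩
      rcases b with _ | _
      · exact ⟨1, one_ne_zero, by simp [g]⟩
      · exact ⟨z, hz, by simp [g, hff]⟩
    intro k
    induction k using Nat.strong_induction_on with
    | _ k ih =>
      intro W hk hW
      -- grow from an invariant hyperplane-like complement of one pair
      rcases eq_or_ne W ⊥ with rfl | hne
      · exact ⟨∅, by simp, by simp⟩
      obtain ⟨v, hvW, hv⟩ := Submodule.exists_mem_ne_zero_of_ne_bot hne
      set A : Submodule F V := Submodule.span F {v, f v}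
      have hAW : A ≤ W := Submodule.span_le.mpr (by
        rintro _ (rfl | rfl)
        · exact hvW
        · exact hW _ hvW)
      have hAinv : ∀ w ∈ A, f w ∈ A := by
        intro w hw
        obtain ⟨a, b, rfl⟩ := Submodule.mem_span_pair.mp hw
        exact Submodule.mem_span_pair.mpr ⟨b * z, a, by
          rw [map_add, map_smul, map_smul, hff, smul_smul, add_comm]⟩
      have hAdim : finrank F A = 2 := by
        have hli : LinearIndependent F ![v, f v] := by
          rw [LinearIndependent.pair_iff' hv]
          intro a ha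
          refine hsq ⟨a, smul_left_injective F hv ?_⟩
          show (a * a) • v = z • v
          rw [← hff, ← ha, map_smul, ← ha, smul_smul]
        have := finrank_span_eq_card hli
        rwa [Matrix.range_cons_cons_empty, Fintype.card_fin] at this
      have hsemi : f.IsSemisimple := by
        refine End.isSemisimple_of_squarefree_aeval_eq_zero
          (p := Polynomial.X ^ 2 - Polynomial.C z) ?_ ?_
        · exact (X_pow_sub_C_irreducible_of_prime Nat.prime_two
            (fun c hc => hsq ⟨c, by rw [← pow_two]; exact hc⟩)).squarefree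
        · simp [pow_two, hf, Algebra.algebraMap_eq_smul_one]
      obtain ⟨q, hq, hqc⟩ := End.isSemisimple_iff.mp hsemi A
        ((End.mem_invtSubmodule f).mpr fun w hw => hAinv w hw)
      set Z := q ⊓ W
      have hAZ : A ⊔ Z = W := by
        rw [← sup_inf_assoc_of_le q hAW, hqc.codisjoint.eq_top, top_inf_eq]
      have hdim : finrank F A + finrank F Z = finrank F W := by
        rw [← Submodule.finrank_sup_add_finrank_inf_eq, hAZ, ← inf_assoc,
          hqc.disjoint.eq_bot, bot_inf_eq, finrank_bot, add_zero]
      obtain ⟨s, hs, hcard⟩ := ih (finrank F Z) (by omega) Z rfl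
        fun w hw => ⟨(End.mem_invtSubmodule f).mp hq hw.1, hW _ hw.2⟩
      refine ⟨insert v s, ?_, ?_⟩
      · rw [← hAZ, ← hs]
        simp only [Finset.coe_insert, Set.image_insert_eq, A, ← Submodule.span_union]
        congr 1
        ext x
        simp only [Set.mem_union, Set.mem_insert_iff, Set.mem_singleton_iff]
        tauto
      · have := Finset.card_insert_le v s
        omega

/-- A canonical involution with a given number of fixed points. -/
theorem exists_involution {m s : ℕ} (hs : s ≤ m) (hpar : s % 2 = m % 2) :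
    ∃ τ : Equiv.Perm (Fin m), τ * τ = 1 ∧ Nat.card {i // τ i = i} = s := by
  classical
  obtain ⟨k, rfl⟩ : ∃ k, m = s + k * 2 := ⟨(m - s) / 2, by omega⟩
  let e : Fin s ⊕ Fin k × Bool ≃ Fin (s + k * 2) :=
    Fintype.equivFinOfCardEq (by simp)
  refine ⟨e.permCongr (Equiv.sumCongr (Equiv.refl _) (Equiv.prodCongr (Equiv.refl _) Equiv.boolNot)),
    ?_, ?_⟩
  · ext i
    obtain ⟨x, rfl⟩ := e.surjective i
    rcases x with x | ⟨x, b⟩ <;> simp
  · refine (Nat.card_congr ((e.symm.subtypeEquiv (q := fun x => ∃ i, x = Sum.inl i) ?_).trans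
      ⟨fun x => x.2.choose, fun i => ⟨Sum.inl i, i, rfl⟩,
        fun x => Subtype.ext x.2.choose_spec.symm,
        fun i => Sum.inl_injective
          (show (∃ j, Sum.inl i = Sum.inl j) from ⟨i, rfl⟩).choose_spec.symm⟩)).trans
      (Nat.card_fin s)
    intro i
    obtain ⟨x, rfl⟩ := e.surjective i
    rcases x with x | ⟨x, b⟩ <;> simp

/-- An involution of `Fin t × Fin a` with `s` fixed points which permutes the blocks. -/
theorem exists_block_involution (a t : ℕ) : ∀ s, s ≤ a * t → s % 2 = (a * t) % 2 →
    ∃ π : Equiv.Perm (Fin t × Fin a), π * π = 1 ∧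
      (∀ x y, x.1 = y.1 → (π x).1 = (π y).1) ∧ Nat.card {x // π x = x} = s := by
  classical
  induction t with
  | zero =>
    intro s hs _
    exact ⟨1, one_mul 1, fun x => x.1.elim0, by simp at hs; simp [hs]⟩
  | succ t ih =>
    intro s hs hpar
    rw [Nat.mul_add, mul_one] at hs hpar
    -- split off one block with `u` fixed points
    have step : ∀ u, u ≤ a → u ≤ s → u % 2 = a % 2 → s - u ≤ a * t →
        ∃ π : Equiv.Perm (Fin (t + 1) × Fin a), π * π = 1 ∧
          (∀ x y, x.1 = y.1 → (π x).1 = (π y).1) ∧ Nat.card {x // π x = x} = s := by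
      intro u hua hus hu hrest
      obtain ⟨τ, hτ, hτf⟩ := exists_involution hua hu
      obtain ⟨π, hπ, hπb, hπf⟩ := ih (s - u) hrest (by omega)
      let e : (Fin t × Fin a) ⊕ Fin a ≃ Fin (t + 1) × Fin a :=
        (Equiv.sumCongr (Equiv.refl _) (Equiv.uniqueProd (Fin a) (Fin 1)).symm).trans
          ((Equiv.sumProdDistrib (Fin t) (Fin 1) (Fin a)).symm.trans
            (Equiv.prodCongr finSumFinEquiv (Equiv.refl _)))
      refine ⟨e.permCongr (Equiv.sumCongr π τ), ?_, ?_, ?_⟩
      · ext1 i
        obtain ⟨x, rfl⟩ := e.surjective i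
        rcases x with x | x
        · simp [show π (π x) = x from Equiv.ext_iff.mp hπ x]
        · simp [show τ (τ x) = x from Equiv.ext_iff.mp hτ x]
      · intro x y hxy
        obtain ⟨x, rfl⟩ := e.surjective x
        obtain ⟨y, rfl⟩ := e.surjective y
        rcases x with x | x <;> rcases y with y | y
        · simp only [Equiv.permCongr_apply, Equiv.symm_apply_apply, Equiv.sumCongr_apply,
            Sum.map_inl]
          exact congrArg (Fin.castAdd 1) (hπb x y (Fin.castAdd_injective t 1 hxy))
        · exact absurd hxy (by simp [e, Fin.ext_iff]; omega)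
        · exact absurd hxy (by simp [e, Fin.ext_iff]; omega)
        · simp [e]
      · rw [Nat.card_congr (e.symm.subtypeEquiv (q := fun x => (Equiv.sumCongr π τ) x = x)
          fun i => by simp [Equiv.eq_symm_apply]), Nat.card_congr Equiv.subtypeSum, Nat.card_sum]
        simp only [Equiv.sumCongr_apply, Sum.map_inl, Sum.map_inr, Sum.inl.injEq, Sum.inr.injEq]
        rw [hπf, hτf]
        omega
    rcases Nat.lt_or_ge s a with hsa | hsa
    · by_cases hp : s % 2 = a % 2
      · exact step s hsa.le le_rfl hp (by omega)
      · rcases Nat.eq_zero_or_pos s with rfl | hs0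
        · -- swap the blocks in pairs
          have hat : (a * t) % 2 = 1 := by omega
          have ht : t % 2 = 1 := by
            rcases Nat.mod_two_eq_zero_or_one t with h | h
            · rw [Nat.mul_mod, h] at hat; simp at hat
            · exact h
          obtain ⟨σ, hσ, hσf⟩ := exists_involution (m := t + 1) (s := 0) (by omega) (by omega)
          refine ⟨Equiv.prodCongr σ (Equiv.refl _), ?_, fun x y h => congrArg σ h, ?_⟩
          · ext1 x; exact Prod.ext (Equiv.ext_iff.mp hσ x.1) rfl
          · rw [Nat.card_eq_zero]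
            refine Or.inl ⟨fun x => ?_⟩
            have : IsEmpty {i // σ i = i} := (Nat.card_eq_zero.mp hσf).resolve_right
              (not_infinite_iff_finite.mpr inferInstance)
            exact this.false ⟨x.1.1, congrArg Prod.fst x.2⟩
        · have ha2 : a % 2 = 1 := by
            have := Nat.mul_mod a t 2
            rcases Nat.mod_two_eq_zero_or_one a with h | h
            · rw [h, Nat.zero_mul] at this; simp at this; omega
            · exact h
          refine step 1 (by omega) hs0 (by omega) ?_
          rcases Nat.eq_zero_or_pos t with rfl | ht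
          · simp at hpar hs ⊢; omega
          · have := Nat.le_mul_of_pos_right a ht
            omega
    · exact step a le_rfl hsa rfl (by omega)

/-- Involutions with equally many fixed points are conjugate. -/
theorem isConj_of_card_fixed {α β : Type*} [Fintype α] [Fintype β] (π : Equiv.Perm α)
    (ρ : Equiv.Perm β) (hπ : π * π = 1) (hρ : ρ * ρ = 1) (h : Fintype.card α = Fintype.card β)
    (hf : Nat.card {x // π x = x} = Nat.card {x // ρ x = x}) :
    ∃ e : α ≃ β, ∀ x, ρ (e x) = e (π x) := by
  classical
  let e₀ := Fintype.equivOfCardEq h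
  let ρ' : Equiv.Perm α := e₀.symm.permCongr ρ
  have hρ' : ρ' * ρ' = 1 := by
    ext x; simp [ρ', show ∀ y, ρ (ρ y) = y from Equiv.ext_iff.mp hρ]
  have key : ∀ σ : Equiv.Perm α, σ * σ = 1 →
      σ.cycleType = Multiset.replicate ((Fintype.card α - Nat.card {x // σ x = x}) / 2) 2 := by
    intro σ hσ
    have h2 : ∀ n ∈ σ.cycleType, n = 2 := fun n hn => by
      have h1 := Nat.le_of_dvd (show 0 < 2 by norm_num) ((Equiv.Perm.dvd_of_mem_cycleType hn).trans
        (orderOf_dvd_of_pow_eq_one (by rw [pow_two, hσ])))
      have := Equiv.Perm.two_le_of_mem_cycleType hn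
      omega
    have hrep := Multiset.eq_replicate_card.mpr h2
    have hsum : σ.cycleType.card * 2 + Nat.card {x // σ x = x} = Fintype.card α := by
      have h1 := Equiv.Perm.sum_cycleType σ
      conv_lhs at h1 => rw [hrep, Multiset.sum_replicate, smul_eq_mul]
      rw [h1, add_comm, Nat.card_eq_fintype_card, Fintype.card_subtype, Equiv.Perm.support,
        Finset.card_filter_add_card_filter_not, Finset.card_univ]
    rw [show (Fintype.card α - Nat.card {x // σ x = x}) / 2 = σ.cycleType.card by omega]
    exact hrep
  obtain ⟨τ, hτ⟩ := isConj_iff.mp (Equiv.Perm.isConj_iff_cycleType_eq.mpr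
    (show π.cycleType = ρ'.cycleType by
      rw [key π hπ, key ρ' hρ', hf]
      congr 3
      exact (Nat.card_congr (e₀.subtypeEquiv fun x => by simp [ρ', Equiv.symm_apply_eq])).symm))
  refine ⟨τ.trans e₀, fun x => ?_⟩
  have := Equiv.ext_iff.mp hτ (τ x)
  simp [ρ', Equiv.eq_symm_apply] at this
  simpa using this.symm

theorem card_mod_two {α : Type*} [Fintype α] (π : Equiv.Perm α) (hπ : π * π = 1) :
    Nat.card {x // π x = x} % 2 = Fintype.card α % 2 := by
  classical
  have h : π.support.card % 2 = 0 := by
    rw [← Equiv.Perm.sum_cycleType, (Multiset.eq_replicate_card.mpr : (∀ n ∈ π.cycleType, n = 2) →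
      π.cycleType = Multiset.replicate π.cycleType.card 2) (fun n hn => by
        have h1 := Nat.le_of_dvd (show 0 < 2 by norm_num) ((Equiv.Perm.dvd_of_mem_cycleType hn).trans
          (orderOf_dvd_of_pow_eq_one (by rw [pow_two, hπ])))
        have := Equiv.Perm.two_le_of_mem_cycleType hn
        omega), Multiset.sum_replicate, smul_eq_mul, Nat.mul_mod_left]
  have h2 : Nat.card {x // π x = x} + π.support.card = Fintype.card α := by
    rw [Nat.card_eq_fintype_card, Fintype.card_subtype, Equiv.Perm.support,
      Finset.card_filter_add_card_filter_not, Finset.card_univ]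
  omega

end Cfsg.Agent.Lib.Elusive.MonomialBasis
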