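import Mathlib
import Cfsg.Agent.Lib.Elusive.Linear

/-!
When every element of prime order `r`, prime to `q`, of `PSL(n, q)` fixes an `m`-space, or a nested
pair of subspaces.
-/

namespace Cfsg.Agent.Lib.Elusive.Subspaces

open Module

variable {F : Type*} [Field F] [Fintype F] {n m r p : ℕ}

/-- Two-step reachability of types. -/
def FlagType (d e c m : ℕ) : Prop :=
  ∃ a k b l, a + b ≤ e ∧ k + l ≤ c ∧ m = a + k * d ∧ m = b + l * d

theorem exists_flag_iff {V : Type*} [AddCommGroup V] [Module F V] [FiniteDimensional F V]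
    {f : Module.End F V} {μ : F} {d e c : ℕ} (hu : IsUniform f μ d) (hV : HasType f μ d ⊤ e c)
    {m : ℕ} (hm : m ≤ finrank F V) :
    (∃ U W : Submodule F V, U ≤ W ∧ finrank F U = m ∧ finrank F W = finrank F V - m ∧
      Inv f U ∧ Inv f W) ↔ FlagType d e c m := by
  constructor
  · rintro ⟨U, W, hUW, hUd, hWd, hU, hW⟩
    obtain ⟨k, hk⟩ := hu.exists_type hU
    obtain ⟨Y, hY, hYW, hdisj, hsup⟩ := exists_compl hu.semisimple hW hU hUW
    obtain ⟨j, hj⟩ := hu.exists_type hY
    obtain ⟨Z, hZ, -, hdisj', hsup'⟩ := exists_compl hu.semisimple (Inv.top f) hW le_top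
    obtain ⟨l, hl⟩ := hu.exists_type hZ
    have h1 := hV.2.1
    have h2 := hV.2.2
    rw [← hsup', finrank_sup_inf_eigenspace hW hZ hdisj', ← hsup,
      finrank_sup_inf_eigenspace hU hY hdisj] at h1
    rw [← hsup', finrank_sup_of_disjoint hdisj', ← hsup, finrank_sup_of_disjoint hdisj,
      hk.2.2, hj.2.2, hl.2.2, ← h1] at h2
    have hZd : finrank F Z = m := by
      have h3 := finrank_sup_of_disjoint (F := F) hdisj'
      rw [hsup', finrank_top, hWd] at h3
      omega
    refine ⟨_, k, _, l, (by omega), ?_, hUd.symm.trans hk.2.2, hZd.symm.trans hl.2.2⟩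
    have h3 : (k + j + l) * d = c * d := by rw [Nat.add_mul, Nat.add_mul]; omega
    have := Nat.eq_of_mul_eq_mul_right hu.pos h3
    omega
  · rintro ⟨a, k, b, l, hab, hkl, hak, hbl⟩
    obtain ⟨U, U', -, -, hdisj, -, hU, hU'⟩ :=
      hu.exists_sub hV (a := a) (k := k) (by omega) (by omega)
    obtain ⟨Z, Z', hZU', hZ'U', hdisj', -, hZ, hZ'⟩ :=
      hu.exists_sub hU' (a := b) (k := l) (by omega) (by omega)
    have hUZ' : U ⊓ Z' = ⊥ := le_bot_iff.mp (hdisj ▸ inf_le_inf_left U hZ'U')
    refine ⟨U, U ⊔ Z', le_sup_left, hU.2.2.trans hak.symm, ?_, hU.1, hU.1.sup hZ'.1⟩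
    have hn : finrank F V = e + c * d := by rw [← finrank_top]; exact hV.2.2
    have h4 : c * d = k * d + l * d + (c - k - l) * d := by
      rw [← Nat.add_mul, ← Nat.add_mul]; congr 1; omega
    rw [finrank_sup_of_disjoint hUZ', hU.2.2, hZ'.2.2]
    omega

theorem natCast_ne_zero [hp : Fact p.Prime] [CharP F p] [hr : Fact r.Prime] (h : r ≠ p) :
    (r : F) ≠ 0 := fun h0 =>
  h ((Nat.prime_dvd_prime_iff_eq hp.out hr.out).mp ((CharP.cast_eq_zero_iff F p r).mp h0)).symm

theorem char_dvd_card [hp : Fact p.Prime] [CharP F p] : p ∣ Fintype.card F := by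
  obtain ⟨k, -, hk⟩ := FiniteField.card F p
  rw [hk]
  exact dvd_pow_self p k.ne_zero

theorem subspace_count [hr : Fact r.Prime] {V : Type*} [AddCommGroup V] [Module F V]
    [FiniteDimensional F V] [Fact p.Prime] [CharP F p] (hm : m ≤ finrank F V)
    (h : r ∣ Nat.card {W : Submodule F V // finrank F W = m}) :
    r ≠ p ∧ ∃ j < m, orderOf (Fintype.card F : ZMod r) ∣ finrank F V - j := by
  have hc := GrassCount.card_subspaces (F := F) (V := V) m hm
  refine ⟨?_, GrassCount.exists_dvd_sub_of_dvd Fintype.one_lt_card hm fun a ha => ?_⟩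
  · rintro rfl
    exact GrassCount.not_dvd_P Fact.out char_dvd_card Fintype.one_lt_card (finrank F V)
      (hc ▸ dvd_mul_of_dvd_left h _)
  · rw [← hc, ← mul_assoc] at ha
    rw [Nat.eq_of_mul_eq_mul_right (GrassCount.P_pos Fintype.one_lt_card _) ha]
    exact dvd_mul_of_dvd_left h _

theorem flag_count [hr : Fact r.Prime] {V : Type*} [AddCommGroup V] [Module F V]
    [FiniteDimensional F V] [Fact p.Prime] [CharP F p] (hm : 2 * m ≤ finrank F V)
    (h : r ∣ Nat.card {U : Submodule F V × Submodule F V //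
      U.1 ≤ U.2 ∧ finrank F U.1 = m ∧ finrank F U.2 = finrank F V - m}) :
    r ≠ p ∧ ∃ j < 2 * m, orderOf (Fintype.card F : ZMod r) ∣ finrank F V - j := by
  have hc := GrassCount.card_flags (F := F) (V := V) hm
  refine ⟨?_, GrassCount.exists_dvd_sub_of_dvd Fintype.one_lt_card hm fun a ha => ?_⟩
  · rintro rfl
    exact GrassCount.not_dvd_P Fact.out char_dvd_card Fintype.one_lt_card (finrank F V)
      (hc ▸ dvd_mul_of_dvd_left h _)
  · rw [← hc, ← mul_assoc] at ha
    rw [Nat.eq_of_mul_eq_mul_right (GrassCount.P_pos Fintype.one_lt_card _) ha]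
    exact dvd_mul_of_dvd_left h _

theorem mod_lt_of_dvd_sub {i n j k : ℕ} (hki : k ≤ i) (hj : j < k) (hjn : j ≤ n)
    (hd : i ∣ n - j) : n % i < k := by
  have h : n % i = j % i := (Nat.modEq_iff_dvd' hjn).mpr hd |>.symm
  rw [h]
  exact (Nat.mod_le _ _).trans_lt hj

theorem le_of_dvd_sub {i n j : ℕ} (hj : j < n) (hd : i ∣ n - j) : i ≤ n :=
  (Nat.le_of_dvd (by omega) hd).trans (Nat.sub_le _ _)

/-- The main equivalence for `m`-spaces, for `r` prime to `q`. -/
theorem subspaces_iff [hr : Fact r.Prime] (hrF : (r : F) ≠ 0) (hn : n ≠ 0) (hm : 2 * m ≤ n)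
    (hj : ∃ j < m, orderOf (Fintype.card F : ZMod r) ∣ n - j) :
    (∀ x : Matrix.SpecialLinearGroup (Fin n) F,
      (∃ c : F, ((x ^ r : Matrix.SpecialLinearGroup (Fin n) F) : Matrix (Fin n) (Fin n) F) =
        c • (1 : Matrix (Fin n) (Fin n) F)) →
      (∀ c : F, (x : Matrix (Fin n) (Fin n) F) ≠ c • (1 : Matrix (Fin n) (Fin n) F)) →
      ∃ W : Submodule F (Fin n → F), finrank F W = m ∧
        W.map (Matrix.toLin' (x : Matrix (Fin n) (Fin n) F)) ≤ W) ↔
    ((orderOf (Fintype.card F : ZMod r) = 1 ∧ (r ∣ m ∨ Linear.Cond (Fintype.card F) n r)) ∨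
      (2 ≤ orderOf (Fintype.card F : ZMod r) ∧ orderOf (Fintype.card F : ZMod r) ≤ m ∧
        m % orderOf (Fintype.card F : ZMod r) ≤ n % orderOf (Fintype.card F : ZMod r))) := by
  rw [Linear.forall_iff hrF hn (fun f => ∃ W : Submodule F (Fin n → F), finrank F W = m ∧
      W.map f ≤ W) (fun d e c => ∃ a k, a ≤ e ∧ k ≤ c ∧ m = a + k * d)
    (fun f μ d e c hu hV => by
      rw [← hu.exists_inv_finrank_iff hV m]
      exact exists_congr fun W => and_comm)
    (fun e c h => ⟨min m e, m - min m e, by omega, by omega, by omega⟩)]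
  set i := orderOf (Fintype.card F : ZMod r) with hi
  have hipos : 0 < i := orderOf_card_pos hrF
  obtain ⟨j, hjm, hjd⟩ := hj
  have hin : i ≤ n := le_of_dvd_sub (by omega) hjd
  constructor
  · rintro ⟨hA, hB⟩
    rcases Nat.lt_or_ge i 2 with h2 | h2
    · have h1 : i = 1 := by omega
      refine Or.inl ⟨h1, or_iff_not_imp_right.mpr fun hc => ?_⟩
      by_cases hrn : r ∣ n
      · obtain ⟨a, k, ha, -, hmk⟩ := hB h1 hrn hc
        exact ⟨k, by rw [hmk, Nat.le_zero.mp ha, zero_add, mul_comm]⟩
      · exfalso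
        refine hc ⟨by rw [padicValNat.eq_zero_of_not_dvd hrn]; exact Nat.zero_le _, ?_⟩
        rintro rfl he
        exact absurd he.two_dvd hrn
    · refine Or.inr ⟨h2, ?_⟩
      obtain ⟨a, k, ha, -, hmk⟩ := hA h2 (n % i) (n / i)
        ((Nat.one_le_div_iff hipos).mpr hin) (by rw [mul_comm]; exact Nat.mod_add_div n i)
      have hmod : m % i ≤ n % i := by
        rw [hmk, Nat.add_mul_mod_self_right]
        exact (Nat.mod_le _ _).trans ha
      refine ⟨?_, hmod⟩
      by_contra h
      have := mod_lt_of_dvd_sub (by omega) hjm (by omega) hjd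
      rw [Nat.mod_eq_of_lt (by omega : m < i)] at hmod
      omega
  · intro h
    constructor
    · intro h2 e s _ hes
      obtain ⟨-, -, hmod⟩ := h.resolve_left (fun h1 => by omega)
      have hm' := Nat.mod_add_div m i
      have hn' := Nat.mod_add_div n i
      rw [mul_comm] at hm' hn'
      rcases Nat.le_total s (m / i) with hs | hs
      · have := Nat.mul_le_mul_right i hs
        exact ⟨m - s * i, s, by omega, le_rfl, by omega⟩
      · refine ⟨m % i, m / i, hmod.trans ?_, hs, hm'.symm⟩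
        rw [← hes, Nat.add_mul_mod_self_right]
        exact Nat.mod_le _ _
    · intro h1 hrn hc
      obtain ⟨-, h' | h'⟩ := h.resolve_right (fun h2 => by omega)
      · refine ⟨0, m / r, le_rfl, Nat.div_le_div_right (by omega), ?_⟩
        rw [zero_add, Nat.div_mul_cancel h']
      · exact absurd h' hc

/-- The main equivalence for nested pairs, for `r` prime to `q`. -/
theorem flags_iff [hr : Fact r.Prime] (hrF : (r : F) ≠ 0) (hn : n ≠ 0) (hm : 2 * m < n)
    (hj : ∃ j < 2 * m, orderOf (Fintype.card F : ZMod r) ∣ n - j) :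
    (∀ x : Matrix.SpecialLinearGroup (Fin n) F,
      (∃ c : F, ((x ^ r : Matrix.SpecialLinearGroup (Fin n) F) : Matrix (Fin n) (Fin n) F) =
        c • (1 : Matrix (Fin n) (Fin n) F)) →
      (∀ c : F, (x : Matrix (Fin n) (Fin n) F) ≠ c • (1 : Matrix (Fin n) (Fin n) F)) →
      ∃ U W : Submodule F (Fin n → F), U ≤ W ∧ finrank F U = m ∧ finrank F W = n - m ∧
        U.map (Matrix.toLin' (x : Matrix (Fin n) (Fin n) F)) ≤ U ∧
        W.map (Matrix.toLin' (x : Matrix (Fin n) (Fin n) F)) ≤ W) ↔
    ((orderOf (Fintype.card F : ZMod r) = 1 ∧ (r ∣ m ∨ Linear.Cond (Fintype.card F) n r)) ∨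
      (2 ≤ orderOf (Fintype.card F : ZMod r) ∧ orderOf (Fintype.card F : ZMod r) ≤ m ∧
        2 * (m % orderOf (Fintype.card F : ZMod r)) ≤
          n % orderOf (Fintype.card F : ZMod r))) := by
  rw [Linear.forall_iff hrF hn (fun f => ∃ U W : Submodule F (Fin n → F), U ≤ W ∧ finrank F U = m ∧
      finrank F W = n - m ∧ U.map f ≤ U ∧ W.map f ≤ W) (fun d e c => FlagType d e c m)
    (fun f μ d e c hu hV => by
      have hf := exists_flag_iff hu hV (m := m) (by rw [Module.finrank_fin_fun]; omega)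
      rwa [Module.finrank_fin_fun] at hf)
    (fun e c h => ⟨min m e, m - min m e, min m (e - min m e), m - min m (e - min m e), by omega,
      by omega, by omega, by omega⟩)]
  set i := orderOf (Fintype.card F : ZMod r) with hi
  have hipos : 0 < i := orderOf_card_pos hrF
  obtain ⟨j, hjm, hjd⟩ := hj
  have hin : i ≤ n := le_of_dvd_sub (by omega) hjd
  constructor
  · rintro ⟨hA, hB⟩
    rcases Nat.lt_or_ge i 2 with h2 | h2
    · have h1 : i = 1 := by omega
      refine Or.inl ⟨h1, or_iff_not_imp_right.mpr fun hc => ?_⟩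
      by_cases hrn : r ∣ n
      · obtain ⟨a, k, b, l, ha, -, hmk, -⟩ := hB h1 hrn hc
        exact ⟨k, by rw [hmk, show a = 0 by omega, zero_add, mul_comm]⟩
      · exfalso
        refine hc ⟨by rw [padicValNat.eq_zero_of_not_dvd hrn]; exact Nat.zero_le _, ?_⟩
        rintro rfl he
        exact absurd he.two_dvd hrn
    · refine Or.inr ⟨h2, ?_⟩
      obtain ⟨a, k, b, l, hab, -, hmk, hml⟩ := hA h2 (n % i) (n / i)
        ((Nat.one_le_div_iff hipos).mpr hin) (by rw [mul_comm]; exact Nat.mod_add_div n i)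
      have ha : m % i ≤ a := by rw [hmk, Nat.add_mul_mod_self_right]; exact Nat.mod_le _ _
      have hb : m % i ≤ b := by rw [hml, Nat.add_mul_mod_self_right]; exact Nat.mod_le _ _
      refine ⟨?_, by omega⟩
      by_contra h
      rw [Nat.mod_eq_of_lt (by omega : m < i)] at ha hb
      have h2m : 2 * m ≤ i := by
        have := Nat.mod_lt n hipos
        omega
      have := mod_lt_of_dvd_sub h2m hjm (by omega) hjd
      omega
  · intro h
    constructor
    · intro h2 e s _ hes
      obtain ⟨-, -, hmod⟩ := h.resolve_left (fun h1 => by omega)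
      have hm' := Nat.mod_add_div m i
      rw [mul_comm] at hm'
      have hse : n % i ≤ e := by
        rw [← hes, Nat.add_mul_mod_self_right]
        exact Nat.mod_le _ _
      rcases Nat.le_total s (2 * (m / i)) with hs | hs
      · have h3 : s * i = min s (m / i) * i + (s - min s (m / i)) * i := by
          rw [← Nat.add_mul]; congr 1; omega
        have h4 := Nat.mul_le_mul_right i (show min s (m / i) ≤ m / i by omega)
        have h5 := Nat.mul_le_mul_right i (show s - min s (m / i) ≤ m / i by omega)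
        exact ⟨m - min s (m / i) * i, min s (m / i), m - (s - min s (m / i)) * i,
          s - min s (m / i), by omega, by omega, by omega, by omega⟩
      · exact ⟨m % i, m / i, m % i, m / i, by omega, by omega, hm'.symm, hm'.symm⟩
    · intro h1 hrn hc
      obtain ⟨-, h' | h'⟩ := h.resolve_right (fun h2 => by omega)
      · refine ⟨0, m / r, 0, m / r, le_rfl, ?_, ?_, ?_⟩
        · rw [← two_mul]
          exact (Nat.mul_div_le_mul_div_assoc 2 m r).trans (Nat.div_le_div_right (by omega))
        all_goals rw [zero_add, Nat.div_mul_cancel h']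
      · exact absurd h' hc

end Cfsg.Agent.Lib.Elusive.Subspaces
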