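import Cfsg.Agent.Lib.Elusive.SympIsotropic

/-!
Isometries of odd prime order with prescribed Frobenius orbits on their pieces: few invariant
isotropic subspaces.
-/

set_option autoImplicit false

namespace Cfsg.Agent.Lib.Elusive.SympBlocks

open Module Cfsg.Agent.Lib.Symplectic Cfsg.Agent.Lib.Elusive.SympPieces
  Cfsg.Agent.Lib.Elusive.SympIsotropic Polynomial

variable {F : Type*} [Field F] [Fintype F] {r : ℕ} [hr : Fact r.Prime]

/-- Representatives of the cosets of the powers of `q` modulo `r`. -/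
theorem exists_reps (hrF : (r : F) ≠ 0) :
    ∃ a : Fin ((r - 1) / orderOf (Fintype.card F : ZMod r)) → ℕ,
      (∀ l, (a l : ZMod r) ≠ 0) ∧
      ∀ l l' k, (a l' : ZMod r) = (a l : ZMod r) * (Fintype.card F : ZMod r) ^ k → l = l' := by
  classical
  set u : (ZMod r)ˣ := Units.mk0 _ (card_cast_ne_zero (r := r) hrF) with hu
  have hcard : Nat.card ((ZMod r)ˣ ⧸ Subgroup.zpowers u) = (r - 1) / orderOf (Fintype.card F : ZMod r) := by
    have h1 := Subgroup.card_eq_card_quotient_mul_card_subgroup (Subgroup.zpowers u)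
    rw [Nat.card_eq_fintype_card (α := (ZMod r)ˣ), ZMod.card_units, Nat.card_zpowers,
      ← orderOf_units, Units.val_mk0] at h1
    rw [h1, Nat.mul_div_cancel _ (orderOf_card_pos hrF)]
  let φ := (Finite.equivFinOfCardEq hcard).symm
  refine ⟨fun l => ((φ l).out : ZMod r).val, fun l => ?_, fun l l' k h => ?_⟩
  · rw [ZMod.natCast_val, ZMod.cast_id]
    exact Units.ne_zero _
  · rw [ZMod.natCast_val, ZMod.cast_id, ZMod.natCast_val, ZMod.cast_id] at h
    refine φ.injective ?_
    rw [← QuotientGroup.out_eq' (φ l), ← QuotientGroup.out_eq' (φ l'), QuotientGroup.eq]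
    refine ⟨k, ?_⟩
    show u ^ (k : ℤ) = _
    rw [zpow_natCast, eq_inv_mul_iff_mul_eq]
    exact Units.ext (by rw [Units.val_mul, Units.val_pow_eq_pow_val]; exact h.symm)

variable {W₀ : Type*} [AddCommGroup W₀] [Module F W₀] [FiniteDimensional F W₀]

/-- An endomorphism of order `r` without invariant subspaces: powers share a factor only in an orbit. -/
theorem injective_or_orbit [Nontrivial W₀] {g : Module.End F W₀} (hg : g ^ r = 1)
    (hfix : ∀ v, g v = v → v = 0) (hirr : ∀ W : Submodule F W₀, Inv g W → W ≠ ⊥ → W = ⊤) (a b : ℕ)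
    (h : ¬ Function.Injective (aeval (g ^ b) (minpoly F (g ^ a)))) :
    ∃ k, (b : ZMod r) = (a : ZMod r) * (Fintype.card F : ZMod r) ^ k := by
  classical
  have hker : ∀ P : F[X], ¬ Function.Injective (aeval g P) → aeval g P = 0 := by
    intro P hP
    have hinv : Inv g (LinearMap.ker (aeval g P)) := Inv.of_mem fun x hx => by
      rw [LinearMap.mem_ker] at hx ⊢
      rw [← Module.End.mul_apply, show aeval g P * g = g * aeval g P by
        conv_lhs => arg 2; rw [← aeval_X (R := F) g]
        conv_rhs => arg 1; rw [← aeval_X (R := F) g]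
        rw [← map_mul, ← map_mul, mul_comm], Module.End.mul_apply, hx, map_zero]
    exact LinearMap.ker_eq_top.mp (hirr _ hinv fun h0 => hP (LinearMap.ker_eq_bot.mp h0))
  set m := minpoly F g with hm
  have hint : IsIntegral F g := Algebra.IsIntegral.isIntegral g
  haveI : Nontrivial (Module.End F W₀) := inferInstance
  have hirred : Irreducible m := by
    refine ⟨minpoly.not_isUnit F g, fun u v huv => ?_⟩
    by_contra hcon
    push Not at hcon
    obtain ⟨hu, hv⟩ := hcon
    have hu0 : u ≠ 0 := fun h0 => minpoly.ne_zero hint (by rw [← hm, huv, h0, zero_mul])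
    have hv0 : v ≠ 0 := fun h0 => minpoly.ne_zero hint (by rw [← hm, huv, h0, mul_zero])
    have hzero : ∀ x, aeval g u (aeval g v x) = 0 := fun x => by
      rw [← Module.End.mul_apply, ← map_mul, ← huv, hm, minpoly.aeval, LinearMap.zero_apply]
    have hdeg : ∀ w : F[X], w ≠ 0 → aeval g w = 0 → m.degree ≤ w.degree := fun w hw hw0 =>
      minpoly.degree_le_of_ne_zero F g hw hw0
    have hdu : 0 < u.degree := degree_pos_of_ne_zero_of_nonunit hu0 hu
    have hdv : 0 < v.degree := degree_pos_of_ne_zero_of_nonunit hv0 hv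
    rw [degree_eq_natDegree hu0] at hdu
    rw [degree_eq_natDegree hv0] at hdv
    norm_cast at hdu hdv
    have hm' : m.natDegree = u.natDegree + v.natDegree := by rw [huv, natDegree_mul hu0 hv0]
    by_cases hvi : Function.Injective (aeval g v)
    · have hu1 : aeval g u = 0 := LinearMap.ext fun x => by
        obtain ⟨y, rfl⟩ := LinearMap.injective_iff_surjective.mp hvi x
        rw [hzero, LinearMap.zero_apply]
      have := natDegree_le_natDegree (hdeg u hu0 hu1)
      omega
    · have := natDegree_le_natDegree (hdeg v hv0 (hker v hvi))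
      omega
  haveI : Fact (Irreducible m) := ⟨hirred⟩
  let L := AdjoinRoot m
  haveI : Module.Finite F L := (minpoly.monic hint).finite_adjoinRoot
  haveI : Finite L := Module.finite_of_finite F
  set ζ : L := AdjoinRoot.root m
  have hiff : ∀ P : F[X], aeval g P = 0 ↔ aeval ζ P = 0 := fun P => by
    show _ ↔ aeval (AdjoinRoot.root m) P = 0
    rw [AdjoinRoot.aeval_eq, AdjoinRoot.mk_eq_zero, hm, minpoly.dvd_iff]
  have hcomp : ∀ (P : F[X]) (k : ℕ), aeval g (P.comp (X ^ k)) = aeval (g ^ k) P := fun P k => by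
    rw [aeval_comp, map_pow, aeval_X]
  set M := minpoly F (g ^ a) with hM
  have hMb : aeval (ζ ^ b) M = 0 := by
    have h1 : aeval g (M.comp (X ^ b)) = 0 := hker _ (by rwa [hcomp])
    rw [hiff, aeval_comp, map_pow, aeval_X] at h1
    exact h1
  have hMa : minpoly F (ζ ^ a) = M := by
    refine eq_of_monic_of_associated (minpoly.monic (Algebra.IsIntegral.isIntegral _))
      (minpoly.monic (Algebra.IsIntegral.isIntegral _)) (associated_of_dvd_dvd (minpoly.dvd F _ ?_) ?_)
    · have h1 : aeval g (M.comp (X ^ a)) = 0 := by rw [hcomp, hM, minpoly.aeval]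
      rw [hiff, aeval_comp, map_pow, aeval_X] at h1
      exact h1
    · refine minpoly.dvd F _ ?_
      rw [← hcomp, hiff, aeval_comp, map_pow, aeval_X, minpoly.aeval]
  have hMb' : minpoly F (ζ ^ b) = minpoly F (ζ ^ a) := by
    refine (minpoly.eq_of_irreducible_of_monic (minpoly.irreducible (Algebra.IsIntegral.isIntegral _)) ?_
      (minpoly.monic (Algebra.IsIntegral.isIntegral _))).symm
    rw [hMa]; exact hMb
  obtain ⟨σ, hσ⟩ := (Normal.minpoly_eq_iff_mem_orbit (F := F) (E := L)).mp hMb'
  obtain ⟨k, hk⟩ := (FiniteField.bijective_frobeniusAlgEquivOfAlgebraic_pow F L).2 σ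
  refine ⟨k, ?_⟩
  have hfrob : ∀ (j : ℕ) (x : L),
      (FiniteField.frobeniusAlgEquivOfAlgebraic F L ^ j) x = x ^ (Fintype.card F ^ j) := fun j x => by
    rw [AlgEquiv.coe_pow, FiniteField.coe_frobeniusAlgEquivOfAlgebraic_iterate]
  have h1 : ζ ^ b = ζ ^ (a * Fintype.card F ^ (k : ℕ)) := by
    rw [← hσ, ← hk]
    show (FiniteField.frobeniusAlgEquivOfAlgebraic F L ^ (k : ℕ)) (ζ ^ a) = _
    rw [hfrob, ← pow_mul]
  have hζ : orderOf ζ = r := by
    refine orderOf_eq_prime ?_ fun h0 => ?_
    · have h2 : aeval g ((X : F[X]) ^ r - 1) = 0 := by simp [hg]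
      rw [hiff] at h2
      simpa [sub_eq_zero] using h2
    · have h2 : aeval ζ ((X : F[X]) - 1) = 0 := by simp [h0]
      rw [← hiff] at h2
      obtain ⟨x, hx⟩ := exists_ne (0 : W₀)
      exact hx (hfix x (by simpa [sub_eq_zero] using LinearMap.congr_fun h2 x))
  have hfin : IsOfFinOrder ζ := orderOf_pos_iff.mp (hζ ▸ hr.out.pos)
  rw [hfin.pow_eq_pow_iff_modEq, hζ, ← ZMod.natCast_eq_natCast_iff] at h1
  simpa using h1

/-- Powers prime to `r` have the same invariant subspaces. -/
theorem inv_of_pow {g : Module.End F W₀} (hg : g ^ r = 1) {a : ℕ} (ha : (a : ZMod r) ≠ 0)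
    {W : Submodule F W₀} (hW : Inv (g ^ a) W) : Inv g W := by
  obtain ⟨b, hb⟩ : ∃ b : ℕ, a * b ≡ 1 [MOD r] :=
    ⟨((a : ZMod r)⁻¹).val, by
      rw [← ZMod.natCast_eq_natCast_iff, Nat.cast_mul, ZMod.natCast_val, ZMod.cast_id, mul_inv_cancel₀ ha, Nat.cast_one]⟩
  have h1 : g = (g ^ a) ^ b := by
    rw [← pow_mul, pow_eq_pow_mod (a * b) hg, hb, Nat.mod_eq_of_lt hr.out.one_lt, pow_one]
  refine Inv.of_mem fun x hx => ?_
  rw [h1]
  exact pow_mem_inv hW hx b

/-- The orthogonal sum of `s` copies of a standard space and a standard space. -/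
def blockForm (F : Type*) [Field F] (s c e : ℕ) :
    ((Fin s → (Fin c ⊕ Fin c → F)) × (Fin e ⊕ Fin e → F)) →ₗ[F]
      ((Fin s → (Fin c ⊕ Fin c → F)) × (Fin e ⊕ Fin e → F)) →ₗ[F] F :=
  (∑ j, (stdForm c F).compl₁₂ ((LinearMap.proj j).comp (LinearMap.fst F _ _))
      ((LinearMap.proj j).comp (LinearMap.fst F _ _))) +
    (stdForm e F).compl₁₂ (LinearMap.snd F _ _) (LinearMap.snd F _ _)

omit [Fintype F] in
theorem blockForm_apply {s c e : ℕ} (x y : (Fin s → (Fin c ⊕ Fin c → F)) × (Fin e ⊕ Fin e → F)) :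
    blockForm F s c e x y = ∑ j, stdForm c F (x.1 j) (y.1 j) + stdForm e F x.2 y.2 := by
  simp [blockForm, LinearMap.sum_apply]

omit [Fintype F] in
theorem isSympForm_blockForm (s c e : ℕ) : IsSympForm (blockForm F s c e) := by
  refine ⟨fun x => ?_, fun x hx => Prod.ext (_root_.funext fun j => ?_) ?_⟩
  · rw [blockForm_apply]
    simp [(isSympForm_stdForm c F).self, (isSympForm_stdForm e F).self]
  · refine (isSympForm_stdForm c F).nondeg _ fun y => ?_
    have h1 := hx (Pi.single j y, 0)
    rw [blockForm_apply, Finset.sum_eq_single j (fun b _ hb => by simp [hb]) (by simp)] at h1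
    simpa using h1
  · refine (isSympForm_stdForm e F).nondeg _ fun y => ?_
    have h1 := hx (0, y)
    rw [blockForm_apply] at h1
    simpa using h1

/-- An element whose invariant isotropic subspaces meet few pieces. -/
theorem exists_deranged (hr2 : r ≠ 2) (hrF : (r : F) ≠ 0) {c : ℕ}
    (hc : orderOf (Fintype.card F : ZMod r) = 2 * c) (d e s o : ℕ) (hes : e + s * c = d)
    (hot : o ≤ (r - 1) / orderOf (Fintype.card F : ZMod r)) (hos : o ≤ s) (hso : o = 0 → s = 0) :
    ∃ x : Matrix.symplecticGroup (Fin d) F,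
      RootIso (stdForm d F) (Matrix.toLin' (x : Matrix (Fin d ⊕ Fin d) (Fin d ⊕ Fin d) F)) r ∧
      finrank F (End.eigenspace (Matrix.toLin' (x : Matrix (Fin d ⊕ Fin d) (Fin d ⊕ Fin d) F)) (1 : F)) = 2 * e ∧
      ∀ W : Submodule F (Fin d ⊕ Fin d → F),
        Inv (Matrix.toLin' (x : Matrix (Fin d ⊕ Fin d) (Fin d ⊕ Fin d) F)) W → Iso (stdForm d F) W →
        ∃ w k, finrank F W = w + k * (2 * c) ∧ w ≤ e ∧ 2 * k ≤ s + 1 - o := by
  classical
  have hcpos : 0 < c := by have := orderOf_card_pos hrF (r := r); omega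
  -- one piece
  obtain ⟨g, hg, hgE⟩ := exists_element hr2 hrF c 0 1 (by
    rw [hc, pieceDim, if_pos (even_two_mul c)]; omega)
  set g₀ : Module.End F (Fin c ⊕ Fin c → F) := Matrix.toLin' (g : Matrix (Fin c ⊕ Fin c) (Fin c ⊕ Fin c) F)
  have hfix : ∀ v, g₀ v = v → v = 0 := fun v hv => (Submodule.mem_bot F).mp
    ((Submodule.finrank_eq_zero.mp hgE).le (End.mem_eigenspace_iff.mpr (by rw [one_smul, hv])))
  haveI : Nonempty (Fin c ⊕ Fin c) := ⟨Sum.inl ⟨0, hcpos⟩⟩
  have hirr : ∀ W : Submodule F (Fin c ⊕ Fin c → F), Inv g₀ W → W ≠ ⊥ → W = ⊤ := by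
    intro W hW hne
    obtain ⟨v, hv, hv0⟩ := Submodule.exists_mem_ne_zero_of_ne_bot hne
    refine top_unique (Decomp.piece_le hg.uniform ⟨Inv.top g₀, ?_, ?_⟩ hW trivial hv0 hv)
    · rw [top_inf_eq, hgE, mul_zero]
    · rw [finrank_top, finrank_std, hc, zero_add, one_mul]
  obtain ⟨a, ha0, ha⟩ := exists_reps (r := r) hrF
  -- the blocks
  have hlab : ∀ j : Fin s, min (j : ℕ) (o - 1) < (r - 1) / orderOf (Fintype.card F : ZMod r) := fun j => by
    have := j.2
    omega
  let lab : Fin s → Fin ((r - 1) / orderOf (Fintype.card F : ZMod r)) := fun j => ⟨_, hlab j⟩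
  let G : Fin s → Module.End F (Fin c ⊕ Fin c → F) := fun j => g₀ ^ a (lab j)
  let f' : Module.End F ((Fin s → (Fin c ⊕ Fin c → F)) × (Fin e ⊕ Fin e → F)) :=
    (LinearMap.pi fun j => (G j).comp (LinearMap.proj j)).prodMap 1
  have hf' : ∀ z, f' z = (fun j => G j (z.1 j), z.2) := fun z => rfl
  have hGfix : ∀ j v, G j v = v → v = 0 := fun j v hv => by
    by_contra hv0
    have hW : Inv (g₀ ^ a (lab j)) (Submodule.span F {v}) := Inv.of_mem fun x hx => by
      obtain ⟨b, rfl⟩ := Submodule.mem_span_singleton.mp hx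
      rw [map_smul, show (g₀ ^ a (lab j)) v = v from hv]
      exact Submodule.mem_span_singleton.mpr ⟨b, rfl⟩
    have h1 := congrArg (fun W : Submodule F (Fin c ⊕ Fin c → F) => finrank F W)
      (hirr _ (inv_of_pow hg.pow (ha0 _) hW) (by rwa [Ne, Submodule.span_singleton_eq_bot]))
    simp only [finrank_span_singleton hv0, finrank_top, finrank_std] at h1
    omega
  obtain ⟨m, hm, T, hT⟩ := exists_std (isSympForm_blockForm (F := F) s c e)
  rw [finrank_prod, finrank_pi_fintype, Finset.sum_congr rfl (fun _ _ => finrank_std c F), finrank_std,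
    Finset.sum_const, Finset.card_univ, Fintype.card_fin, smul_eq_mul] at hm
  obtain rfl : m = d := by rw [mul_left_comm] at hm; omega
  let f : Module.End F (Fin m ⊕ Fin m → F) := T.symm.toLinearMap ∘ₗ f' ∘ₗ T.toLinearMap
  have hfT : ∀ v, T (f v) = f' (T v) := fun v => T.apply_symm_apply _
  have hiso : ∀ u v, stdForm m F (f u) (f v) = stdForm m F u v := fun u v => by
    rw [← hT, ← hT, hfT, hfT, blockForm_apply, blockForm_apply]
    congr 1
    exact Finset.sum_congr rfl fun j _ => hg.iso_pow (a (lab j)) _ _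
  have haev : ∀ (P : F[X]) z, aeval f' P z = (fun j => aeval (G j) P (z.1 j), aeval (1 : Module.End F (Fin e ⊕ Fin e → F)) P z.2) := by
    intro P
    induction P using Polynomial.induction_on' with
    | add p q hp hq => intro z; simp [hp, hq]; rfl
    | monomial k b =>
      intro z
      have hpow : ∀ k z, (f' ^ k) z = (fun j => ((G j) ^ k) (z.1 j), z.2) := by
        intro k
        induction k with
        | zero => intro z; rfl
        | succ k ih =>
          intro z
          rw [pow_succ', Module.End.mul_apply, ih, hf']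
          exact Prod.ext (_root_.funext fun j => by simp [pow_succ', Module.End.mul_apply]) rfl
      simp [aeval_monomial, hpow]
      rfl
  have hfr : f ^ r = 1 := by
    have hpow : ∀ k v, T ((f ^ k) v) = (f' ^ k) (T v) := by
      intro k
      induction k with
      | zero => intro v; rfl
      | succ k ih => intro v; rw [pow_succ', pow_succ', Module.End.mul_apply, Module.End.mul_apply, hfT, ih]
    refine LinearMap.ext fun v => T.injective ?_
    have h1 := haev (X ^ r) (T v)
    simp only [map_pow, aeval_X, one_pow, Module.End.one_apply] at h1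
    rw [hpow, h1]
    refine Prod.ext (_root_.funext fun j => ?_) rfl
    show ((g₀ ^ a (lab j)) ^ r) ((T v).1 j) = (T v).1 j
    rw [← _root_.pow_mul, mul_comm, _root_.pow_mul, hg.pow, one_pow, Module.End.one_apply]
  have hroot : RootIso (stdForm m F) f r := ⟨isSympForm_stdForm m F, hiso, hfr, hr2, hrF⟩
  have hfixed : ∀ v, v ∈ End.eigenspace f (1 : F) ↔ (T v).1 = 0 := fun v => by
    rw [End.mem_eigenspace_iff, one_smul, ← T.injective.eq_iff, hfT, hf']
    exact ⟨fun h => _root_.funext fun j => hGfix j _ (congrFun (congrArg Prod.fst h) j),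
      fun h => Prod.ext (_root_.funext fun j => by simp [h]) rfl⟩
  have hdim : finrank F (End.eigenspace f (1 : F)) = 2 * e := by
    have h1 : (End.eigenspace f (1 : F)).map T.toLinearMap =
        LinearMap.range (LinearMap.inr F (Fin s → (Fin c ⊕ Fin c → F)) (Fin e ⊕ Fin e → F)) := by
      refine le_antisymm ?_ ?_
      · rintro _ ⟨v, hv, rfl⟩
        exact ⟨(T v).2, Prod.ext ((hfixed v).mp hv).symm rfl⟩
      · rintro _ ⟨b, rfl⟩
        exact ⟨T.symm (0, b), (hfixed _).mpr (by rw [T.apply_symm_apply]), T.apply_symm_apply _⟩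
    rw [← LinearEquiv.finrank_map_eq T, h1, LinearMap.finrank_range_of_inj LinearMap.inr_injective, finrank_std]
  have hmem : LinearMap.toMatrix' f ∈ Matrix.symplecticGroup (Fin m) F :=
    mem_sp_iff.mpr fun x y => by rw [LinearMap.toMatrix'_mulVec, LinearMap.toMatrix'_mulVec, hiso]
  refine ⟨⟨_, hmem⟩, ?_⟩
  show RootIso (stdForm m F) (Matrix.toLin' (LinearMap.toMatrix' f)) r ∧
    finrank F (End.eigenspace (Matrix.toLin' (LinearMap.toMatrix' f)) (1 : F)) = 2 * e ∧
    ∀ W, Inv (Matrix.toLin' (LinearMap.toMatrix' f)) W → Iso (stdForm m F) W →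
      ∃ w k, finrank F W = w + k * (2 * c) ∧ w ≤ e ∧ 2 * k ≤ s + 1 - o
  rw [Matrix.toLin'_toMatrix']
  refine ⟨hroot, hdim, fun W hW hWiso => ?_⟩
  obtain ⟨k, hk⟩ := hroot.uniform.exists_type hW
  have hWd := hk.2.2
  rw [hc] at hWd
  refine ⟨_, k, hWd, ?_, ?_⟩
  · obtain ⟨-, -, -, -, -, hEnd, -⟩ := hroot.fixed_split (Inv.top f) (fun u _ hu => hroot.symp.nondeg u fun y => hu y trivial)
    rw [top_inf_eq] at hEnd
    have h1 := two_mul_finrank_le hroot.symp hEnd inf_le_right
      (fun u hu v hv => hWiso u hu.1 v hv.1 : Iso (stdForm m F) (W ⊓ End.eigenspace f (1 : F)))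
    rw [hdim] at h1
    omega
  -- the moved part
  obtain ⟨W', hW', hW'W, hdisj, hsup⟩ :=
    exists_compl hroot.uniform.semisimple hW (hW.inf_eigenspace (μ := (1 : F))) inf_le_left
  have hW'E : W' ⊓ End.eigenspace f (1 : F) = ⊥ := le_bot_iff.mp
    (hdisj ▸ le_inf (le_inf (inf_le_left.trans hW'W) inf_le_right) inf_le_left)
  have hW'd : finrank F W' = k * (2 * c) := by
    have h1 := finrank_sup_of_disjoint hdisj
    rw [hsup, hWd] at h1
    omega
  have hsnd : ∀ w ∈ W', (T w).2 = 0 := fun w hw => by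
    refine (isSympForm_stdForm e F).nondeg _ fun y => ?_
    have h1 := hroot.perp_fixed hW' hW'E w hw (T.symm (0, y)) ((hfixed _).mpr (by rw [T.apply_symm_apply]))
    rw [← hT, T.apply_symm_apply, blockForm_apply] at h1
    simpa using h1
  have hWim : ∀ P : F[X], ∀ w ∈ W', T.symm (aeval f' P (T w)) ∈ W' := by
    intro P w hw
    induction P using Polynomial.induction_on' with
    | add p q hp hq => simp only [map_add, LinearMap.add_apply]; exact W'.add_mem hp hq
    | monomial l b =>
      have hpow : ∀ l, T ((f ^ l) w) = (f' ^ l) (T w) := fun l => by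
        induction l with
        | zero => rfl
        | succ l ih => rw [pow_succ', pow_succ', Module.End.mul_apply, Module.End.mul_apply, hfT, ih]
      rw [aeval_monomial, Module.End.mul_apply, Module.algebraMap_end_apply, map_smul, ← hpow,
        LinearEquiv.symm_apply_apply]
      exact W'.smul_mem _ (pow_mem_inv hW' hw l)
  have hzero : ∀ j : Fin s, (∀ j', j' ≠ j → lab j' ≠ lab j) → ∀ w ∈ W', (T w).1 j = 0 := by
    intro j hj w hw
    let H : F[X] := ∏ l ∈ Finset.univ.erase (lab j), minpoly F (g₀ ^ a l)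
    have hinj : Function.Injective (aeval (G j) H) := by
      suffices hall : ∀ S : Finset (Fin ((r - 1) / orderOf (Fintype.card F : ZMod r))), lab j ∉ S →
          Function.Injective (aeval (G j) (∏ l ∈ S, minpoly F (g₀ ^ a l))) from
        hall _ (Finset.notMem_erase _ _)
      intro S
      induction S using Finset.induction_on with
      | empty => intro _; rw [Finset.prod_empty, map_one]; exact fun _ _ h => h
      | insert l S hl ih =>
        intro hnot
        rw [Finset.prod_insert hl, map_mul, Module.End.coe_mul]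
        refine Function.Injective.comp ?_ (ih fun h => hnot (Finset.mem_insert_of_mem h))
        by_contra hcon
        obtain ⟨k', hk'⟩ := injective_or_orbit hg.pow hfix hirr _ _ hcon
        exact hnot (ha l (lab j) k' hk' ▸ Finset.mem_insert_self _ _)
    let S : Submodule F (Fin c ⊕ Fin c → F) :=
      (W'.comap T.symm.toLinearMap).comap ((LinearMap.inl F _ _).comp (LinearMap.single F (fun _ : Fin s => Fin c ⊕ Fin c → F) j))
    have hS : Inv g₀ S := by
      refine inv_of_pow hg.pow (ha0 (lab j)) (Inv.of_mem fun u hu => ?_)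
      show T.symm (Pi.single j (G j u), 0) ∈ W'
      have h1 := hWim X _ hu
      simp only [aeval_X, LinearMap.coe_comp, Function.comp_apply, LinearEquiv.coe_coe, T.apply_symm_apply] at h1
      have h2 : ((Pi.single j (G j u), 0) : (Fin s → (Fin c ⊕ Fin c → F)) × (Fin e ⊕ Fin e → F)) =
          f' (Pi.single j u, 0) := by
        rw [hf']
        refine Prod.ext (_root_.funext fun j' => ?_) rfl
        rcases eq_or_ne j' j with rfl | hne <;> simp [*]
      rw [h2]
      exact h1
    have hSbot : S = ⊥ := by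
      by_contra hne
      have htop := hirr S hS hne
      obtain ⟨u, v, huv⟩ : ∃ u v, stdForm c F u v ≠ 0 := by
        obtain ⟨v, hv⟩ := (isSympForm_stdForm c F).exists_eq_one (u := Pi.single (Sum.inl ⟨0, hcpos⟩) 1) (by simp)
        exact ⟨_, v, by rw [hv]; exact one_ne_zero⟩
      have h1 := hWiso _ (hW'W (htop.ge (Submodule.mem_top (x := u)))) _ (hW'W (htop.ge (Submodule.mem_top (x := v))))
      rw [← hT] at h1
      rw [blockForm_apply, Finset.sum_eq_single j (fun b _ hb => by simp [hb]) (by simp)] at h1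
      simp at h1
      exact huv h1
    have hmem' : aeval (G j) H ((T w).1 j) ∈ S := by
      show T.symm (Pi.single j (aeval (G j) H ((T w).1 j)), 0) ∈ W'
      convert hWim H w hw using 2
      rw [haev]
      refine Prod.ext (_root_.funext fun j' => ?_) ?_
      · rcases eq_or_ne j' j with rfl | hne
        · simp
        · show Pi.single (M := fun _ : Fin s => Fin c ⊕ Fin c → F) j (aeval (G j) H ((T w).1 j)) j' = _
          rw [Pi.single_eq_of_ne hne]
          obtain ⟨H', hH'⟩ : minpoly F (G j') ∣ H :=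
            Finset.dvd_prod_of_mem (fun l => minpoly F (g₀ ^ a l))
              (Finset.mem_erase.mpr ⟨hj j' hne, Finset.mem_univ _⟩)
          show 0 = aeval (G j') H ((T w).1 j')
          rw [hH', map_mul, minpoly.aeval, zero_mul, LinearMap.zero_apply]
      · show 0 = aeval (1 : Module.End F (Fin e ⊕ Fin e → F)) H (T w).2
        rw [hsnd w hw, map_zero]
    rw [hSbot, Submodule.mem_bot] at hmem'
    exact (map_eq_zero_iff _ hinj).mp hmem'
  -- embed the moved part in the last class
  rcases Nat.eq_zero_or_pos s with rfl | hs0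
  · have hbot : W' = ⊥ := by
      rw [Submodule.eq_bot_iff]
      intro w hw
      exact T.injective (by rw [map_zero]; exact Prod.ext (_root_.funext fun j => j.elim0) (hsnd w hw))
    rw [hbot, finrank_bot] at hW'd
    rcases mul_eq_zero.mp hW'd.symm with h | h <;> omega
  have ho : 1 ≤ o := by
    by_contra h0
    have := hso (by omega)
    omega
  let idx : Fin (s + 1 - o) → Fin s := fun j' => ⟨o - 1 + j', by omega⟩
  let Ψ : W' →ₗ[F] ((Fin (s + 1 - o) → (Fin c ⊕ Fin c → F)) × (Fin 0 ⊕ Fin 0 → F)) :=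
    (LinearMap.pi fun j' => (LinearMap.proj (idx j')).comp
      ((LinearMap.fst F _ _).comp (T.toLinearMap.comp W'.subtype))).prod 0
  have hlow : ∀ j : Fin s, (j : ℕ) < o - 1 → ∀ w ∈ W', (T w).1 j = 0 := fun j hj => hzero j fun j' hne he => by
    have h1 : min (j' : ℕ) (o - 1) = min (j : ℕ) (o - 1) := congrArg Fin.val he
    exact hne (Fin.ext (by omega))
  have hsplit : ∀ j : Fin s, (j : ℕ) < o - 1 ∨ ∃ j', idx j' = j := fun j => by
    rcases lt_or_ge (j : ℕ) (o - 1) with h | h
    · exact Or.inl h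
    · exact Or.inr ⟨⟨j - (o - 1), by omega⟩, Fin.ext (by simp only [idx]; omega)⟩
  have hΨ : Function.Injective Ψ := (injective_iff_map_eq_zero Ψ).mpr fun w hw => Subtype.ext (T.injective (by
    rw [ZeroMemClass.coe_zero, map_zero]
    refine Prod.ext (_root_.funext fun j => ?_) (hsnd _ w.2)
    rcases hsplit j with hj | ⟨j', rfl⟩
    · exact hlow j hj _ w.2
    · exact congrFun (congrArg Prod.fst hw) j'))
  have hiso' : Iso (blockForm F (s + 1 - o) c 0) (LinearMap.range Ψ) := by
    rintro _ ⟨w, rfl⟩ _ ⟨w', rfl⟩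
    have h1 := hWiso _ (hW'W w.2) _ (hW'W w'.2)
    rw [← hT, blockForm_apply, hsnd _ w.2, map_zero, LinearMap.zero_apply, add_zero] at h1
    rw [blockForm_apply]
    show ∑ j', stdForm c F ((T (w : Fin m ⊕ Fin m → F)).1 (idx j')) ((T (w' : Fin m ⊕ Fin m → F)).1 (idx j')) +
      stdForm 0 F 0 0 = 0
    rw [map_zero, add_zero, ← h1]
    refine Finset.sum_of_injOn idx ?_ ?_ ?_ ?_
    · exact fun x _ y _ h => Fin.ext (by have := congrArg Fin.val h; simp only [idx] at this; omega)
    · exact fun x _ => Finset.mem_univ _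
    · intro j _ hj
      rcases hsplit j with h | ⟨j', rfl⟩
      · rw [hlow j h _ w.2, map_zero, LinearMap.zero_apply]
      · exact absurd ⟨j', Finset.mem_univ _, rfl⟩ hj
    · exact fun _ _ => rfl
  have h1 := two_mul_finrank_le (isSympForm_blockForm (F := F) (s + 1 - o) c 0) (X := ⊤)
    (fun u _ hu => (isSympForm_blockForm (F := F) _ c 0).nondeg u fun y => hu y trivial) le_top hiso'
  rw [LinearMap.finrank_range_of_inj hΨ, hW'd, finrank_top, finrank_prod, finrank_pi_fintype,
    Finset.sum_congr rfl (fun _ _ => finrank_std c F), finrank_std, Finset.sum_const, Finset.card_univ,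
    Fintype.card_fin, smul_eq_mul, mul_zero, add_zero, ← mul_assoc] at h1
  exact Nat.le_of_mul_le_mul_right h1 (by omega)

end Cfsg.Agent.Lib.Elusive.SympBlocks
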