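import Cfsg.Prelude.Def_GeometricClasses
import Cfsg.Agent.Lib.Elusive.SympPieces

/-!
Orthogonal decompositions of a symplectic space into nondegenerate subspaces of equal dimension:
grouping, transitivity and counting.
-/

set_option autoImplicit false

namespace Cfsg.Agent.Lib.Elusive.SympDecomp

open Module Cfsg.Agent.Lib.Symplectic Cfsg.Agent.Lib.Elusive.SympPieces

variable {F : Type*} [Field F] {d a t : ℕ}

/-- An orthogonal decomposition into `t` nondegenerate subspaces of dimension `a`. -/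
def IsOrth (a : ℕ) (D : Fin t → Submodule F (Fin d ⊕ Fin d → F)) : Prop :=
  Cfsg.Geo.IsMDecomposition a D ∧
    (∀ j, ∀ u ∈ D j, u ≠ 0 → ∃ v ∈ D j, Cfsg.sympForm d F u v ≠ 0) ∧
    (∀ j j', j ≠ j' → ∀ u ∈ D j, ∀ v ∈ D j', Cfsg.sympForm d F u v = 0)

theorem IsOrth.nondeg {D : Fin t → Submodule F (Fin d ⊕ Fin d → F)} (h : IsOrth a D) (j : Fin t) :
    Nondeg (stdForm d F) (D j) := fun x hx hxy => by
  by_contra hx0
  obtain ⟨v, hv, hne⟩ := h.2.1 j x hx hx0
  exact hne (by rw [← stdForm_eq_sympForm]; exact hxy v hv)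

theorem IsOrth.orth {D : Fin t → Submodule F (Fin d ⊕ Fin d → F)} (h : IsOrth a D) :
    ∀ j j', j ≠ j' → ∀ u ∈ D j, ∀ v ∈ D j', stdForm d F u v = 0 := fun j j' hj u hu v hv => by
  rw [stdForm_eq_sympForm]
  exact h.2.2 j j' hj u hu v hv

theorem isOrth_of_family (ht : 2 ≤ t) (ha : 0 < a) (hat : 2 * d = a * t)
    (D : Fin t → Submodule F (Fin d ⊕ Fin d → F)) (hD : ∀ j, finrank F (D j) = a)
    (hnd : ∀ j, Nondeg (stdForm d F) (D j))
    (horth : ∀ j j', j ≠ j' → ∀ u ∈ D j, ∀ v ∈ D j', stdForm d F u v = 0) : IsOrth a D := by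
  obtain ⟨-, hind, hsum⟩ := orth_family (isSympForm_stdForm d F) D hnd horth
  refine ⟨⟨ht, ha, hD, hind, ?_⟩, fun j u hu hu0 => ?_, fun j j' hj u hu v hv => ?_⟩
  · refine Submodule.eq_top_of_finrank_eq ?_
    show finrank F ↥(⨆ j, D j) = _
    rw [hsum, finrank_std, Finset.sum_congr rfl fun j _ => hD j, Finset.sum_const, Finset.card_univ,
      Fintype.card_fin, smul_eq_mul, hat, mul_comm]
  · by_contra hcon
    push Not at hcon
    exact hu0 (hnd j u hu fun v hv => by rw [stdForm_eq_sympForm]; exact hcon v hv)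
  · rw [← stdForm_eq_sympForm]
    exact horth j j' hj u hu v hv

/-- A nondegenerate subspace is a sum of orthogonal hyperbolic planes. -/
theorem exists_planes {V : Type*} [AddCommGroup V] [Module F V] [FiniteDimensional F V]
    {B : V →ₗ[F] V →ₗ[F] F} (hB : IsSympForm B) {W : Submodule F V} (hW : Nondeg B W) :
    ∃ (h : ℕ) (P : Fin h → Submodule F V), finrank F W = 2 * h ∧
      (∀ k, P k ≤ W ∧ Nondeg B (P k) ∧ finrank F (P k) = 2) ∧
      (∀ k l, k ≠ l → ∀ u ∈ P k, ∀ v ∈ P l, B u v = 0) ∧ ⨆ k, P k = W := by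
  classical
  obtain ⟨h, hh, T, hT⟩ := exists_std (isSympForm_restr hB hW)
  let L : (Fin h ⊕ Fin h → F) →ₗ[F] V := W.subtype ∘ₗ T.toLinearMap
  have hL : ∀ x y, B (L x) (L y) = stdForm h F x y := fun x y => hT x y
  let e : Fin h ⊕ Fin h → (Fin h ⊕ Fin h → F) := fun s => Pi.single s 1
  let P : Fin h → Submodule F V := fun k =>
    Submodule.span F {L (e (Sum.inl k)), L (e (Sum.inr k))}
  have hstd : ∀ s s', stdForm h F (e s) (e s') = match s, s' with
      | Sum.inl i, Sum.inr j => if i = j then -1 else 0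
      | Sum.inr i, Sum.inl j => if i = j then 1 else 0
      | _, _ => 0 := by
    rintro (i | i) (j | j) <;>
      simp [e, stdForm_apply, Pi.single_apply, Finset.sum_ite_eq, eq_comm] <;> split_ifs <;> simp_all
  have hmemP : ∀ k x, x ∈ P k → ∃ b c : F, x = b • L (e (Sum.inl k)) + c • L (e (Sum.inr k)) :=
    fun k x hx => by
      obtain ⟨b, c, hbc⟩ := Submodule.mem_span_pair.mp hx
      exact ⟨b, c, hbc.symm⟩
  have hl : ∀ k, L (e (Sum.inl k)) ∈ P k := fun k => Submodule.subset_span (by simp)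
  have hr : ∀ k, L (e (Sum.inr k)) ∈ P k := fun k => Submodule.subset_span (by simp)
  have hnd : ∀ k, Nondeg B (P k) := by
    intro k x hx hxy
    obtain ⟨b, c, rfl⟩ := hmemP k x hx
    have h1 := hxy _ (hr k)
    have h2 := hxy _ (hl k)
    simp [map_add, map_smul, LinearMap.add_apply, LinearMap.smul_apply, hL, hstd] at h1 h2
    simp [h1, h2]
  refine ⟨h, P, hh, fun k => ⟨?_, hnd k, ?_⟩, ?_, ?_⟩
  · rw [Submodule.span_le]
    rintro x (rfl | rfl) <;> exact Submodule.coe_mem _
  · have hle : finrank F (P k) ≤ 2 := by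
      have h1 := finrank_span_finset_le_card (R := F) ({L (e (Sum.inl k)), L (e (Sum.inr k))} : Finset V)
      rw [Finset.coe_pair] at h1
      exact h1.trans Finset.card_le_two
    have hpos : 0 < finrank F (P k) := by
      refine Nat.pos_of_ne_zero fun h0 => ?_
      have h1 := (Submodule.mem_bot F).mp ((Submodule.finrank_eq_zero.mp h0).le (hl k))
      have h2 := hL (e (Sum.inl k)) (e (Sum.inr k))
      rw [h1, map_zero, LinearMap.zero_apply, hstd] at h2
      simp at h2
    obtain ⟨m, hm⟩ := even_finrank_of_nondeg hB (hnd k)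
    omega
  · intro k l hkl u hu v hv
    obtain ⟨b, c, rfl⟩ := hmemP k u hu
    obtain ⟨b', c', rfl⟩ := hmemP l v hv
    simp [map_add, map_smul, LinearMap.add_apply, LinearMap.smul_apply, hL, hstd, hkl]
  · refine le_antisymm (iSup_le fun k => ?_) fun x hx => ?_
    · rw [Submodule.span_le]
      rintro y (rfl | rfl) <;> exact Submodule.coe_mem _
    · have h1 : x = L (T.symm ⟨x, hx⟩) := by simp [L]
      rw [h1, pi_eq_sum_univ' (T.symm ⟨x, hx⟩), map_sum]
      refine Submodule.sum_mem _ fun s _ => ?_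
      rw [map_smul]
      refine Submodule.smul_mem _ _ ?_
      rcases s with k | k
      · exact Submodule.mem_iSup_of_mem k (hl k)
      · exact Submodule.mem_iSup_of_mem k (hr k)

/-- Collect an invariant orthogonal family into blocks of dimension `a`. -/
theorem group {κ : Type*} [Fintype κ] (ht : 2 ≤ t) (ha : 0 < a) (hat : 2 * d = a * t)
    {f : Module.End F (Fin d ⊕ Fin d → F)} (hf : Function.Injective f)
    (U : κ → Submodule F (Fin d ⊕ Fin d → F)) (φ : κ → Fin t)
    (hinv : ∀ u, Inv f (U u)) (hnd : ∀ u, Nondeg (stdForm d F) (U u))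
    (horth : ∀ u u', u ≠ u' → ∀ x ∈ U u, ∀ y ∈ U u', stdForm d F x y = 0)
    (hsum : ∀ j, ∑ u ∈ Finset.univ.filter (fun u => φ u = j), finrank F (U u) = a) :
    ∃ D : Fin t → Submodule F (Fin d ⊕ Fin d → F), IsOrth a D ∧
      ∃ σ : Equiv.Perm (Fin t), ∀ j, (D j).map f = D (σ j) := by
  classical
  let D : Fin t → Submodule F (Fin d ⊕ Fin d → F) := fun j => ⨆ u : {u // φ u = j}, U u
  have hfam := fun j => orth_family (isSympForm_stdForm d F) (fun u : {u // φ u = j} => U u)
    (fun u => hnd u) (fun u u' h => horth _ _ (Subtype.coe_ne_coe.mpr h))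
  have hdim : ∀ j, finrank F (D j) = a := fun j => by
    rw [(hfam j).2.2, ← hsum j, Finset.sum_subtype (p := fun u => φ u = j) _ (by simp)]
  refine ⟨D, isOrth_of_family ht ha hat D hdim (fun j => (hfam j).1) ?_, 1, fun j => ?_⟩
  · intro j j' hj x hx y hy
    have hle : D j' ≤ LinearMap.ker (stdForm d F x) := iSup_le fun u' v hv => by
      have hle' : D j ≤ LinearMap.ker ((stdForm d F).flip v) := iSup_le fun u w hw => by
        rw [LinearMap.mem_ker, LinearMap.flip_apply]
        exact horth _ _ (fun h => hj (u.2.symm.trans ((congrArg φ h).trans u'.2))) w hw v hv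
      exact hle' hx
    exact hle hy
  · refine Submodule.eq_of_le_of_finrank_eq ?_
      ((Submodule.equivMapOfInjective f hf (D j)).finrank_eq.symm)
    show (⨆ u : {u // φ u = j}, U u).map f ≤ D j
    rw [Submodule.map_iSup]
    exact iSup_le fun u => (hinv u).trans (le_iSup (fun u : {u // φ u = j} => U u) u)

/-- Pieces of dimension `c` and planes fill the blocks. -/
theorem group_pieces {c s h : ℕ} (ht : 2 ≤ t) (ha : 0 < a) (hat : 2 * d = a * t)
    {f : Module.End F (Fin d ⊕ Fin d → F)} (hf : Function.Injective f)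
    (W : Fin s → Submodule F (Fin d ⊕ Fin d → F)) (P : Fin h → Submodule F (Fin d ⊕ Fin d → F))
    (hW : ∀ u, Inv f (W u) ∧ Nondeg (stdForm d F) (W u) ∧ finrank F (W u) = c)
    (hP : ∀ u, Inv f (P u) ∧ Nondeg (stdForm d F) (P u) ∧ finrank F (P u) = 2)
    (hWW : ∀ u u', u ≠ u' → ∀ x ∈ W u, ∀ y ∈ W u', stdForm d F x y = 0)
    (hPP : ∀ u u', u ≠ u' → ∀ x ∈ P u, ∀ y ∈ P u', stdForm d F x y = 0)
    (hWP : ∀ u u', ∀ x ∈ W u, ∀ y ∈ P u', stdForm d F x y = 0)
    (g k : Fin t → ℕ) (hg : ∑ j, g j = s) (hk : ∑ j, k j = h) (hgk : ∀ j, g j * c + 2 * k j = a) :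
    ∃ D : Fin t → Submodule F (Fin d ⊕ Fin d → F), IsOrth a D ∧
      ∃ σ : Equiv.Perm (Fin t), ∀ j, (D j).map f = D (σ j) := by
  classical
  let eW : Fin s ≃ Σ j, Fin (g j) := (finCongr hg.symm).trans finSigmaFinEquiv.symm
  let eP : Fin h ≃ Σ j, Fin (k j) := (finCongr hk.symm).trans finSigmaFinEquiv.symm
  refine group ht ha hat hf (Sum.elim W P) (Sum.elim (fun u => (eW u).1) fun u => (eP u).1)
    (Sum.rec (fun u => (hW u).1) fun u => (hP u).1) (Sum.rec (fun u => (hW u).2.1) fun u => (hP u).2.1)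
    ?_ fun j => ?_
  · rintro (u | u) (u' | u') hne x hx y hy
    · exact hWW u u' (fun h => hne (congrArg _ h)) x hx y hy
    · exact hWP u u' x hx y hy
    · exact (isSympForm_stdForm d F).comm_eq_zero.mp (hWP u' u y hy x hx)
    · exact hPP u u' (fun h => hne (congrArg _ h)) x hx y hy
  · have h1 : ∀ u, finrank F ↥(Sum.elim W P (Sum.inl u)) = c := fun u => (hW u).2.2
    have h2 : ∀ u, finrank F ↥(Sum.elim W P (Sum.inr u)) = 2 := fun u => (hP u).2.2
    rw [Finset.sum_filter, Fintype.sum_sum_type]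
    simp only [h1, h2]
    simp only [Sum.elim_inl, Sum.elim_inr]
    rw [← eW.symm.sum_comp, ← eP.symm.sum_comp, Fintype.sum_sigma, Fintype.sum_sigma]
    simp only [Equiv.apply_symm_apply]
    rw [Finset.sum_eq_single j (fun b _ hb => by simp [hb]) (by simp),
      Finset.sum_eq_single j (fun b _ hb => by simp [hb]) (by simp)]
    simp only [if_true, Finset.sum_const, Finset.card_univ, Fintype.card_fin, smul_eq_mul]
    rw [mul_comm _ 2]
    exact hgk j

theorem exists_isOrth (ht : 2 ≤ t) (ha : 0 < a) (hat : 2 * d = a * t) (hae : Even a) :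
    ∃ D : Fin t → Submodule F (Fin d ⊕ Fin d → F), IsOrth a D := by
  obtain ⟨b, rfl⟩ := hae.two_dvd
  have hnd : Nondeg (stdForm d F) ⊤ := fun u _ hu => (isSympForm_stdForm d F).nondeg u fun y => hu y trivial
  obtain ⟨h, P, hh, hP, hPP, -⟩ := exists_planes (isSympForm_stdForm d F) hnd
  rw [finrank_top, finrank_std] at hh
  obtain ⟨D, hD, -⟩ := group_pieces (c := 2) (s := 0) (f := LinearMap.id) ht ha hat Function.injective_id
    (fun j => j.elim0) P (fun j => j.elim0)
    (fun u => ⟨Inv.of_mem fun x hx => hx, (hP u).2.1, (hP u).2.2⟩) (fun j => j.elim0) hPP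
    (fun j => j.elim0) (fun _ => 0) (fun _ => b) (by simp)
    (by
      rw [Finset.sum_const, Finset.card_univ, Fintype.card_fin, smul_eq_mul]
      rw [mul_assoc] at hat
      rw [mul_comm]
      omega)
    (fun j => by omega)
  exact ⟨D, hD⟩

/-- Orthogonal decompositions are conjugate under the isometry group. -/
theorem exists_isom {D D' : Fin t → Submodule F (Fin d ⊕ Fin d → F)} (hD : IsOrth a D)
    (hD' : IsOrth a D') :
    ∃ g : Isom (stdForm d F), ∀ j,
      (D j).map (g : (Fin d ⊕ Fin d → F) ≃ₗ[F] (Fin d ⊕ Fin d → F)).toLinearMap = D' j := by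
  classical
  have hS := isSympForm_stdForm d F
  have hblock : ∀ {D : Fin t → Submodule F (Fin d ⊕ Fin d → F)} (hD : IsOrth a D) (j : Fin t),
      ∃ T : (Fin (a / 2) ⊕ Fin (a / 2) → F) ≃ₗ[F] D j, ∀ x y,
        restr (stdForm d F) (D j) (T x) (T y) = stdForm (a / 2) F x y := fun hD j => by
    obtain ⟨m, hm, T, hT⟩ := exists_std (isSympForm_restr hS (hD.nondeg j))
    rw [hD.1.finrank_eq] at hm
    obtain rfl : m = a / 2 := by omega
    exact ⟨T, hT⟩
  choose T hT using hblock hD
  choose T' hT' using hblock hD'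
  have hint : ∀ {D : Fin t → Submodule F (Fin d ⊕ Fin d → F)}, IsOrth a D → DirectSum.IsInternal D :=
    fun hD => DirectSum.isInternal_submodule_iff_iSupIndep_and_iSup_eq_top _ |>.mpr
      ⟨hD.1.indep, hD.1.iSup_eq_top⟩
  let b := (hint hD).collectedBasis fun j => (Pi.basisFun F _).map (T j)
  let b' := (hint hD').collectedBasis fun j => (Pi.basisFun F _).map (T' j)
  let g := b.equiv b' (Equiv.refl _)
  have hgb : ∀ y, g (b y) = b' y := fun y => by simp [g]
  have hb : ∀ j k, b ⟨j, k⟩ = (T j (Pi.single k 1) : Fin d ⊕ Fin d → F) := fun j k => by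
    simp [b, DirectSum.IsInternal.collectedBasis_coe]
  have hb' : ∀ j k, b' ⟨j, k⟩ = (T' j (Pi.single k 1) : Fin d ⊕ Fin d → F) := fun j k => by
    simp [b', DirectSum.IsInternal.collectedBasis_coe]
  have hform : (stdForm d F).compl₁₂ g.toLinearMap g.toLinearMap = stdForm d F := by
    refine b.ext fun ⟨j, k⟩ => b.ext fun ⟨j', k'⟩ => ?_
    rw [LinearMap.compl₁₂_apply, LinearEquiv.coe_coe, hgb, hgb, hb, hb, hb', hb']
    by_cases hjj : j = j'
    · subst hjj
      exact (hT' j _ _).trans (hT j _ _).symm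
    · rw [hD'.orth j j' hjj _ (Submodule.coe_mem _) _ (Submodule.coe_mem _),
        hD.orth j j' hjj _ (Submodule.coe_mem _) _ (Submodule.coe_mem _)]
  refine ⟨⟨g, fun x y => LinearMap.congr_fun₂ hform x y⟩, fun j => ?_⟩
  refine Submodule.eq_of_le_of_finrank_eq ?_ (by rw [LinearEquiv.finrank_map_eq, hD.1.finrank_eq, hD'.1.finrank_eq])
  have hspan : D j = Submodule.span F (Set.range fun k => b ⟨j, k⟩) := by
    have h1 := congrArg (Submodule.map (D j).subtype) ((Pi.basisFun F _).map (T j)).span_eq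
    rw [Submodule.map_top, Submodule.range_subtype, Submodule.map_span, ← Set.range_comp] at h1
    rw [← h1]
    congr 1
    congr 1
    funext k
    simp [hb]
  rw [hspan, Submodule.map_span, Submodule.span_le]
  rintro _ ⟨_, ⟨k, rfl⟩, rfl⟩
  show g (b ⟨j, k⟩) ∈ D' j
  rw [hgb, hb']
  exact Submodule.coe_mem _

theorem isOrth_map {D : Fin t → Submodule F (Fin d ⊕ Fin d → F)} (hD : IsOrth a D)
    (hat : 2 * d = a * t) (g : Isom (stdForm d F)) :
    IsOrth a fun j => (D j).map (g : (Fin d ⊕ Fin d → F) ≃ₗ[F] (Fin d ⊕ Fin d → F)).toLinearMap := by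
  refine isOrth_of_family hD.1.two_le hD.1.pos hat _
    (fun j => by rw [LinearEquiv.finrank_map_eq, hD.1.finrank_eq]) ?_ ?_
  · rintro j _ ⟨x, hx, rfl⟩ hxy
    rw [hD.nondeg j x hx fun y hy => (g.2 x y).symm.trans (hxy _ ⟨y, hy, rfl⟩), map_zero]
  · rintro j j' hj _ ⟨x, hx, rfl⟩ _ ⟨y, hy, rfl⟩
    exact (g.2 x y).trans (hD.orth j j' hj x hx y hy)

/-- A prime dividing the number of decompositions divides the order of the group. -/
theorem dvd_card [Fintype F] {r : ℕ} (ht : 2 ≤ t) (ha : 0 < a) (hat : 2 * d = a * t) (hae : Even a)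
    (h : r ∣ Nat.card {D : Fin t → Submodule F (Fin d ⊕ Fin d → F) // IsOrth a D} / t.factorial) :
    r ∣ Nat.card (Matrix.symplecticGroup (Fin d) F) := by
  classical
  let X := {D : Fin t → Submodule F (Fin d ⊕ Fin d → F) // IsOrth a D}
  haveI : Finite X := Subtype.finite
  letI : MulAction (Equiv.Perm (Fin t)) X :=
    { smul := fun π D => ⟨D.1 ∘ π.symm, isOrth_of_family ht ha hat _ (fun j => D.2.1.finrank_eq _)
        (fun j => D.2.nondeg _) (fun j j' hj => D.2.orth _ _ (fun e => hj (π.symm.injective e)))⟩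
      one_smul := fun D => Subtype.ext rfl
      mul_smul := fun π π' D => Subtype.ext rfl }
  have hne : ∀ D : X, Function.Injective D.1 := fun D => D.2.1.indep.injective fun j hj => by
    have h1 := D.2.1.finrank_eq j
    rw [hj, finrank_bot] at h1
    omega
  have hfree : ∀ D : X, MulAction.stabilizer (Equiv.Perm (Fin t)) D = ⊥ := fun D => by
    rw [eq_bot_iff]
    intro π hπ
    refine Subgroup.mem_bot.mpr (Equiv.ext fun j => ?_)
    have h1 := congrFun (congrArg Subtype.val (MulAction.mem_stabilizer_iff.mp hπ)) (π j)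
    have h2 := hne D (show D.1 (π.symm (π j)) = D.1 (π j) from h1)
    rw [π.symm_apply_apply] at h2
    exact h2.symm
  have hX : r ∣ Nat.card X := h.trans (Nat.div_dvd_of_dvd (by
    rw [Nat.card_congr (MulAction.selfEquivOrbitsQuotientProd hfree), Nat.card_prod, Nat.card_perm,
      Nat.card_fin]
    exact dvd_mul_left _ _))
  letI : MulAction (Isom (stdForm d F)) X :=
    { smul := fun g D => ⟨_, isOrth_map D.2 hat g⟩
      one_smul := fun D => Subtype.ext (funext fun j => Submodule.map_id _)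
      mul_smul := fun g g' D => Subtype.ext (funext fun j => Submodule.map_comp _ _ _) }
  haveI : MulAction.IsPretransitive (Isom (stdForm d F)) X := ⟨fun D D' => by
    obtain ⟨g, hg⟩ := exists_isom D.2 D'.2
    exact ⟨g, Subtype.ext (funext hg)⟩⟩
  obtain ⟨D₀, hD₀⟩ := exists_isOrth (F := F) ht ha hat hae
  rw [Nat.card_congr (spEquiv d F).toEquiv, ← Subgroup.index_mul_card (MulAction.stabilizer _ (⟨D₀, hD₀⟩ : X)),
    MulAction.index_stabilizer_of_transitive]
  exact dvd_mul_of_dvd_left hX _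

end Cfsg.Agent.Lib.Elusive.SympDecomp
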