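import Cfsg.Agent.Lib.Elusive.SympInv

/-!
Invariant totally singular subspaces of isometries of odd prime order, the count of totally singular
subspaces, and pairs of planes of a complex structure.
-/

set_option autoImplicit false

namespace Cfsg.Agent.Lib.Elusive.SympIsotropic

open Module Cfsg.Agent.Lib.Symplectic Cfsg.Agent.Lib.Elusive.SympPieces

variable {F V : Type*} [Field F] [AddCommGroup V] [Module F V] [FiniteDimensional F V]
  {B : V →ₗ[F] V →ₗ[F] F}

/-- The form vanishes on the subspace. -/
def Iso (B : V →ₗ[F] V →ₗ[F] F) (W : Submodule F V) : Prop := ∀ u ∈ W, ∀ v ∈ W, B u v = 0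

theorem iso_le_orth {W : Submodule F V} : Iso B W ↔ W ≤ orth B W :=
  ⟨fun h _ hx => mem_orth.mpr fun w hw => h w hw _ hx, fun h u hu v hv => mem_orth.mp (h hv) u hu⟩

theorem iso_sup (hB : IsSympForm B) {U W : Submodule F V} (hU : Iso B U) (hW : Iso B W)
    (h : ∀ u ∈ U, ∀ w ∈ W, B u w = 0) : Iso B (U ⊔ W) := by
  intro x hx y hy
  obtain ⟨a, ha, b, hb, rfl⟩ := Submodule.mem_sup.mp hx
  obtain ⟨a', ha', b', hb', rfl⟩ := Submodule.mem_sup.mp hy
  simp [hU a ha a' ha', h a ha b' hb', hW b hb b' hb', hB.comm_eq_zero.mp (h a' ha' b hb)]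

theorem finrank_add_orth (hB : IsSympForm B) (W : Submodule F V) :
    finrank F W + finrank F ↥(orth B W) = finrank F V := by
  let Φ : V →ₗ[F] Module.Dual F W := (B.compl₁₂ (LinearMap.id : V →ₗ[F] V) W.subtype)
  have hker : LinearMap.ker Φ = orth B W := by
    ext x
    rw [LinearMap.mem_ker, mem_orth]
    exact ⟨fun h w hw => hB.comm_eq_zero.mp (LinearMap.congr_fun h ⟨w, hw⟩),
      fun h => LinearMap.ext fun w => hB.comm_eq_zero.mp (h w w.2)⟩
  have hrange : LinearMap.range Φ = ⊤ := by
    have h1 : Function.Injective B := (injective_iff_map_eq_zero _).mpr fun x hx =>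
      hB.nondeg x fun y => by rw [hx]; rfl
    have h2 := (LinearMap.injective_iff_surjective_of_finrank_eq_finrank
      Subspace.dual_finrank_eq.symm).mp h1
    rw [LinearMap.range_eq_top]
    intro φ
    obtain ⟨ψ, hψ⟩ := LinearMap.exists_extend φ
    obtain ⟨x, hx⟩ := h2 ψ
    refine ⟨x, LinearMap.ext fun w => ?_⟩
    show B x (w : V) = φ w
    rw [hx, ← hψ]
    rfl
  have h3 := Φ.finrank_range_add_finrank_ker
  rw [hker, hrange, finrank_top, Subspace.dual_finrank_eq] at h3
  exact h3

/-- An isotropic subspace inside a nondegenerate one has at most half its dimension. -/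
theorem two_mul_finrank_le (hB : IsSympForm B) {X W : Submodule F V} (hX : Nondeg B X) (hWX : W ≤ X)
    (hW : Iso B W) : 2 * finrank F W ≤ finrank F X := by
  have h1 := finrank_add_orth (isSympForm_restr hB hX) (W.comap X.subtype)
  have h2 : W.comap X.subtype ≤ orth (restr B X) (W.comap X.subtype) := fun x hx =>
    mem_orth.mpr fun w hw => hW _ hw _ hx
  have h3 := Submodule.finrank_mono h2
  rw [(Submodule.comapSubtypeEquivOfLe hWX).finrank_eq] at h1 h3
  omega

/-- Isotropic subspaces of every dimension up to half. -/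
theorem exists_iso (hB : IsSympForm B) {X : Submodule F V} (hX : Nondeg B X) {k : ℕ}
    (hk : 2 * k ≤ finrank F X) : ∃ W, W ≤ X ∧ Iso B W ∧ finrank F W = k := by
  obtain ⟨h, hh, T, hT⟩ := exists_std (isSympForm_restr hB hX)
  let J : (Fin k → F) →ₗ[F] (Fin h ⊕ Fin h → F) :=
    { toFun := fun c => Sum.elim (fun i => if hi : (i : ℕ) < k then c ⟨i, hi⟩ else 0) 0
      map_add' := fun c c' => by
        funext s; rcases s with s | s
        · simp only [Pi.add_apply, Sum.elim_inl]; split <;> simp
        · simp
      map_smul' := fun a c => by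
        funext s; rcases s with s | s
        · simp only [Pi.smul_apply, Sum.elim_inl, RingHom.id_apply, smul_eq_mul]; split <;> simp
        · simp }
  let L : (Fin k → F) →ₗ[F] V := X.subtype ∘ₗ T.toLinearMap ∘ₗ J
  have hL : Function.Injective L := by
    refine X.injective_subtype.comp (T.injective.comp ((injective_iff_map_eq_zero J).mpr fun c hc => ?_))
    funext i
    have h1 := congrFun hc (Sum.inl ⟨i, by omega⟩)
    simpa [J] using h1
  refine ⟨LinearMap.range L, ?_, ?_, ?_⟩
  · rintro _ ⟨c, rfl⟩
    exact Submodule.coe_mem _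
  · rintro _ ⟨c, rfl⟩ _ ⟨c', rfl⟩
    show restr B X (T (J c)) (T (J c')) = 0
    rw [hT, stdForm_apply]
    exact Finset.sum_eq_zero fun i _ => by simp [J]
  · rw [LinearMap.finrank_range_of_inj hL, finrank_fin_fun]

section Count

variable (B) in
/-- Independent tuples with vanishing products. -/
def Frame (k : ℕ) : Type _ :=
  {v : Fin k → V // LinearIndependent F v ∧ ∀ a b, B (v a) (v b) = 0}

variable [Fintype F]

theorem card_frames (hB : IsSympForm B) {n : ℕ} (hn : finrank F V = 2 * n) :
    ∀ k, k ≤ n → Nat.card (Frame B k) =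
      ∏ i ∈ Finset.range k, (Fintype.card F ^ (2 * n - i) - Fintype.card F ^ i) := by
  haveI : Finite V := Module.finite_of_finite F
  haveI : ∀ k, Finite (Frame B k) := fun k => Subtype.finite
  intro k
  induction k with
  | zero =>
    intro _
    have hsub : Subsingleton (Frame B 0) := ⟨fun v w => Subtype.ext (funext fun i => i.elim0)⟩
    have hne : Nonempty (Frame B 0) := ⟨⟨fun i => i.elim0, linearIndependent_empty_type, fun a => a.elim0⟩⟩
    rw [Finset.prod_range_zero]
    exact Nat.card_unique
  | succ k ih =>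
    intro hk
    let e : Frame B (k + 1) ≃ Σ v : Frame B k,
        {x : V // x ∈ orth B (Submodule.span F (Set.range v.1)) ∧ x ∉ Submodule.span F (Set.range v.1)} :=
      { toFun := fun w => ⟨⟨Fin.tail w.1, (linearIndependent_fin_succ.mp w.2.1).1,
            fun a b => w.2.2 _ _⟩, w.1 0, by
          refine mem_orth.mpr fun u hu => ?_
          have hle : Submodule.span F (Set.range (Fin.tail w.1)) ≤ LinearMap.ker (B.flip (w.1 0)) := by
            rw [Submodule.span_le]
            rintro _ ⟨a, rfl⟩
            exact w.2.2 _ _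
          exact hle hu, (linearIndependent_fin_succ.mp w.2.1).2⟩
        invFun := fun p => ⟨Fin.cons p.2.1 p.1.1, linearIndependent_fin_succ.mpr
            ⟨by rw [Fin.tail_cons]; exact p.1.2.1, by rw [Fin.tail_cons, Fin.cons_zero]; exact p.2.2.2⟩, by
          have h1 : ∀ a, B (p.1.1 a) p.2.1 = 0 := fun a =>
            mem_orth.mp p.2.2.1 _ (Submodule.subset_span ⟨a, rfl⟩)
          intro a b
          refine Fin.cases ?_ (fun a => ?_) a <;> refine Fin.cases ?_ (fun b => ?_) b <;>
            simp only [Fin.cons_zero, Fin.cons_succ]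
          exacts [hB.self _, hB.comm_eq_zero.mp (h1 b), h1 a, p.1.2.2 a b]⟩
        left_inv := fun w => Subtype.ext (Fin.cons_self_tail w.1)
        right_inv := fun p => by
          obtain ⟨⟨v, hv⟩, x, hx⟩ := p
          refine Sigma.subtype_ext (Subtype.ext ?_) ?_
          · exact Fin.tail_cons (α := fun _ => V) x v
          · exact Fin.cons_zero (α := fun _ => V) x v }
    have hcount : ∀ v : Frame B k, Nat.card {x : V // x ∈ orth B (Submodule.span F (Set.range v.1)) ∧
        x ∉ Submodule.span F (Set.range v.1)} =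
        Fintype.card F ^ (2 * n - k) - Fintype.card F ^ k := by
      intro v
      set S := Submodule.span F (Set.range v.1) with hS
      have hSd : finrank F S = k := by rw [hS, finrank_span_eq_card v.2.1, Fintype.card_fin]
      have hle : S ≤ orth B S := iso_le_orth.mp fun u hu w hw => by
        induction hu using Submodule.span_induction with
        | mem u hu =>
          induction hw using Submodule.span_induction with
          | mem w hw => obtain ⟨a, rfl⟩ := hu; obtain ⟨b, rfl⟩ := hw; exact v.2.2 a b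
          | zero => exact map_zero _
          | add _ _ _ _ h h' => rw [map_add, h, h', add_zero]
          | smul c _ _ h => rw [map_smul, h, smul_zero]
        | zero => rw [map_zero, LinearMap.zero_apply]
        | add _ _ _ _ h h' => rw [map_add, LinearMap.add_apply, h, h', add_zero]
        | smul c _ _ h => rw [map_smul, LinearMap.smul_apply, h, smul_zero]
      have hod : finrank F ↥(orth B S) = 2 * n - k := by
        have := finrank_add_orth hB S
        omega
      have hc : ∀ W : Submodule F V, (W : Set V).ncard = Fintype.card F ^ finrank F W := fun W => by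
        rw [← Nat.card_coe_set_eq]
        exact (Module.natCard_eq_pow_finrank (K := F) (V := W)).trans (by rw [Nat.card_eq_fintype_card])
      show Nat.card ↥((orth B S : Set V) \ (S : Set V)) = _
      rw [Nat.card_coe_set_eq, Set.ncard_sdiff hle (Set.toFinite _), hc, hc, hod, hSd]
    haveI := Fintype.ofFinite (Frame B k)
    rw [Nat.card_congr e, Nat.card_sigma, Finset.sum_congr rfl fun v _ => hcount v, Finset.sum_const,
      smul_eq_mul, Finset.card_univ, ← Nat.card_eq_fintype_card, ih (by omega), Finset.prod_range_succ]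

/-- The count of isotropic subspaces, with the powers of `q` removed. -/
theorem card_iso (hB : IsSympForm B) {n m : ℕ} (hn : finrank F V = 2 * n) (hm : m ≤ n) :
    Nat.card {W : Submodule F V // finrank F W = m ∧ Iso B W} *
        ∏ i ∈ Finset.range m, (Fintype.card F ^ (m - i) - 1) =
      ∏ i ∈ Finset.range m, (Fintype.card F ^ (2 * (n - i)) - 1) := by
  classical
  haveI : Finite V := Module.finite_of_finite F
  haveI : Finite (Frame B m) := Subtype.finite
  let X := {W : Submodule F V // finrank F W = m ∧ Iso B W}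
  haveI : Finite X := Subtype.finite
  let g : (Σ W : X, {s : Fin m → W.1 // LinearIndependent F s}) → Frame B m := fun p =>
    ⟨fun a => (p.2.1 a : V), p.2.2.map' p.1.1.subtype p.1.1.ker_subtype,
      fun a b => p.1.2.2 _ (p.2.1 a).2 _ (p.2.1 b).2⟩
  have hspan : ∀ (W : X) (s : Fin m → W.1), LinearIndependent F s →
      Submodule.span F (Set.range fun a => (s a : V)) = W.1 := fun W s hs => by
    refine Submodule.eq_of_le_of_finrank_eq ?_ ((finrank_span_eq_card
      (hs.map' W.1.subtype W.1.ker_subtype)).trans (by rw [Fintype.card_fin, W.2.1]))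
    rw [Submodule.span_le]
    rintro _ ⟨a, rfl⟩
    exact (s a).2
  have hg : Function.Bijective g := by
    refine ⟨?_, fun v => ?_⟩
    · rintro ⟨W, s, hs⟩ ⟨W', s', hs'⟩ h
      have h0 : (fun a => (s a : V)) = fun a => (s' a : V) := congrArg Subtype.val h
      obtain rfl : W = W' := Subtype.ext (by rw [← hspan W s hs, ← hspan W' s' hs', h0])
      exact Sigma.ext rfl (heq_of_eq (Subtype.ext (funext fun a => Subtype.ext (congrFun h0 a))))
    · have hiso : Iso B (Submodule.span F (Set.range v.1)) := fun u hu w hw => by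
        induction hu using Submodule.span_induction with
        | mem u hu =>
          induction hw using Submodule.span_induction with
          | mem w hw => obtain ⟨a, rfl⟩ := hu; obtain ⟨b, rfl⟩ := hw; exact v.2.2 a b
          | zero => exact map_zero _
          | add _ _ _ _ h h' => rw [map_add, h, h', add_zero]
          | smul c _ _ h => rw [map_smul, h, smul_zero]
        | zero => rw [map_zero, LinearMap.zero_apply]
        | add _ _ _ _ h h' => rw [map_add, LinearMap.add_apply, h, h', add_zero]
        | smul c _ _ h => rw [map_smul, LinearMap.smul_apply, h, smul_zero]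
      exact ⟨⟨⟨_, (finrank_span_eq_card v.2.1).trans (Fintype.card_fin m), hiso⟩,
        fun a => ⟨v.1 a, Submodule.subset_span ⟨a, rfl⟩⟩,
        LinearIndependent.of_comp (Submodule.span F (Set.range v.1)).subtype v.2.1⟩, rfl⟩
  let e := (Equiv.ofBijective g hg).symm
  have h1 := card_frames hB hn m hm
  haveI := Fintype.ofFinite X
  have h2 : ∀ W : X, Nat.card {s : Fin m → W.1 // LinearIndependent F s} =
      ∏ i ∈ Finset.range m, (Fintype.card F ^ m - Fintype.card F ^ i) := fun W => by
    haveI : Fintype W.1 := Fintype.ofFinite _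
    rw [card_linearIndependent (K := F) (V := W.1) (by rw [W.2.1]), W.2.1,
      Finset.prod_range fun i => Fintype.card F ^ m - Fintype.card F ^ i]
  rw [Nat.card_congr e, Nat.card_sigma, Finset.sum_congr rfl fun W _ => h2 W, Finset.sum_const,
    smul_eq_mul, Finset.card_univ, ← Nat.card_eq_fintype_card] at h1
  have hl : ∀ i ∈ Finset.range m, Fintype.card F ^ m - Fintype.card F ^ i =
      Fintype.card F ^ i * (Fintype.card F ^ (m - i) - 1) := fun i hi => by
    rw [Finset.mem_range] at hi
    rw [Nat.mul_sub, mul_one, ← pow_add, Nat.add_sub_cancel' hi.le]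
  have hr : ∀ i ∈ Finset.range m, Fintype.card F ^ (2 * n - i) - Fintype.card F ^ i =
      Fintype.card F ^ i * (Fintype.card F ^ (2 * (n - i)) - 1) := fun i hi => by
    rw [Finset.mem_range] at hi
    rw [Nat.mul_sub, mul_one, ← pow_add, show i + 2 * (n - i) = 2 * n - i by omega]
  rw [Finset.prod_congr rfl hl, Finset.prod_congr rfl hr, Finset.prod_mul_distrib,
    Finset.prod_mul_distrib, mul_left_comm] at h1
  exact Nat.eq_of_mul_eq_mul_left (Finset.prod_pos fun i _ => pow_pos Fintype.card_pos _) h1

end Count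

section OddOrder

variable [Fintype F] {f : Module.End F V} {r : ℕ} [hr : Fact r.Prime] {X : Submodule F V}

theorem pow_mem_inv {W : Submodule F V} (hW : Inv f W) {v : V} (hv : v ∈ W) :
    ∀ k, (f ^ k) v ∈ W := by
  intro k
  induction k with
  | zero => simpa using hv
  | succ k ih => rw [pow_succ', Module.End.mul_apply]; exact hW.mem ih

/-- A nonzero vector whose orbit spans an isotropic subspace (Chevalley–Warning). -/
theorem exists_singular_vector (h : RootIso B f r) {p : ℕ} [Fact p.Prime] [CharP F p]
    (hdim : r - 1 < finrank F X) :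
    ∃ v ∈ X, v ≠ 0 ∧ Iso B (Submodule.span F (Set.range fun k : Fin r => (f ^ (k : ℕ)) v)) := by
  classical
  let b := finBasis F X
  obtain ⟨l, hl⟩ := hr.out.odd_of_ne_two h.two
  let P : Fin l → MvPolynomial (Fin (finrank F X)) F := fun k =>
    ∑ x, ∑ y, MvPolynomial.C (B (b x : V) ((f ^ ((k : ℕ) + 1)) (b y : V))) *
      (MvPolynomial.X x * MvPolynomial.X y)
  have hdeg : ∀ k, (P k).totalDegree ≤ 2 := fun k => by
    refine MvPolynomial.totalDegree_finsetSum_le fun x _ => MvPolynomial.totalDegree_finsetSum_le fun y _ => ?_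
    refine (MvPolynomial.totalDegree_mul _ _).trans ?_
    rw [MvPolynomial.totalDegree_C, zero_add]
    refine (MvPolynomial.totalDegree_mul _ _).trans ?_
    rw [MvPolynomial.totalDegree_X, MvPolynomial.totalDegree_X]
  have hsum : (∑ k, (P k).totalDegree) < Fintype.card (Fin (finrank F X)) := by
    have h1 := Finset.sum_le_sum (s := (Finset.univ : Finset (Fin l))) fun k _ => hdeg k
    rw [Finset.sum_const, Finset.card_univ, Fintype.card_fin, smul_eq_mul] at h1
    rw [Fintype.card_fin]
    omega
  have hdvd := char_dvd_card_solutions_of_fintype_sum_lt p (f := P) hsum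
  have heval : ∀ k c, MvPolynomial.eval c (P k) =
      B (∑ x, c x • (b x : V)) ((f ^ ((k : ℕ) + 1)) (∑ y, c y • (b y : V))) := fun k c => by
    simp only [P, map_sum, map_mul, MvPolynomial.eval_C, MvPolynomial.eval_X, map_smul,
      LinearMap.sum_apply, LinearMap.smul_apply, smul_eq_mul]
    rw [Finset.sum_comm]
    exact Finset.sum_congr rfl fun y _ => by rw [Finset.mul_sum]; exact Finset.sum_congr rfl fun x _ => by ring
  obtain ⟨c, hc, hc0⟩ : ∃ c : Fin (finrank F X) → F,
      (∀ k, MvPolynomial.eval c (P k) = 0) ∧ c ≠ 0 := by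
    by_contra hcon
    push Not at hcon
    have h1 : Nat.card {c : Fin (finrank F X) → F // ∀ k, MvPolynomial.eval c (P k) = 0} = 1 :=
      Nat.card_eq_one_iff_unique.mpr ⟨⟨fun c c' => Subtype.ext ((hcon c.1 c.2).trans (hcon c'.1 c'.2).symm)⟩,
        ⟨⟨0, fun k => by rw [heval]; simp⟩⟩⟩
    rw [← @Nat.card_eq_fintype_card _ (_), h1] at hdvd
    exact (Fact.out : p.Prime).not_dvd_one hdvd
  set v : V := ∑ x, c x • (b x : V) with hv
  have hvX : v ∈ X := X.sum_mem fun x _ => X.smul_mem _ (b x).2
  have hv0 : v ≠ 0 := fun h0 => hc0 (funext fun x => by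
    have h1 : ∑ x, c x • b x = (0 : X) := Subtype.ext (by simpa [hv] using h0)
    exact Fintype.linearIndependent_iff.mp b.linearIndependent c h1 x)
  refine ⟨v, hvX, hv0, ?_⟩
  have hk : ∀ k < r, B v ((f ^ k) v) = 0 := by
    intro k hk
    rcases Nat.eq_zero_or_pos k with rfl | hk0
    · exact h.symp.self v
    by_cases hkl : k ≤ l
    · have h1 := hc ⟨k - 1, by omega⟩
      rw [heval] at h1
      simp only [show k - 1 + 1 = k by omega, ← hv] at h1
      exact h1
    · have h1 := hc ⟨r - k - 1, by omega⟩
      rw [heval] at h1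
      simp only [show r - k - 1 + 1 = r - k by omega] at h1
      have h2 := h.iso_pow k v ((f ^ (r - k)) v)
      rw [← Module.End.mul_apply, ← pow_add, Nat.add_sub_cancel' hk.le, h.pow, Module.End.one_apply,
        hv, h1] at h2
      rw [hv]
      exact h.symp.comm_eq_zero.mp h2
  have hall : ∀ a b : ℕ, B ((f ^ a) v) ((f ^ b) v) = 0 := by
    have hper : ∀ k, (f ^ k) v = (f ^ (k % r)) v := fun k => by
      conv_lhs => rw [← Nat.mod_add_div k r, pow_add, _root_.pow_mul, h.pow, one_pow, mul_one]
    have hle : ∀ a b, B ((f ^ a) v) ((f ^ (a + b)) v) = 0 := fun a b => by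
      rw [pow_add, Module.End.mul_apply, h.iso_pow, hper]
      exact hk _ (Nat.mod_lt _ hr.out.pos)
    intro a b
    rcases Nat.le_total a b with hab | hab
    · obtain ⟨j, rfl⟩ := Nat.exists_eq_add_of_le hab
      exact hle a j
    · obtain ⟨j, rfl⟩ := Nat.exists_eq_add_of_le hab
      exact h.symp.comm_eq_zero.mp (hle b j)
  intro u hu w hw
  induction hu using Submodule.span_induction with
  | mem u hu =>
    induction hw using Submodule.span_induction with
    | mem w hw => obtain ⟨a, rfl⟩ := hu; obtain ⟨b, rfl⟩ := hw; exact hall a b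
    | zero => exact map_zero _
    | add _ _ _ _ h h' => rw [map_add, h, h', add_zero]
    | smul c _ _ h => rw [map_smul, h, smul_zero]
  | zero => rw [map_zero, LinearMap.zero_apply]
  | add _ _ _ _ h h' => rw [map_add, LinearMap.add_apply, h, h', add_zero]
  | smul c _ _ h => rw [map_smul, LinearMap.smul_apply, h, smul_zero]

/-- An isotropic piece. -/
theorem exists_iso_piece (h : RootIso B f r) {p : ℕ} [Fact p.Prime] [CharP F p] (hX : Inv f X)
    (hE : X ⊓ End.eigenspace f (1 : F) = ⊥) (hne : 0 < finrank F X)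
    (hcond : Odd (orderOf (Fintype.card F : ZMod r)) ∨ r - 1 < finrank F X) :
    ∃ P, P ≤ X ∧ Inv f P ∧ Iso B P ∧ finrank F P = orderOf (Fintype.card F : ZMod r) := by
  have hu := h.uniform
  have hbot : ∀ {W : Submodule F V}, W ≤ X → W ⊓ End.eigenspace f (1 : F) = ⊥ := fun hW =>
    le_bot_iff.mp (hE ▸ inf_le_inf_right _ hW)
  rcases hcond with hodd | hlarge
  · obtain ⟨P, hPX, hP⟩ := hu.exists_piece hX (by rw [hE, finrank_bot]; exact hne)
    have hPd : finrank F P = orderOf (Fintype.card F : ZMod r) := by rw [hP.2.2, zero_add, one_mul]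
    refine ⟨P, hPX, hP.1, ?_, hPd⟩
    rw [iso_le_orth]
    by_contra hle
    have hbot' : P ⊓ orth B P = ⊥ := by
      by_contra hne'
      obtain ⟨u, hu', hu0⟩ := Submodule.exists_mem_ne_zero_of_ne_bot hne'
      exact hle (Decomp.piece_le hu hP (h.inv_orth hP.1) hu'.1 hu0 hu'.2)
    have := even_finrank_of_nondeg h.symp ((nondeg_iff_inf_orth h.symp).mpr hbot')
    rw [hPd] at this
    exact Nat.not_even_iff_odd.mpr hodd this
  · obtain ⟨v, hv, hv0, hiso⟩ := exists_singular_vector h (p := p) hlarge
    set S := Submodule.span F (Set.range fun k : Fin r => (f ^ (k : ℕ)) v)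
    have hS : Inv f S := Decomp.inv_span_iterates hr.out.pos (z := 1) (by rw [one_smul, h.pow]) v
    have hSX : S ≤ X := Decomp.span_iterates_le hX hv
    have hvS : v ∈ S := Submodule.subset_span ⟨⟨0, hr.out.pos⟩, by simp⟩
    obtain ⟨P, hPS, hP⟩ := hu.exists_piece hS (by
      rw [hbot hSX, finrank_bot]
      exact Nat.pos_of_ne_zero fun h0 => hv0 ((Submodule.mem_bot F).mp ((Submodule.finrank_eq_zero.mp h0).le hvS)))
    exact ⟨P, hPS.trans hSX, hP.1, fun u hu' w hw => hiso u (hPS hu') w (hPS hw),
      by rw [hP.2.2, zero_add, one_mul]⟩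

/-- An isotropic invariant subspace completes to a nondegenerate invariant one of twice the dimension. -/
theorem exists_partner (h : RootIso B f r) {P : Submodule F V} (hX : Inv f X) (hnd : Nondeg B X)
    (hPX : P ≤ X) (hP : Inv f P) (hiso : Iso B P) :
    ∃ Q, P ≤ Q ∧ Q ≤ X ∧ Inv f Q ∧ Nondeg B Q ∧ finrank F Q = 2 * finrank F P := by
  obtain ⟨Z, hZ, hZX, hdisj, hsup⟩ :=
    exists_compl h.uniform.semisimple hX (hX.inf (h.inv_orth hP)) inf_le_left
  have hZY : ∀ z ∈ Z, (∀ p ∈ P, B p z = 0) → z = 0 := fun z hz hpz =>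
    (Submodule.mem_bot F).mp (hdisj.le ⟨⟨hZX hz, mem_orth.mpr hpz⟩, hz⟩)
  have hPZ : ∀ p ∈ P, (∀ z ∈ Z, B p z = 0) → p = 0 := fun p hp hpz =>
    hnd p (hPX hp) fun y hy => by
      obtain ⟨a, ha, b, hb, rfl⟩ := Submodule.mem_sup.mp (hsup.ge hy)
      rw [map_add, mem_orth.mp ha.2 p hp, zero_add, hpz b hb]
  have h1 : finrank F Z ≤ finrank F P :=
    (LinearMap.finrank_le_finrank_of_injective
      (f := (B.compl₁₂ P.subtype Z.subtype).flip) ((injective_iff_map_eq_zero _).mpr fun z hz =>
        Subtype.ext (hZY z z.2 fun p hp => LinearMap.congr_fun hz ⟨p, hp⟩))).trans Subspace.dual_finrank_eq.le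
  have h2 : finrank F P ≤ finrank F Z :=
    (LinearMap.finrank_le_finrank_of_injective
      (f := B.compl₁₂ P.subtype Z.subtype) ((injective_iff_map_eq_zero _).mpr fun p hp =>
        Subtype.ext (hPZ p p.2 fun z hz => LinearMap.congr_fun hp ⟨z, hz⟩))).trans Subspace.dual_finrank_eq.le
  refine ⟨P ⊔ Z, le_sup_left, sup_le hPX hZX, hP.sup hZ, fun x hx hxy => ?_, ?_⟩
  · obtain ⟨p, hp, z, hz, rfl⟩ := Submodule.mem_sup.mp hx
    have hz0 : z = 0 := hZY z hz fun p' hp' => by
      have h3 := hxy p' (Submodule.mem_sup_left hp')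
      rw [map_add, LinearMap.add_apply, hiso p hp p' hp', zero_add] at h3
      exact h.symp.comm_eq_zero.mp h3
    have hp0 : p = 0 := hPZ p hp fun z' hz' => by
      have h3 := hxy z' (Submodule.mem_sup_right hz')
      rwa [hz0, add_zero] at h3
    rw [hp0, hz0, add_zero]
  · rw [finrank_sup_of_disjoint, two_mul, le_antisymm h1 h2]
    exact le_bot_iff.mp (hdisj ▸ le_inf (le_inf (inf_le_left.trans hPX)
      (inf_le_left.trans (iso_le_orth.mp hiso))) inf_le_right)

/-- Invariant isotropic subspaces built from `k` pieces. -/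
theorem exists_iso_inv (h : RootIso B f r) {p : ℕ} [Fact p.Prime] [CharP F p] :
    ∀ k, ∀ X : Submodule F V, Inv f X → Nondeg B X → X ⊓ End.eigenspace f (1 : F) = ⊥ →
      (0 < k → (Odd (orderOf (Fintype.card F : ZMod r)) ∧
          2 * k * orderOf (Fintype.card F : ZMod r) ≤ finrank F X) ∨
        2 * (k - 1) * orderOf (Fintype.card F : ZMod r) + (r - 1) < finrank F X) →
      ∃ W, W ≤ X ∧ Inv f W ∧ Iso B W ∧ finrank F W = k * orderOf (Fintype.card F : ZMod r) := by
  intro k
  induction k with
  | zero =>
    exact fun X _ _ _ _ => ⟨⊥, bot_le, Inv.bot f, fun u hu v _ => by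
      rw [(Submodule.mem_bot F).mp hu, map_zero, LinearMap.zero_apply], by simp⟩
  | succ k ih =>
    intro X hX hnd hE hk
    set i := orderOf (Fintype.card F : ZMod r) with hi
    have hipos : 0 < i := orderOf_card_pos h.natCast
    obtain ⟨P, hPX, hP, hPiso, hPd⟩ := exists_iso_piece h (p := p) hX hE (by
        rcases hk k.succ_pos with ⟨-, h1⟩ | h1
        · have := Nat.le_mul_of_pos_left i (show 0 < 2 * (k + 1) by omega)
          omega
        · omega) (by
        rcases hk k.succ_pos with ⟨h1, -⟩ | h1
        · exact Or.inl h1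
        · exact Or.inr (by omega))
    obtain ⟨Q, hPQ, hQX, hQ, hQnd, hQd⟩ := exists_partner h hX hnd hPX hP hPiso
    obtain ⟨hY, -, hdim⟩ := split h.symp hQnd hnd hQX
    have e1 : 2 * (k + 1) * i = 2 * k * i + 2 * i := by ring
    obtain ⟨W, hWY, hW, hWiso, hWd⟩ := ih _ (hX.inf (h.inv_orth hQ)) hY
      (le_bot_iff.mp (hE ▸ inf_le_inf_right _ inf_le_left)) fun hk0 => by
        rcases hk k.succ_pos with ⟨h1, h2⟩ | h1
        · exact Or.inl ⟨h1, by rw [← hi] at hPd; omega⟩
        · refine Or.inr ?_
          have e2 : 2 * (k + 1 - 1) * i = 2 * (k - 1) * i + 2 * i := by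
            rw [show k + 1 - 1 = k - 1 + 1 by omega]; ring
          rw [← hi] at hPd
          omega
    have hperp : ∀ u ∈ P, ∀ w ∈ W, B u w = 0 := fun u hu w hw =>
      mem_orth.mp (hWY hw).2 u (hPQ hu)
    refine ⟨P ⊔ W, sup_le hPX (hWY.trans inf_le_left), hP.sup hW, iso_sup h.symp hPiso hWiso hperp, ?_⟩
    rw [finrank_sup_of_disjoint, hPd, hWd, ← hi]
    · ring
    · exact le_bot_iff.mp ((nondeg_iff_inf_orth h.symp).mp hQnd ▸
        inf_le_inf hPQ (hWY.trans inf_le_right))

end OddOrder

section Complex

variable [Fintype F] {f : Module.End F V}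

/-- For a complex structure two orthogonal invariant planes contain an invariant isotropic plane. -/
theorem exists_iso_plane (hB : IsSympForm B) (hiso : ∀ u v, B (f u) (f v) = B u v)
    (hsq : ∀ v, f (f v) = -v) (hns : ∀ c : F, c * c ≠ -1) {a a' : V} (ha : B a (f a) ≠ 0)
    (ha' : B a' (f a') ≠ 0)
    (horth : ∀ u ∈ ({a, f a} : Set V), ∀ v ∈ ({a', f a'} : Set V), B u v = 0) :
    ∃ W, W ≤ Submodule.span F {a, f a, a', f a'} ∧ Inv f W ∧ Iso B W ∧ finrank F W = 2 := by
  classical
  obtain ⟨s, t, hst⟩ : ∃ s t : F, s * s + t * t = -(B a' (f a')) / B a (f a) := by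
    obtain ⟨s, t, h⟩ := FiniteField.exists_root_sum_quadratic (f := (Polynomial.X ^ 2 : Polynomial F))
      (g := Polynomial.X ^ 2 - Polynomial.C (-(B a' (f a')) / B a (f a)))
      (by simp) (by rw [Polynomial.degree_X_pow_sub_C two_pos]; norm_cast)
      (FiniteField.odd_card_of_char_ne_two fun h2 => by
        haveI : CharP F 2 := ringChar.eq_iff.mp h2
        exact hns 1 (by rw [one_mul, CharTwo.neg_eq]))
    refine ⟨s, t, ?_⟩
    simp only [Polynomial.eval_pow, Polynomial.eval_X, Polynomial.eval_sub, Polynomial.eval_C] at h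
    linear_combination h
  set v := s • a + t • f a + a' with hv
  have hfv : f v = s • f a - t • a + f a' := by
    rw [hv, map_add, map_add, map_smul, map_smul, hsq, smul_neg, ← sub_eq_add_neg]
  have h1 := horth a (by simp) (f a') (by simp)
  have h2 := horth (f a) (by simp) a' (by simp)
  have h3 := horth a (by simp) a' (by simp)
  have h4 := horth (f a) (by simp) (f a') (by simp)
  have h5 : B a' a = 0 := hB.comm_eq_zero.mp h3
  have h6 : B a' (f a) = 0 := hB.comm_eq_zero.mp h2
  have hzero : B v (f v) = 0 := by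
    rw [hfv, hv]
    simp only [map_add, map_sub, map_smul, LinearMap.add_apply, LinearMap.smul_apply, smul_eq_mul,
      hB.self, h1, h3, h4, h5, h6, hB.swap (f a) a]
    rw [eq_div_iff ha] at hst
    linear_combination hst
  have hv0 : v ≠ 0 := fun h0 => by
    have h7 := congrArg (fun x => B x (f a')) h0
    simp only [hv, map_add, map_smul, LinearMap.add_apply, LinearMap.smul_apply, smul_eq_mul, h1, h4,
      mul_zero, zero_add, map_zero, LinearMap.zero_apply] at h7
    exact ha' h7
  have hvmem : v ∈ Submodule.span F {a, f a, a', f a'} :=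
    Submodule.add_mem _ (Submodule.add_mem _ (Submodule.smul_mem _ _ (Submodule.subset_span (by simp)))
      (Submodule.smul_mem _ _ (Submodule.subset_span (by simp)))) (Submodule.subset_span (by simp))
  refine ⟨Submodule.span F {v, f v}, ?_, ?_, ?_, ?_⟩
  · rw [Submodule.span_le]
    rintro x (rfl | rfl)
    · exact hvmem
    · rw [hfv]
      exact Submodule.add_mem _ (Submodule.sub_mem _ (Submodule.smul_mem _ _ (Submodule.subset_span (by simp)))
        (Submodule.smul_mem _ _ (Submodule.subset_span (by simp)))) (Submodule.subset_span (by simp))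
  · rw [Inv, Submodule.map_span, Submodule.span_le]
    rintro _ ⟨x, (rfl | rfl), rfl⟩
    · exact Submodule.subset_span (by simp)
    · rw [SetLike.mem_coe, hsq]
      exact Submodule.neg_mem _ (Submodule.subset_span (by simp))
  · intro x hx y hy
    obtain ⟨b, c, rfl⟩ := Submodule.mem_span_pair.mp hx
    obtain ⟨b', c', rfl⟩ := Submodule.mem_span_pair.mp hy
    simp [hzero, hB.self, hiso, hB.swap (f v) v]
  · have hli : LinearIndependent F ![v, f v] := by
      rw [linearIndependent_fin2]
      refine ⟨fun h0 => hv0 ?_, fun c hc => hns c⁻¹ ?_⟩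
      · have := congrArg f (show f v = 0 from h0)
        rwa [hsq, map_zero, neg_eq_zero] at this
      · simp at hc
        have hc0 : c ≠ 0 := by rintro rfl; rw [zero_smul] at hc; exact hv0 hc.symm
        have h8 : f v = c⁻¹ • v := by rw [← hc, smul_smul, inv_mul_cancel₀ hc0, one_smul, hc]
        have h9 := hsq v
        rw [h8, map_smul, h8, smul_smul] at h9
        have h10 : (c⁻¹ * c⁻¹ + 1) • v = 0 := by rw [add_smul, h9, one_smul, neg_add_cancel]
        exact eq_neg_of_add_eq_zero_left ((smul_eq_zero.mp h10).resolve_right hv0)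
    have := finrank_span_eq_card hli
    rwa [Matrix.range_cons, Matrix.range_cons, Matrix.range_empty, Set.union_empty,
      Set.singleton_union, Fintype.card_fin] at this

end Complex

end Cfsg.Agent.Lib.Elusive.SympIsotropic
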