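import Cfsg.Agent.Lib.Elusive.UnipotentType
import Cfsg.Agent.Lib.Elusive.SympInv
import Cfsg.Agent.Lib.JordanType.Parity
import Cfsg.Agent.Lib.JordanType.Conj

/-!
Unipotent isometries of an alternating form in odd characteristic: every admissible sub-multiset of
the block sizes is the type of an invariant nondegenerate subspace.
-/

set_option autoImplicit false

namespace Cfsg.Agent.Lib.Elusive.SympUnipotent

open Module Cfsg.Agent.Lib.Symplectic Cfsg.Agent.Lib.Elusive.SympPieces Cfsg.Agent.Lib.Elusive.SympInv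
  Cfsg.Agent.Lib.JordanType

universe u v

variable {F : Type u} [Field F] {V : Type v} [AddCommGroup V] [Module F V] [FiniteDimensional F V]
  {B : V →ₗ[F] V →ₗ[F] F} {N : Module.End F V}

/-- The block sizes of a nilpotent map on an invariant subspace. -/
def HasParts (N : Module.End F V) (X : Submodule F V) (μ : Multiset ℕ) : Prop :=
  ∃ (hX : ∀ x ∈ X, N x ∈ X) (s : ℕ) (d : Fin s → ℕ),
    (∀ k, 1 ≤ d k) ∧ UnipotentType.parts d = μ ∧ Nonempty (Coords (N.restrict hX) d)

theorem exists_parts (hN : IsNilpotent N) {X : Submodule F V} (hX : ∀ x ∈ X, N x ∈ X) :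
    ∃ μ, HasParts N X μ := by
  obtain ⟨m, hm⟩ := hN
  obtain ⟨s, d, hd, hC⟩ := exists_coords (N.restrict hX) (Module.End.isNilpotent.restrict hX ⟨m, hm⟩)
  exact ⟨_, hX, s, d, hd, rfl, hC⟩

theorem HasParts.unique {X : Submodule F V} {μ ν : Multiset ℕ} (h : HasParts N X μ)
    (h' : HasParts N X ν) : μ = ν := by
  obtain ⟨hX, s, d, hd, rfl, ⟨C⟩⟩ := h
  obtain ⟨hX', s', d', hd', rfl, ⟨C'⟩⟩ := h'
  exact UnipotentType.parts_unique C C' hd hd'

theorem HasParts.finrank_eq {X : Submodule F V} {μ : Multiset ℕ} (h : HasParts N X μ) :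
    finrank F X = μ.sum := by
  obtain ⟨hX, s, d, hd, rfl, ⟨C⟩⟩ := h
  rw [UnipotentType.parts_sum]
  exact C.sum_eq_finrank.symm

theorem HasParts.pos {X : Submodule F V} {μ : Multiset ℕ} (h : HasParts N X μ) :
    ∀ a ∈ μ, 0 < a := by
  obtain ⟨hX, s, d, hd, rfl, -⟩ := h
  intro a ha
  obtain ⟨k, -, rfl⟩ := Multiset.mem_map.mp ha
  exact hd k

theorem HasParts.le_iff {X : Submodule F V} {μ : Multiset ℕ} (h : HasParts N X μ) (j : ℕ) :
    (∀ a ∈ μ, a ≤ j) ↔ ∀ x ∈ X, (N ^ j) x = 0 := by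
  obtain ⟨hX, s, d, hd, rfl, ⟨C⟩⟩ := h
  have hpow : ∀ (x : X), (((N.restrict hX) ^ j) x : V) = (N ^ j) (x : V) := fun x => by
    induction j with
    | zero => rfl
    | succ j ih => rw [pow_succ', pow_succ', Module.End.mul_apply, Module.End.mul_apply, ← ih]; rfl
  constructor
  · intro hj x hx
    have h1 := (C.pow_eq_zero_iff (j := j)).mpr fun k => hj _ (Multiset.mem_map_of_mem d (Finset.mem_univ k))
    rw [← hpow ⟨x, hx⟩, h1]
    rfl
  · intro hj a ha
    obtain ⟨k, -, rfl⟩ := Multiset.mem_map.mp ha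
    exact (C.pow_eq_zero_iff (j := j)).mp (LinearMap.ext fun x => Subtype.ext (by
      rw [hpow]; exact hj x x.2)) k

theorem HasParts.sup {U W : Submodule F V} {μ ν : Multiset ℕ} (h : HasParts N U μ)
    (h' : HasParts N W ν) (hdisj : U ⊓ W = ⊥) : HasParts N (U ⊔ W) (μ + ν) := by
  classical
  obtain ⟨hU, s₁, d₁, hd₁, rfl, ⟨C₁⟩⟩ := h
  obtain ⟨hW, s₂, d₂, hd₂, rfl, ⟨C₂⟩⟩ := h'
  have hUW : ∀ x ∈ U ⊔ W, N x ∈ U ⊔ W := fun x hx => by
    obtain ⟨a, ha, b, hb, rfl⟩ := Submodule.mem_sup.mp hx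
    rw [map_add]
    exact Submodule.add_mem _ (Submodule.mem_sup_left (hU a ha)) (Submodule.mem_sup_right (hW b hb))
  let M : Module.End F (U × W) := (N.restrict hU).prodMap (N.restrict hW)
  let glue : ((((k : Fin s₁) × Fin (d₁ k)) → F) × (((k : Fin s₂) × Fin (d₂ k)) → F)) ≃ₗ[F]
      (((k : Fin s₁ ⊕ Fin s₂) × Fin (Sum.elim d₁ d₂ k)) → F) :=
    (LinearEquiv.sumArrowLequivProdArrow _ _ F F).symm ≪≫ₗ
      LinearEquiv.funCongrLeft F F (Equiv.sumSigmaDistrib fun k => Fin (Sum.elim d₁ d₂ k))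
  let E := C₁.E.prodCongr C₂.E ≪≫ₗ glue
  have hl : ∀ (x : U × W) k i, E x ⟨Sum.inl k, i⟩ = C₁.E x.1 ⟨k, i⟩ := fun x k i => rfl
  have hr : ∀ (x : U × W) k i, E x ⟨Sum.inr k, i⟩ = C₂.E x.2 ⟨k, i⟩ := fun x k i => rfl
  let C : Coords M (Sum.elim d₁ d₂) :=
    { E := E
      zero' := fun x k h => by
        rcases k with k | k
        · rw [hl]; exact C₁.zero' _ k h
        · rw [hr]; exact C₂.zero' _ k h
      succ' := fun x k i h => by
        rcases k with k | k
        · rw [hl, hl]; exact C₁.succ' _ k i h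
        · rw [hr, hr]; exact C₂.succ' _ k i h }
  let φ : (U × W) →ₗ[F] ↥(U ⊔ W) :=
    (Submodule.inclusion le_sup_left).coprod (Submodule.inclusion le_sup_right)
  have hφ : Function.Bijective φ := by
    refine ⟨(injective_iff_map_eq_zero _).mpr fun x hx => ?_, fun x => ?_⟩
    · have h1 : (x.1 : V) + x.2 = 0 := congrArg Subtype.val hx
      have h2 : (x.1 : V) ∈ U ⊓ W := ⟨x.1.2, eq_neg_of_add_eq_zero_left h1 ▸ W.neg_mem x.2.2⟩
      rw [hdisj, Submodule.mem_bot] at h2
      rw [h2, zero_add] at h1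
      exact Prod.ext (Subtype.ext h2) (Subtype.ext h1)
    · obtain ⟨a, ha, b, hb, h1⟩ := Submodule.mem_sup.mp x.2
      exact ⟨(⟨a, ha⟩, ⟨b, hb⟩), Subtype.ext h1⟩
  let C' := C.map (LinearEquiv.ofBijective φ hφ) (N' := N.restrict hUW) fun x => Subtype.ext
    (show N (x.1 : V) + N (x.2 : V) = N ((x.1 : V) + x.2) from (map_add N _ _).symm)
  refine ⟨hUW, s₁ + s₂, Sum.elim d₁ d₂ ∘ finSumFinEquiv.symm, fun k => ?_, ?_,
    ⟨C'.reindex finSumFinEquiv fun k => by simp⟩⟩
  · rcases h0 : finSumFinEquiv.symm k with a | a <;> simp [Function.comp_apply, h0, hd₁, hd₂]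
  · rw [← UnipotentType.parts_sum_elim]
    unfold UnipotentType.parts
    rw [← Multiset.map_map]
    congr 1
    exact congrArg Finset.val (Finset.map_univ_equiv finSumFinEquiv.symm)

theorem HasParts.parity {X : Submodule F V} {μ : Multiset ℕ} (h : HasParts N X μ) (hB : IsSympForm B)
    (hiso : ∀ u v, B (u + N u) (v + N v) = B u v) (hnd : Nondeg B X) {j : ℕ} (hj : Odd j) :
    Even (μ.count j) := by
  obtain ⟨hX, s, d, hd, rfl, ⟨C⟩⟩ := h
  have hs := isSympForm_restr hB hnd
  rw [UnipotentType.count_parts]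
  exact even_count_of_alt (B := restr B X)
    ⟨hs.nondeg, fun y hy => hs.nondeg y fun x => hs.comm_eq_zero.mp (hy x)⟩ hs.self
    (fun u v => hiso u v) C hj

/-- The hypotheses: a unipotent isometry `1 + N` away from characteristic two. -/
structure UniIso (B : V →ₗ[F] V →ₗ[F] F) (N : Module.End F V) : Prop where
  symp : IsSympForm B
  iso : ∀ u v, B (u + N u) (v + N v) = B u v
  nil : IsNilpotent N
  two : (2 : F) ≠ 0

theorem UniIso.injective (h : UniIso B N) : Function.Injective (1 + N : Module.End F V) :=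
  (injective_iff_map_eq_zero _).mpr fun u hu => h.symp.nondeg u fun y => by
    rw [← h.iso u y, show u + N u = (1 + N : Module.End F V) u from rfl, hu, map_zero,
      LinearMap.zero_apply]

theorem UniIso.orth_mem (h : UniIso B N) {W : Submodule F V} (hW : ∀ x ∈ W, N x ∈ W) :
    ∀ x ∈ orth B W, N x ∈ orth B W := fun x hx => by
  have hinv : Inv (1 + N : Module.End F V) (orth B W) := inv_orth h.injective (fun u v => h.iso u v)
    (Inv.of_mem fun y hy => W.add_mem hy (hW y hy))
  simpa using (orth B W).sub_mem (hinv.mem hx) hx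

/-- Seeds with an invertible pairing span a nondegenerate sum of blocks of one size. -/
theorem UniIso.cyclic (h : UniIso B N) {ι : Type} [Fintype ι] (x : ι → V) {j : ℕ} (hj : 1 ≤ j)
    (hx : ∀ a, (N ^ j) (x a) = 0)
    (hM : ∀ c : ι → F, (∀ b, ∑ a, c a * B (x a) ((N ^ (j - 1)) (x b)) = 0) → c = 0) :
    ∃ P : Submodule F V, P = Submodule.span F (Set.range fun y : ι × Fin j => (N ^ (y.2 : ℕ)) (x y.1)) ∧
      (∀ v ∈ P, N v ∈ P) ∧ Nondeg B P ∧ finrank F P = Fintype.card ι * j := by
  classical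
  obtain ⟨D, hD⟩ := h.nil
  let e : ι × Fin j → V := fun y => (N ^ (y.2 : ℕ)) (x y.1)
  have key : ∀ c : ι × Fin j → F, (∀ z, B (∑ y, c y • e y) (e z) = 0) → c = 0 := by
    intro c hc
    suffices hall : ∀ r, ∀ y : ι × Fin j, (y.2 : ℕ) = r → c y = 0 from funext fun y => hall _ y rfl
    intro r
    induction r using Nat.strong_induction_on with
    | _ r ih =>
      rintro ⟨a₀, r₀⟩ hr
      simp only at hr
      have hz : (fun a => c (a, r₀)) = 0 := hM _ fun b => by
        have h1 := hc (b, ⟨j - 1 - r, by omega⟩)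
        rw [map_sum, LinearMap.sum_apply, Fintype.sum_prod_type] at h1
        have h2 : ∀ a, ∑ s : Fin j, B (c (a, s) • e (a, s)) (e (b, ⟨j - 1 - r, by omega⟩)) =
            c (a, r₀) * ((-1) ^ r * B (x a) ((N ^ (j - 1)) (x b))) := fun a => by
          rw [Finset.sum_eq_single r₀ (fun s _ hs => ?_) (by simp)]
          · rw [map_smul, LinearMap.smul_apply, smul_eq_mul]
            show c (a, r₀) * B ((N ^ (r₀ : ℕ)) (x a)) ((N ^ (j - 1 - r)) (x b)) = _
            rw [pow_pair_sign ⟨D, hD⟩ h.iso (hx a) (r₀ : ℕ) (j - 1 - r) (by omega),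
              show (r₀ : ℕ) + (j - 1 - r) = j - 1 by omega, hr]
          · rw [map_smul, LinearMap.smul_apply, smul_eq_mul]
            rcases lt_or_gt_of_ne (show (s : ℕ) ≠ r from fun e' => hs (Fin.ext (by omega))) with hlt | hgt
            · rw [ih _ hlt (a, s) rfl, zero_mul]
            · show c (a, s) * B ((N ^ (s : ℕ)) (x a)) ((N ^ (j - 1 - r)) (x b)) = 0
              rw [pow_pair_eq_zero hD h.iso (hx a) (j + D) (s : ℕ) (j - 1 - r) (by omega) (by omega),
                mul_zero]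
        rw [Finset.sum_congr rfl fun a _ => h2 a] at h1
        rw [← mul_left_cancel₀ (pow_ne_zero r (neg_ne_zero.mpr one_ne_zero) : ((-1 : F) ^ r) ≠ 0)
          (show (-1) ^ r * ∑ a, c (a, r₀) * B (x a) ((N ^ (j - 1)) (x b)) = (-1) ^ r * 0 by
            rw [Finset.mul_sum, mul_zero]
            conv_rhs => rw [← h1]
            exact Finset.sum_congr rfl fun a _ => by ring)]
      exact congrFun hz a₀
  have hli : LinearIndependent F e :=
    Fintype.linearIndependent_iff.mpr fun c hc => congrFun (key c fun z => by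
      rw [hc, map_zero, LinearMap.zero_apply])
  refine ⟨_, rfl, ?_, fun v hv hvy => ?_, ?_⟩
  · intro v hv
    have hle : Submodule.span F (Set.range e) ≤ (Submodule.span F (Set.range e)).comap N := by
      rw [Submodule.span_le]
      rintro _ ⟨⟨a, s⟩, rfl⟩
      rw [SetLike.mem_coe, Submodule.mem_comap]
      show N ((N ^ (s : ℕ)) (x a)) ∈ _
      rw [← Module.End.mul_apply, ← pow_succ']
      by_cases hs : (s : ℕ) + 1 < j
      · exact Submodule.subset_span ⟨(a, ⟨_, hs⟩), rfl⟩
      · rw [show (s : ℕ) + 1 = j by omega, hx]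
        exact Submodule.zero_mem _
    exact hle hv
  · obtain ⟨c, rfl⟩ := (Submodule.mem_span_range_iff_exists_fun F).mp hv
    have h0 := key c fun z => hvy _ (Submodule.subset_span ⟨z, rfl⟩)
    simp [h0]
  · rw [finrank_span_eq_card hli, Fintype.card_prod, Fintype.card_fin]

/-- A piece carried by the largest block size. -/
theorem UniIso.exists_piece (h : UniIso B N) {X : Submodule F V} {μ : Multiset ℕ}
    (hμ : HasParts N X μ) (hnd : Nondeg B X) {j : ℕ} (hjμ : j ∈ μ) (hmax : ∀ a ∈ μ, a ≤ j) :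
    ∃ P ν, P ≤ X ∧ HasParts N P ν ∧ Nondeg B P ∧
      ν = Multiset.replicate (if Even j then 1 else 2) j := by
  classical
  obtain ⟨hX, -⟩ := id hμ
  have hj : 1 ≤ j := hμ.pos j hjμ
  have hzero := (hμ.le_iff j).mp hmax
  obtain ⟨y, hy, hy0⟩ : ∃ y ∈ X, (N ^ (j - 1)) y ≠ 0 := by
    by_contra hcon
    push Not at hcon
    have := (hμ.le_iff (j - 1)).mpr hcon j hjμ
    omega
  have hXp : ∀ k, ∀ v ∈ X, (N ^ k) v ∈ X := by
    intro k
    induction k with
    | zero => exact fun v hv => hv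
    | succ k ih => exact fun v hv => by rw [pow_succ', Module.End.mul_apply]; exact hX _ (ih v hv)
  obtain ⟨z, hz, hzy⟩ : ∃ z ∈ X, B z ((N ^ (j - 1)) y) ≠ 0 := by
    by_contra hcon
    push Not at hcon
    exact hy0 (hnd _ (hXp _ y hy) fun w hw => h.symp.comm_eq_zero.mp (hcon w hw))
  have hflip : ∀ u ∈ X, ∀ w ∈ X, B w ((N ^ (j - 1)) u) = -((-1) ^ (j - 1) * B u ((N ^ (j - 1)) w)) := by
    intro u hu w hw
    have h1 := pow_pair_sign h.nil h.iso (hzero u hu) (y := w) (j - 1) 0 (by omega)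
    rw [pow_zero, Module.End.one_apply, add_zero] at h1
    rw [h.symp.swap w ((N ^ (j - 1)) u), h1]
  suffices hseed : ∃ (k : ℕ) (x : Fin k → V), k = (if Even j then 1 else 2) ∧ (∀ a, x a ∈ X) ∧
      ∀ c : Fin k → F, (∀ b, ∑ a, c a * B (x a) ((N ^ (j - 1)) (x b)) = 0) → c = 0 by
    obtain ⟨k, x, hk, hxX, hM⟩ := hseed
    obtain ⟨P, hPdef, hP, hPnd, hPd⟩ := h.cyclic x hj (fun a => hzero _ (hxX a)) hM
    have hPX : P ≤ X := by
      rw [hPdef, Submodule.span_le]
      rintro _ ⟨⟨a, s⟩, rfl⟩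
      exact hXp _ _ (hxX a)
    obtain ⟨ν, hν⟩ := exists_parts h.nil hP
    refine ⟨P, ν, hPX, hν, hPnd, ?_⟩
    rw [Fintype.card_fin, hν.finrank_eq, hk] at hPd
    have hνle : ∀ a ∈ ν, a ≤ j := (hν.le_iff j).mpr fun v hv => hzero v (hPX hv)
    have hjν : j ∈ ν := by
      by_contra hne
      have h1 := (hν.le_iff (j - 1)).mp fun a ha => by
        have := hνle a ha
        have : a ≠ j := fun e => hne (e ▸ ha)
        omega
      haveI : Nonempty (Fin k) := Fin.pos_iff_nonempty.mp (by rw [hk]; split <;> omega)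
      have h2 := congrFun (hM (fun _ => 1) fun b => Finset.sum_eq_zero fun a _ => by
        rw [h1 (x b) (hPdef ▸ Submodule.subset_span ⟨(b, ⟨0, hj⟩), by simp⟩), map_zero, mul_zero])
        (Classical.arbitrary _)
      exact one_ne_zero h2
    obtain ⟨ν', rfl⟩ := Multiset.exists_cons_of_mem hjν
    rw [Multiset.sum_cons] at hPd
    split at hPd
    next he =>
      rw [if_pos he]
      have h3 : ν' = 0 := Multiset.eq_zero_of_forall_notMem fun a ha => by
        have h4 := hν.pos a (Multiset.mem_cons_of_mem ha)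
        have h5 := Multiset.single_le_sum (fun b _ => Nat.zero_le b) a ha
        omega
      rw [h3]
      rfl
    next ho =>
      rw [if_neg ho]
      have hpar := hν.parity h.symp h.iso hPnd (Nat.not_even_iff_odd.mp ho)
      rw [Multiset.count_cons_self] at hpar
      have h4 : j ∈ ν' := by
        by_contra hne
        rw [Multiset.count_eq_zero_of_notMem hne] at hpar
        exact absurd hpar (by decide)
      obtain ⟨ν'', rfl⟩ := Multiset.exists_cons_of_mem h4
      rw [Multiset.sum_cons] at hPd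
      have h3 : ν'' = 0 := Multiset.eq_zero_of_forall_notMem fun a ha => by
        have h6 := hν.pos a (Multiset.mem_cons_of_mem (Multiset.mem_cons_of_mem ha))
        have h5 := Multiset.single_le_sum (fun b _ => Nat.zero_le b) a ha
        omega
      rw [h3]
      rfl
  by_cases he : Even j
  · obtain ⟨u, hu, hu0⟩ : ∃ u ∈ X, B u ((N ^ (j - 1)) u) ≠ 0 := by
      by_contra hcon
      push Not at hcon
      refine hzy ?_
      have h1 := hcon (z + y) (X.add_mem hz hy)
      have h2 := hflip y hy z hz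
      rw [Odd.neg_one_pow (Nat.Even.sub_odd hj he odd_one)] at h2
      simp only [map_add, LinearMap.add_apply, hcon z hz, hcon y hy, zero_add, add_zero] at h1
      have h3 : (2 : F) * B z ((N ^ (j - 1)) y) = 0 := by linear_combination h1 + h2
      exact (mul_eq_zero.mp h3).resolve_left h.two
    refine ⟨1, fun _ => u, by rw [if_pos he], fun _ => hu, fun c hc => funext fun a => ?_⟩
    have h1 := hc a
    rw [Fin.sum_univ_one] at h1
    rw [Subsingleton.elim a 0]
    exact (mul_eq_zero.mp h1).resolve_right hu0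
  · have hzero' : ∀ u ∈ X, B u ((N ^ (j - 1)) u) = 0 := fun u hu => by
      have h1 := hflip u hu u hu
      rw [Even.neg_one_pow (Nat.Odd.sub_odd (Nat.not_even_iff_odd.mp he) odd_one), one_mul] at h1
      have h3 : (2 : F) * B u ((N ^ (j - 1)) u) = 0 := by linear_combination h1
      exact (mul_eq_zero.mp h3).resolve_left h.two
    have hyz : B y ((N ^ (j - 1)) z) ≠ 0 := fun h0 => hzy (by
      rw [hflip y hy z hz, h0, mul_zero, neg_zero])
    refine ⟨2, ![z, y], by rw [if_neg he], fun a => by fin_cases a <;> assumption, fun c hc => ?_⟩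
    have h0 := hc 0
    have h1 := hc 1
    simp [Fin.sum_univ_two, hzero' z hz, hzero' y hy, hzy, hyz] at h0 h1
    funext a
    fin_cases a <;> simp [h0, h1]

/-- Every admissible sub-multiset of the sizes is the type of an invariant nondegenerate subspace. -/
theorem UniIso.exists_sub (h : UniIso B N) :
    ∀ k, ∀ X : Submodule F V, finrank F X = k → ∀ μ, HasParts N X μ → Nondeg B X →
      ∀ ν ≤ μ, (∀ a, Odd a → Even (ν.count a)) →
        ∃ W, W ≤ X ∧ (∀ v ∈ W, N v ∈ W) ∧ Nondeg B W ∧ finrank F W = ν.sum := by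
  intro k
  induction k using Nat.strong_induction_on with
  | _ k ih =>
    intro X hk μ hμ hnd ν hν hpar
    rcases Multiset.empty_or_exists_mem μ with h0 | ⟨a, ha⟩
    · refine ⟨⊥, bot_le, fun v hv => ?_, fun x hx _ => (Submodule.mem_bot F).mp hx, ?_⟩
      · rw [Submodule.mem_bot] at hv ⊢; rw [hv, map_zero]
      · rw [h0, Multiset.le_zero] at hν
        rw [hν]
        simp
    obtain ⟨j, hj, hmax⟩ : ∃ j ∈ μ, ∀ b ∈ μ, b ≤ j := by
      obtain ⟨j, hj, hmax⟩ := μ.toFinset.exists_max_image id ⟨a, Multiset.mem_toFinset.mpr ha⟩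
      exact ⟨j, Multiset.mem_toFinset.mp hj, fun b hb => hmax b (Multiset.mem_toFinset.mpr hb)⟩
    obtain ⟨P, π, hPX, hPμ, hPnd, hπ⟩ := h.exists_piece hμ hnd hj hmax
    obtain ⟨hX, -⟩ := id hμ
    obtain ⟨hP, -⟩ := id hPμ
    obtain ⟨hY, hsup, hdim⟩ := split h.symp hPnd hnd hPX
    have hYinv : ∀ v ∈ X ⊓ orth B P, N v ∈ X ⊓ orth B P := fun v hv =>
      ⟨hX v hv.1, h.orth_mem hP v hv.2⟩
    obtain ⟨ρ, hρ⟩ := exists_parts h.nil hYinv
    have hdisj : P ⊓ (X ⊓ orth B P) = ⊥ :=
      le_bot_iff.mp ((nondeg_iff_inf_orth h.symp).mp hPnd ▸ inf_le_inf_left _ inf_le_right)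
    have hsum : μ = π + ρ := hμ.unique (hsup ▸ hPμ.sup hρ hdisj)
    have hlt : finrank F ↥(X ⊓ orth B P) < k := by
      have := hPμ.finrank_eq
      rw [hπ, Multiset.sum_replicate, smul_eq_mul] at this
      have hj1 := hμ.pos j hj
      split at this <;> omega
    subst hsum
    have hcount : ∀ b, ν.count b ≤ π.count b + ρ.count b := fun b =>
      (Multiset.count_le_of_le b hν).trans_eq (Multiset.count_add _ _ _)
    by_cases hjν : j ∈ ν
    · have hπν : π ≤ ν := by
        rw [hπ, ← Multiset.le_count_iff_replicate_le]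
        have h1 := Multiset.one_le_count_iff_mem.mpr hjν
        split
        · exact h1
        next ho =>
          obtain ⟨m, hm⟩ := hpar j (Nat.not_even_iff_odd.mp ho)
          omega
      obtain ⟨ν', rfl⟩ := Multiset.le_iff_exists_add.mp hπν
      obtain ⟨W, hWY, hW, hWnd, hWd⟩ := ih _ hlt _ rfl ρ hρ hY ν'
        ((add_le_add_iff_left π).mp hν) fun b hb => by
          have h2 := hpar b hb
          rw [Multiset.count_add, Nat.even_add] at h2
          exact h2.mp (hPμ.parity h.symp h.iso hPnd hb)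
      obtain ⟨hnd', hd'⟩ := sup_nondeg h.symp hPnd hWnd (hWY.trans inf_le_right)
      refine ⟨P ⊔ W, sup_le hPX (hWY.trans inf_le_left), fun v hv => ?_, hnd', by
        rw [hd', hPμ.finrank_eq, hWd, Multiset.sum_add]⟩
      obtain ⟨b, hb, w, hw, rfl⟩ := Submodule.mem_sup.mp hv
      rw [map_add]
      exact Submodule.add_mem _ (Submodule.mem_sup_left (hP b hb)) (Submodule.mem_sup_right (hW w hw))
    · obtain ⟨W, hWY, hW, hWnd, hWd⟩ := ih _ hlt _ rfl ρ hρ hY ν (Multiset.le_iff_count.mpr fun b => by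
          have h1 := hcount b
          rcases eq_or_ne b j with rfl | hb
          · rw [Multiset.count_eq_zero_of_notMem hjν]; exact Nat.zero_le _
          · rwa [hπ, Multiset.count_replicate, if_neg (Ne.symm hb), zero_add] at h1) hpar
      exact ⟨W, hWY.trans inf_le_left, hW, hWnd, hWd⟩

end Cfsg.Agent.Lib.Elusive.SympUnipotent
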