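import Cfsg.Agent.Lib.Elusive.UnitPieces
import Cfsg.Agent.Lib.Elusive.SympBlocks

/-!
Hermitian isometries with prescribed pieces: orthogonal sums of irreducible blocks, diagonal and
monomial elements.
-/

set_option autoImplicit false
set_option linter.unusedSectionVars false

namespace Cfsg.Agent.Lib.Elusive.UnitBlocks

open Module Cfsg.Agent.Lib.Unitary Cfsg.Agent.Lib.Elusive Cfsg.Agent.Lib.Elusive.UnitIso
  Cfsg.Agent.Lib.Elusive.UnitPieces Cfsg.Agent.Lib.Elusive.SympBlocks Polynomial

variable {F : Type*} [Field F] [Fintype F] {q n : ℕ} {r : ℕ} [hr : Fact r.Prime]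

/-- An isometry as an element of the general unitary group. -/
theorem exists_gu (hF : Fintype.card F = q ^ 2) {f : Module.End F (Fin n → F)} (hf : Isometric q f) :
    ∃ A : GU n F q, Matrix.toLin' (A.1.1 : Matrix (Fin n) (Fin n) F) = f :=
  ⟨mkGU hF (LinearMap.toMatrix' f) fun u v => by
    rw [LinearMap.toMatrix'_mulVec, LinearMap.toMatrix'_mulVec, hf], Matrix.toLin'_toMatrix' f⟩

theorem det_norm (hF : Fintype.card F = q ^ 2) {f : Module.End F (Fin n → F)} (hf : Isometric q f) :
    LinearMap.det f ^ (q + 1) = 1 := by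
  obtain ⟨A, hA⟩ := exists_gu hF hf
  rw [← hA, LinearMap.det_toLin', pow_succ']
  exact det_norm_one hF A

theorem eq_one_of_coprime {t : F} {a b : ℕ} (hab : Nat.Coprime a b) (ha : t ^ a = 1) (hb : t ^ b = 1) : t = 1 :=
  orderOf_eq_one_iff.mp (Nat.eq_one_of_dvd_coprimes hab (orderOf_dvd_of_pow_eq_one ha)
    (orderOf_dvd_of_pow_eq_one hb))

theorem det_eq_one (hF : Fintype.card F = q ^ 2) (hrq : ¬ r ∣ q + 1) {f : Module.End F (Fin n → F)}
    (hf : Isometric q f) (hfr : f ^ r = 1) : LinearMap.det f = 1 :=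
  eq_one_of_coprime (hr.out.coprime_iff_not_dvd.mpr hrq) (det_pow_eq_one hfr) (det_norm hF hf)

/-- An element of order `r` without fixed vectors on the smallest space carrying one. -/
theorem exists_piece_elem (hF : Fintype.card F = q ^ 2) (hrF : (r : F) ≠ 0) {c : ℕ} (hc0 : 0 < c)
    (hc : (q : ZMod r) ^ c = (-1) ^ c) (hmin : ∀ j, 0 < j → (q : ZMod r) ^ j = (-1) ^ j → c ≤ j) :
    ∃ g : Module.End F (Fin c → F), Isometric q g ∧ g ^ r = 1 ∧ ∀ v, g v = v → v = 0 := by
  obtain ⟨A, hA⟩ := exists_prime_orderOf_dvd_card' r (dvd_card_GU (r := r) hF hc0 le_rfl hc)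
  set g : Module.End F (Fin c → F) := Matrix.toLin' (A.1.1 : Matrix (Fin c) (Fin c) F)
  have hg : Isometric q g := fun u v => GU_herm u v A
  have hpow : ∀ k v, (g ^ k) v = (A ^ k).1.1.mulVec v := fun k => by
    induction k with
    | zero => intro v; simp
    | succ k ih => intro v; rw [pow_succ', Module.End.mul_apply, ih, pow_succ', GU_mul_mulVec]; rfl
  have hgr : g ^ r = 1 := LinearMap.ext fun v => by
    rw [hpow, ← hA, pow_orderOf_eq_one, GU_one_mulVec, Module.End.one_apply]
  refine ⟨g, hg, hgr, fun v hv => ?_⟩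
  obtain ⟨Z, hZ, -, hZE, hZnd, -, hdim⟩ := hg.fixed_split hF
    (isSemisimple_of_pow_eq hrF one_ne_zero (by rw [one_smul, hgr])) (Inv.top g) (nondeg_top' hF)
  rw [top_inf_eq, finrank_top, finrank_fin_fun] at hdim
  by_contra hv0
  have hmem : v ∈ End.eigenspace g (1 : F) := End.mem_eigenspace_iff.mpr (by rw [one_smul, hv])
  have hEpos : 0 < finrank F (End.eigenspace g (1 : F)) := Nat.pos_of_ne_zero fun h0 =>
    hv0 ((Submodule.mem_bot F).mp ((Submodule.finrank_eq_zero.mp h0).le hmem))
  rcases eq_or_ne Z ⊥ with hZb | hZne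
  · rw [hZb, finrank_bot, add_zero] at hdim
    have htop : End.eigenspace g (1 : F) = ⊤ := Submodule.eq_top_of_finrank_eq (by rw [finrank_fin_fun]; omega)
    have h2 : A = 1 := GU_ext fun w => by
      have h3 := End.mem_eigenspace_iff.mp (htop.ge (Submodule.mem_top (x := w)))
      rw [one_smul] at h3
      rw [GU_one_mulVec]
      exact h3
    rw [h2, orderOf_one] at hA
    exact hr.out.one_lt.ne hA
  · obtain ⟨j, hj0, hjd, hjq⟩ := exists_exp_of_dvd_card_GU hF hrF
      (dvd_card_of_nondeg hF hg hgr hZ hZnd hZne hZE)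
    have := hmin j hj0 hjq
    omega

section Blocks

variable {s c e : ℕ}

/-- Coordinates in `s` blocks of length `c` and one of length `e`. -/
def blockEquiv (F : Type*) [Field F] (h : s * c + e = n) :
    (Fin n → F) ≃ₗ[F] (Fin s → Fin c → F) × (Fin e → F) where
  toFun v := (fun j k => v (finCongr h (finSumFinEquiv (Sum.inl (finProdFinEquiv (j, k))))),
    fun k => v (finCongr h (finSumFinEquiv (Sum.inr k))))
  invFun w i := Sum.elim (fun jk => w.1 (finProdFinEquiv.symm jk).1 (finProdFinEquiv.symm jk).2) w.2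
    (finSumFinEquiv.symm ((finCongr h).symm i))
  map_add' _ _ := rfl
  map_smul' _ _ := rfl
  left_inv v := by
    funext i
    obtain ⟨x, rfl⟩ := (finSumFinEquiv.trans (finCongr h)).surjective i
    rcases x with x | x <;> simp [-finProdFinEquiv_symm_apply]
  right_inv w := by
    refine Prod.ext (_root_.funext fun j => _root_.funext fun k => ?_) (_root_.funext fun k => ?_) <;> simp [-finProdFinEquiv_symm_apply]

theorem herm_block (h : s * c + e = n) (u v : Fin n → F) :
    hermForm n F q u v = (∑ j, hermForm c F q ((blockEquiv F h u).1 j) ((blockEquiv F h v).1 j)) +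
      hermForm e F q (blockEquiv F h u).2 (blockEquiv F h v).2 := by
  unfold hermForm
  rw [← (finSumFinEquiv.trans (finCongr h)).sum_comp fun i => u i * v i ^ q, Fintype.sum_sum_type,
    ← finProdFinEquiv.sum_comp, Fintype.sum_prod_type]
  rfl

/-- The orthogonal sum of endomorphisms of the blocks and the identity. -/
def blockEnd (h : s * c + e = n) (G : Fin s → Module.End F (Fin c → F)) : Module.End F (Fin n → F) :=
  (blockEquiv F h).symm.toLinearMap ∘ₗ
    ((LinearMap.pi fun j => (G j).comp (LinearMap.proj j)).prodMap LinearMap.id) ∘ₗ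
    (blockEquiv F h).toLinearMap

theorem blockEquiv_blockEnd (h : s * c + e = n) (G : Fin s → Module.End F (Fin c → F)) (v : Fin n → F) :
    blockEquiv F h (blockEnd h G v) = (fun j => G j ((blockEquiv F h v).1 j), (blockEquiv F h v).2) :=
  (blockEquiv F h).apply_symm_apply _

theorem blockEquiv_blockEnd_pow (h : s * c + e = n) (G : Fin s → Module.End F (Fin c → F)) (k : ℕ)
    (v : Fin n → F) :
    blockEquiv F h ((blockEnd h G ^ k) v) =
      (fun j => (G j ^ k) ((blockEquiv F h v).1 j), (blockEquiv F h v).2) := by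
  induction k with
  | zero => simp
  | succ k ih =>
    rw [pow_succ', Module.End.mul_apply, blockEquiv_blockEnd, ih]
    exact Prod.ext (_root_.funext fun j => by simp [pow_succ']) rfl

theorem blockEnd_spec (_hF : Fintype.card F = q ^ 2) (h : s * c + e = n)
    (G : Fin s → Module.End F (Fin c → F)) (hG : ∀ j, Isometric q (G j)) (hGr : ∀ j, G j ^ r = 1)
    (hfix : ∀ j v, G j v = v → v = 0) :
    Isometric q (blockEnd h G) ∧ blockEnd h G ^ r = 1 ∧
      (∀ v, v ∈ End.eigenspace (blockEnd h G) (1 : F) ↔ (blockEquiv F h v).1 = 0) ∧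
      finrank F (End.eigenspace (blockEnd h G) (1 : F)) = e := by
  have hmem : ∀ v, v ∈ End.eigenspace (blockEnd h G) (1 : F) ↔ (blockEquiv F h v).1 = 0 := fun v => by
    rw [End.mem_eigenspace_iff, one_smul, ← (blockEquiv F h).injective.eq_iff, blockEquiv_blockEnd]
    exact ⟨fun h1 => _root_.funext fun j => hfix j _ (congrFun (congrArg Prod.fst h1) j),
      fun h1 => Prod.ext (_root_.funext fun j => by simp [h1]) rfl⟩
  refine ⟨fun u v => ?_, LinearMap.ext fun v => (blockEquiv F h).injective ?_, hmem, ?_⟩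
  · rw [herm_block h, herm_block h u v, blockEquiv_blockEnd, blockEquiv_blockEnd]
    congr 1
    exact Finset.sum_congr rfl fun j _ => hG j _ _
  · rw [blockEquiv_blockEnd_pow]
    exact Prod.ext (_root_.funext fun j => by simp [hGr j]) rfl
  · have h1 : (End.eigenspace (blockEnd h G) (1 : F)).map (blockEquiv F h).toLinearMap =
        LinearMap.range (LinearMap.inr F (Fin s → Fin c → F) (Fin e → F)) := by
      refine le_antisymm ?_ ?_
      · rintro _ ⟨v, hv, rfl⟩
        exact ⟨(blockEquiv F h v).2, Prod.ext ((hmem v).mp hv).symm rfl⟩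
      · rintro _ ⟨b, rfl⟩
        exact ⟨(blockEquiv F h).symm (0, b), (hmem _).mpr (by rw [LinearEquiv.apply_symm_apply]),
          LinearEquiv.apply_symm_apply _ _⟩
    rw [← LinearEquiv.finrank_map_eq (blockEquiv F h), h1,
      LinearMap.finrank_range_of_inj LinearMap.inr_injective, finrank_fin_fun]

/-- An element whose invariant isotropic subspaces meet few pieces. -/
theorem exists_deranged (hF : Fintype.card F = q ^ 2) (hrF : (r : F) ≠ 0)
    (hcb : orderOf (Fintype.card F : ZMod r) = c) (hq : (q : ZMod r) ^ c = (-1) ^ c)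
    (o : ℕ) (h : s * c + e = n) (hot : o ≤ (r - 1) / c) (hos : o ≤ s) (ho : 1 ≤ o) :
    ∃ f : Module.End F (Fin n → F), Isometric q f ∧ f ^ r = 1 ∧
      finrank F (End.eigenspace f (1 : F)) = e ∧
      ∀ W : Submodule F (Fin n → F), Inv f W → TI q W →
        ∃ w k, finrank F W = w + k * c ∧ 2 * w ≤ e ∧ 2 * k ≤ s + 1 - o := by
  classical
  have hcpos : 0 < c := hcb ▸ orderOf_card_pos hrF
  -- one piece
  obtain ⟨g₀, hg, hgr, hfix⟩ := exists_piece_elem hF hrF hcpos hq fun j hj hjq => by
    refine Nat.le_of_dvd hj (hcb ▸ orderOf_dvd_of_pow_eq_one ?_)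
    rw [hF, Nat.cast_pow, ← pow_mul, mul_comm, pow_mul, hjq, ← pow_mul, mul_comm, pow_mul, neg_one_sq, one_pow]
  have hu : IsUniform g₀ 1 c := by
    have h1 := isUniform_split (f := g₀) (μ := 1) hrF one_ne_zero (by rw [hgr, one_pow, one_smul])
    rwa [hcb] at h1
  haveI : Nonempty (Fin c) := ⟨⟨0, hcpos⟩⟩
  have hirr : ∀ W : Submodule F (Fin c → F), Inv g₀ W → W ≠ ⊥ → W = ⊤ := by
    intro W hW hne
    obtain ⟨v, hv, hv0⟩ := Submodule.exists_mem_ne_zero_of_ne_bot hne
    refine top_unique (Decomp.piece_le hu ⟨Inv.top g₀, ?_, ?_⟩ hW trivial hv0 hv)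
    · rw [top_inf_eq, Submodule.finrank_eq_zero, Submodule.eq_bot_iff]
      exact fun x hx => hfix x (by simpa using End.mem_eigenspace_iff.mp hx)
    · rw [finrank_top, finrank_fin_fun, zero_add, one_mul]
  obtain ⟨a, ha0, ha⟩ := exists_reps (F := F) (r := r) hrF
  rw [← hcb] at hot
  -- the blocks
  have hlab : ∀ j : Fin s, min (j : ℕ) (o - 1) < (r - 1) / orderOf (Fintype.card F : ZMod r) := fun j => by
    omega
  let lab : Fin s → Fin ((r - 1) / orderOf (Fintype.card F : ZMod r)) := fun j => ⟨_, hlab j⟩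
  let G : Fin s → Module.End F (Fin c → F) := fun j => g₀ ^ a (lab j)
  have hGfix : ∀ j v, G j v = v → v = 0 := fun j v hv => by
    obtain ⟨b, hb⟩ : ∃ b, g₀ = (g₀ ^ a (lab j)) ^ b := by
      refine ⟨((a (lab j) : ZMod r)⁻¹).val, ?_⟩
      rw [← pow_mul, pow_eq_pow_mod _ hgr, show a (lab j) * ((a (lab j) : ZMod r)⁻¹).val % r = 1 from ?_, pow_one]
      have h1 : ((a (lab j) * ((a (lab j) : ZMod r)⁻¹).val : ℕ) : ZMod r) = ((1 : ℕ) : ZMod r) := by
        rw [Nat.cast_mul, ZMod.natCast_val, ZMod.cast_id, mul_inv_cancel₀ (ha0 _), Nat.cast_one]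
      rw [ZMod.natCast_eq_natCast_iff'] at h1
      rw [h1, Nat.one_mod_eq_one.mpr hr.out.ne_one]
    refine hfix v ?_
    rw [hb]
    clear hb
    induction b with
    | zero => simp
    | succ b ih =>
      rw [pow_succ', Module.End.mul_apply, ih]
      exact hv
  have hGr : ∀ j, G j ^ r = 1 := fun j => by
    rw [← pow_mul, mul_comm, pow_mul, hgr, one_pow]
  obtain ⟨hiso, hfr, hfixed, hdim⟩ := blockEnd_spec hF h G (fun j => hg.pow _) hGr hGfix
  set f := blockEnd h G
  set T := blockEquiv F h
  refine ⟨f, hiso, hfr, hdim, fun W hW hWti => ?_⟩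
  have huf : IsUniform f 1 c := by
    have h1 := isUniform_split (f := f) (μ := 1) hrF one_ne_zero (by rw [hfr, one_pow, one_smul])
    rwa [hcb] at h1
  obtain ⟨k, hk⟩ := huf.exists_type hW
  have hWd := hk.2.2
  refine ⟨_, k, hWd, ?_, ?_⟩
  · obtain ⟨-, -, -, -, -, hEnd, -⟩ := hiso.fixed_split hF huf.semisimple (Inv.top f) (nondeg_top' hF)
    rw [top_inf_eq] at hEnd
    have h1 := two_mul_finrank_le hF hEnd inf_le_right (hWti.mono inf_le_left : TI q (W ⊓ End.eigenspace f (1 : F)))
    rwa [hdim] at h1
  -- the moved part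
  obtain ⟨W', hW', hW'W, hdisj, hsup⟩ :=
    exists_compl huf.semisimple hW (hW.inf_eigenspace (μ := (1 : F))) inf_le_left
  have hW'E : W' ⊓ End.eigenspace f (1 : F) = ⊥ := le_bot_iff.mp
    (hdisj ▸ le_inf (le_inf (inf_le_left.trans hW'W) inf_le_right) inf_le_left)
  have hW'd : finrank F W' = k * c := by
    have h1 := finrank_sup_of_disjoint hdisj
    rw [hsup, hWd] at h1
    omega
  have hsnd : ∀ w ∈ W', (T w).2 = 0 := fun w hw => by
    refine herm_nondeg_left hF fun y => ?_
    have h1 := hiso.perp_fixed hF hW' hW'E w hw (T.symm (0, y)) ((hfixed _).mpr (by rw [T.apply_symm_apply]))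
    rw [herm_block h, T.apply_symm_apply] at h1
    simpa [herm_zero_right _ hF] using h1
  have hWim : ∀ P : F[X], ∀ w ∈ W', T.symm (fun j => aeval (G j) P ((T w).1 j), 0) ∈ W' := by
    intro P w hw
    induction P using Polynomial.induction_on' with
    | add p q hp hq =>
      convert W'.add_mem hp hq using 1
      rw [← map_add]
      refine congrArg T.symm (Prod.ext (_root_.funext fun j => ?_) (add_zero 0).symm)
      simp
    | monomial l b =>
      have hmem : (f ^ l) w ∈ W' := by
        induction l with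
        | zero => simpa using hw
        | succ l ih => rw [pow_succ', Module.End.mul_apply]; exact hW'.mem ih
      convert W'.smul_mem b hmem using 1
      refine T.injective ?_
      rw [T.apply_symm_apply, map_smul, blockEquiv_blockEnd_pow, hsnd w hw, Prod.smul_mk, smul_zero]
      exact Prod.ext (_root_.funext fun j => by simp [aeval_monomial]; rfl) rfl
  have hzero : ∀ j : Fin s, (∀ j', j' ≠ j → lab j' ≠ lab j) → ∀ w ∈ W', (T w).1 j = 0 := by
    intro j hj w hw
    let H : F[X] := ∏ l ∈ Finset.univ.erase (lab j), minpoly F (g₀ ^ a l)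
    have hinj : Function.Injective (aeval (G j) H) := by
      suffices hall : ∀ S : Finset (Fin ((r - 1) / orderOf (Fintype.card F : ZMod r))), lab j ∉ S →
          Function.Injective (aeval (G j) (∏ l ∈ S, minpoly F (g₀ ^ a l))) from
        hall _ (Finset.notMem_erase _ _)
      intro S
      induction S using Finset.induction_on with
      | empty => intro _; rw [Finset.prod_empty, map_one]; exact fun _ _ h => h
      | insert l S hl ih =>
        intro hnot
        rw [Finset.prod_insert hl, map_mul, Module.End.coe_mul]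
        refine Function.Injective.comp ?_ (ih fun h => hnot (Finset.mem_insert_of_mem h))
        by_contra hcon
        obtain ⟨k', hk'⟩ := injective_or_orbit hgr hfix hirr _ _ hcon
        exact hnot (ha l (lab j) k' hk' ▸ Finset.mem_insert_self _ _)
    let S : Submodule F (Fin c → F) :=
      (W'.comap T.symm.toLinearMap).comap ((LinearMap.inl F _ _).comp (LinearMap.single F (fun _ : Fin s => Fin c → F) j))
    have hS : Inv g₀ S := by
      refine inv_of_pow hgr (ha0 (lab j)) (Inv.of_mem fun u hu => ?_)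
      have h1 := hWim Polynomial.X _ hu
      show T.symm (Pi.single j (G j u), 0) ∈ W'
      convert h1 using 3
      funext j'
      simp only [aeval_X, LinearMap.coe_comp, Function.comp_apply, LinearEquiv.coe_coe, T.apply_symm_apply]
      rcases eq_or_ne j' j with rfl | hne <;> simp [*]
    have hSbot : S = ⊥ := by
      by_contra hne
      have htop := hirr S hS hne
      have h1 := hWti _ (hW'W (htop.ge (Submodule.mem_top (x := Pi.single ⟨0, hcpos⟩ 1))))
        _ (hW'W (htop.ge (Submodule.mem_top (x := Pi.single ⟨0, hcpos⟩ 1))))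
      rw [herm_block h] at h1
      simp only [LinearMap.coe_comp, Function.comp_apply, LinearEquiv.coe_coe, T, LinearEquiv.apply_symm_apply] at h1
      rw [Finset.sum_eq_single j (fun b _ hb => by simp [hb, herm_zero_left]) (by simp)] at h1
      simp [herm_std hF, herm_zero_left] at h1
    have hmem' : aeval (G j) H ((T w).1 j) ∈ S := by
      show T.symm (Pi.single j (aeval (G j) H ((T w).1 j)), 0) ∈ W'
      convert hWim H w hw using 3
      funext j'
      rcases eq_or_ne j' j with rfl | hne
      · simp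
      · rw [Pi.single_eq_of_ne hne]
        obtain ⟨H', hH'⟩ : minpoly F (G j') ∣ H :=
          Finset.dvd_prod_of_mem (fun l => minpoly F (g₀ ^ a l))
            (Finset.mem_erase.mpr ⟨hj j' hne, Finset.mem_univ _⟩)
        rw [hH', map_mul, minpoly.aeval, zero_mul, LinearMap.zero_apply]
    rw [hSbot, Submodule.mem_bot] at hmem'
    exact (map_eq_zero_iff _ hinj).mp hmem'
  -- embed the moved part in the last class
  let idx : Fin (s + 1 - o) → Fin s := fun j' => ⟨o - 1 + j', by omega⟩
  let U := blockEquiv F (s := s + 1 - o) (c := c) (e := 0) rfl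
  let Ψ : W' →ₗ[F] (Fin ((s + 1 - o) * c + 0) → F) := U.symm.toLinearMap ∘ₗ
    (LinearMap.pi fun j' => (LinearMap.proj (idx j')).comp
      ((LinearMap.fst F _ _).comp (T.toLinearMap.comp W'.subtype))).prod 0
  have hlow : ∀ j : Fin s, (j : ℕ) < o - 1 → ∀ w ∈ W', (T w).1 j = 0 := fun j hj => hzero j fun j' hne he => by
    have h1 : min (j' : ℕ) (o - 1) = min (j : ℕ) (o - 1) := congrArg Fin.val he
    exact hne (Fin.ext (by omega))
  have hsplit : ∀ j : Fin s, (j : ℕ) < o - 1 ∨ ∃ j', idx j' = j := fun j => by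
    rcases lt_or_ge (j : ℕ) (o - 1) with h | h
    · exact Or.inl h
    · exact Or.inr ⟨⟨j - (o - 1), by omega⟩, Fin.ext (by simp only [idx]; omega)⟩
  have hΨ : Function.Injective Ψ := (injective_iff_map_eq_zero Ψ).mpr fun w hw => Subtype.ext (T.injective (by
    rw [ZeroMemClass.coe_zero, map_zero]
    have hw' := U.symm.injective (hw.trans (map_zero U.symm).symm)
    refine Prod.ext (_root_.funext fun j => ?_) (hsnd _ w.2)
    rcases hsplit j with hj | ⟨j', rfl⟩
    · exact hlow j hj _ w.2
    · exact congrFun (congrArg Prod.fst hw') j'))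
  have hti' : TI q (LinearMap.range Ψ) := by
    rintro _ ⟨w, rfl⟩ _ ⟨w', rfl⟩
    have h1 := hWti _ (hW'W w.2) _ (hW'W w'.2)
    rw [herm_block h, hsnd _ w.2, herm_zero_left, add_zero] at h1
    rw [herm_block rfl]
    simp only [Ψ, LinearMap.coe_comp, Function.comp_apply, LinearEquiv.coe_coe, U, LinearEquiv.apply_symm_apply]
    show (∑ j', hermForm c F q ((T (w : Fin n → F)).1 (idx j')) ((T (w' : Fin n → F)).1 (idx j'))) +
      hermForm 0 F q 0 0 = 0
    rw [herm_zero_left, add_zero, ← h1]
    refine Finset.sum_of_injOn idx ?_ ?_ ?_ ?_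
    · exact fun x _ y _ h => Fin.ext (by have := congrArg Fin.val h; simp only [idx] at this; omega)
    · exact fun x _ => Finset.mem_univ _
    · intro j _ hj
      rcases hsplit j with h | ⟨j', rfl⟩
      · rw [show (blockEquiv F _ (w : Fin n → F)).1 j = 0 from hlow j h _ w.2, herm_zero_left]
      · exact absurd ⟨j', Finset.mem_univ _, rfl⟩ hj
    · exact fun _ _ => rfl
  have h1 := two_mul_finrank_le hF (nondeg_top' hF) le_top hti'
  rw [LinearMap.finrank_range_of_inj hΨ, hW'd, finrank_top, finrank_fin_fun, add_zero, ← mul_assoc] at h1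
  exact Nat.le_of_mul_le_mul_right h1 hcpos

end Blocks

section Diagonal

/-- The diagonal isometry with given values. -/
theorem diag_iso (_hF : Fintype.card F = q ^ 2) {d : Fin n → F} (hd : ∀ i, d i * d i ^ q = 1) :
    Isometric q (Matrix.toLin' (Matrix.diagonal d)) := fun u v => by
  simp only [hermForm, Matrix.toLin'_apply, Matrix.mulVec_diagonal, mul_pow]
  exact Finset.sum_congr rfl fun i _ => by rw [show d i * u i * (d i ^ q * v i ^ q) = (d i * d i ^ q) * (u i * v i ^ q) by ring, hd i, one_mul]

/-- Coordinates with a value of their own vanish on invariant isotropic subspaces. -/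
theorem diag_ti_le (hF : Fintype.card F = q ^ 2) {d : Fin n → F} (R : Finset (Fin n))
    (hR : ∀ i, i ∉ R → ∀ j, j ≠ i → d j ≠ d i) {W : Submodule F (Fin n → F)}
    (hW : Inv (Matrix.toLin' (Matrix.diagonal d)) W) (hti : TI q W) : 2 * finrank F W ≤ R.card := by
  classical
  let C : Submodule F (Fin n → F) :=
    { carrier := {w | ∀ i, i ∉ R → w i = 0}
      zero_mem' := fun _ _ => rfl
      add_mem' := fun ha hb i hi => by simp [ha i hi, hb i hi]
      smul_mem' := fun a w hw i hi => by simp [hw i hi] }
  have hWC : W ≤ C := fun w hw i hi => by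
    have hkey : ∀ S : Finset F, (fun k => (∏ t ∈ S, (d k - t)) * w k) ∈ W := by
      intro S
      induction S using Finset.induction_on with
      | empty => simpa using hw
      | insert t S ht ih =>
        have h1 := W.sub_mem (hW.mem ih) (W.smul_mem t ih)
        convert h1 using 1
        funext k
        simp only [Finset.prod_insert ht, Matrix.toLin'_apply, Matrix.mulVec_diagonal, Pi.sub_apply,
          Pi.smul_apply, smul_eq_mul]
        ring
    have h1 := hkey ((Finset.univ.erase i).image d)
    set π : Fin n → F := fun k => (∏ t ∈ (Finset.univ.erase i).image d, (d k - t)) * w k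
    have hπ : ∀ k, k ≠ i → π k = 0 := fun k hk => by
      refine mul_eq_zero_of_left (Finset.prod_eq_zero (Finset.mem_image.mpr ⟨k, ?_, rfl⟩) (sub_self _)) _
      simp [hk]
    have h2 := hti π h1 π h1
    rw [hermForm, Finset.sum_eq_single i (fun k _ hk => by rw [hπ k hk, zero_mul]) (by simp),
      mul_eq_zero] at h2
    have h3 : π i = 0 := h2.elim id fun h => eq_zero_of_pow_eq_zero h
    refine (mul_eq_zero.mp h3).resolve_left (Finset.prod_ne_zero_iff.mpr fun t ht => ?_)
    obtain ⟨k, hk, rfl⟩ := Finset.mem_image.mp ht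
    exact sub_ne_zero.mpr fun he => hR i hi k (Finset.ne_of_mem_erase hk) he.symm
  have hC : Nondeg q C := fun u hu h => _root_.funext fun i => by
    by_cases hi : i ∈ R
    · have h1 := h (Pi.single i 1) fun j hj => Pi.single_eq_of_ne (fun e : j = i => hj (e ▸ hi)) _
      rwa [herm_single _ hF] at h1
    · exact hu i hi
  have hCd : finrank F C ≤ R.card := by
    let L : C →ₗ[F] (R → F) :=
      { toFun := fun w i => (w : Fin n → F) i
        map_add' := fun _ _ => rfl
        map_smul' := fun _ _ => rfl }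
    have h1 := LinearMap.finrank_le_finrank_of_injective (f := L) fun w w' hww => Subtype.ext
      (_root_.funext fun i => by
        by_cases hi : i ∈ R
        · exact congrFun hww ⟨i, hi⟩
        · rw [w.2 i hi, w'.2 i hi])
    rwa [finrank_fintype_fun_eq_card, Fintype.card_coe] at h1
  exact (two_mul_finrank_le hF hC hWC hti).trans hCd

end Diagonal

open Fin.NatCast in
/-- A monomial isometry with `r`-th power a given norm one scalar. -/
theorem exists_monomial (hF : Fintype.card F = q ^ 2) {z : F} (hz : z * z ^ q = 1) (s : ℕ) (hn : s * r = n) :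
    ∃ f : Module.End F (Fin n → F), Isometric q f ∧ f ^ r = z • 1 := by
  haveI : NeZero r := ⟨hr.out.ne_zero⟩
  let σ : Fin s × Fin r ≃ Fin n := finProdFinEquiv.trans (finCongr hn)
  let w : Fin r → F := fun t => if t = 0 then z else 1
  let f : Module.End F (Fin n → F) :=
    { toFun := fun v i => w (σ.symm i).2 * v (σ ((σ.symm i).1, (σ.symm i).2 - 1))
      map_add' := fun u v => _root_.funext fun i => by simp [mul_add]
      map_smul' := fun a v => _root_.funext fun i => by simp [mul_left_comm] }
  have hfa : ∀ v j t, f v (σ (j, t)) = w t * v (σ (j, t - 1)) := fun v j t => by simp [f]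
  have hpow : ∀ k, k ≤ r → ∀ v j (t : Fin r), (f ^ k) v (σ (j, t)) =
      (if (t : ℕ) < k then z else 1) * v (σ (j, t - (k : Fin r))) := by
    intro k
    induction k with
    | zero => intro _ v j t; simp
    | succ k ih =>
      intro hk v j t
      rw [pow_succ', Module.End.mul_apply, hfa, ih (by omega), ← mul_assoc]
      congr 1
      · rcases eq_or_ne t 0 with rfl | ht
        · have h0 : ((((0 : Fin r) - 1 : Fin r)) : ℕ) = r - 1 := by
            rw [Fin.sub_def]
            simp only [Fin.val_zero, add_zero]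
            rw [Fin.val_one', Nat.one_mod_eq_one.mpr hr.out.ne_one]
            exact Nat.mod_eq_of_lt (by have := hr.out.pos; omega)
          have h0' : ¬ (r - 1 < k) := by omega
          simp [w, h0, h0', -zero_sub]
        · have ht' : ((t - 1 : Fin r) : ℕ) = (t : ℕ) - 1 := Fin.val_sub_one_of_ne_zero ht
          have ht0 : (t : ℕ) ≠ 0 := fun h => ht (Fin.ext (by simpa using h))
          simp only [w, if_neg ht, one_mul, ht']
          exact if_congr (by omega) rfl rfl
      · rw [Nat.cast_succ, sub_sub, add_comm (1 : Fin r)]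
  refine ⟨f, fun u v => ?_, LinearMap.ext fun v => _root_.funext fun i => ?_⟩
  · simp only [hermForm]
    rw [← σ.sum_comp, ← σ.sum_comp fun i => u i * v i ^ q, Fintype.sum_prod_type, Fintype.sum_prod_type]
    refine Finset.sum_congr rfl fun j _ => ?_
    refine (Finset.sum_congr rfl fun t _ => ?_).trans
      ((Equiv.subRight (1 : Fin r)).sum_comp fun t => u (σ (j, t)) * v (σ (j, t)) ^ q)
    rw [hfa, hfa, Equiv.subRight_apply, mul_pow]
    have hw : w t * w t ^ q = 1 := by
      simp only [w]
      split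
      · exact hz
      · simp
    linear_combination (u (σ (j, t - 1)) * v (σ (j, t - 1)) ^ q) * hw
  · obtain ⟨⟨j, t⟩, rfl⟩ := σ.surjective i
    rw [hpow r le_rfl, if_pos t.2, Fin.natCast_self, sub_zero]
    rfl

end Cfsg.Agent.Lib.Elusive.UnitBlocks
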