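import Cfsg.Agent.Lib.Elusive.Decomp
import Cfsg.Agent.Lib.Elusive.RootScalar
import Cfsg.Agent.Lib.Unitary.Order

/-!
Invariant totally isotropic subspaces of isometries of a hermitian form: orthogonal splittings,
partners of isotropic pieces, and a greedy construction from pieces.
-/

set_option autoImplicit false
set_option linter.unusedSectionVars false

namespace Cfsg.Agent.Lib.Elusive.UnitIso

open Module Cfsg.Agent.Lib.Unitary Cfsg.Agent.Lib.Elusive

variable {F : Type*} [Field F] [Fintype F] {q n : ℕ}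

/-- The form vanishes on the subspace. -/
def TI (q : ℕ) (W : Submodule F (Fin n → F)) : Prop := ∀ u ∈ W, ∀ v ∈ W, hermForm n F q u v = 0

theorem ti_iff_le_perp {W : Submodule F (Fin n → F)} : TI q W ↔ W ≤ perp q W :=
  ⟨fun h u hu v hv => h u hu v hv, fun h u hu v hv => h hu v hv⟩

theorem ti_bot : TI q (⊥ : Submodule F (Fin n → F)) := fun u hu v _ => by
  rw [(Submodule.mem_bot F).mp hu, herm_zero_left]

theorem TI.mono {W U : Submodule F (Fin n → F)} (h : TI q W) (hle : U ≤ W) : TI q U :=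
  fun u hu v hv => h u (hle hu) v (hle hv)

theorem ti_sup (hF : Fintype.card F = q ^ 2) {U W : Submodule F (Fin n → F)} (hU : TI q U) (hW : TI q W)
    (h : ∀ u ∈ U, ∀ w ∈ W, hermForm n F q u w = 0) : TI q (U ⊔ W) := by
  intro x hx y hy
  obtain ⟨a, ha, b, hb, rfl⟩ := Submodule.mem_sup.mp hx
  obtain ⟨a', ha', b', hb', rfl⟩ := Submodule.mem_sup.mp hy
  simp [herm_add_left, herm_add_right _ _ _ hF, hU a ha a' ha', h a ha b' hb', hW b hb b' hb',
    herm_eq_zero_symm hF (h a' ha' b hb)]

theorem nondeg_top' (hF : Fintype.card F = q ^ 2) : Nondeg q (⊤ : Submodule F (Fin n → F)) :=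
  Unitary.nondeg_top fun _ h => herm_nondeg_left hF h

/-- The orthogonal of `W` inside a nondegenerate subspace containing it. -/
theorem finrank_inf_perp (hF : Fintype.card F = q ^ 2) {X W : Submodule F (Fin n → F)}
    (hX : Nondeg q X) (hle : W ≤ X) :
    finrank F ↥(X ⊓ perp q W) + finrank F W = finrank F X := by
  have htop : perp q (X ⊔ perp q W) = ⊥ := by
    rw [Submodule.eq_bot_iff]
    intro v hv
    have h1 : v ∈ W := by
      rw [← perp_perp hF W]
      exact fun w hw => hv w (Submodule.mem_sup_right hw)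
    exact hX v (hle h1) fun w hw => hv w (Submodule.mem_sup_left hw)
  have h1 := finrank_perp hF (X ⊔ perp q W)
  rw [htop, finrank_bot, zero_add] at h1
  have h2 := Submodule.finrank_sup_add_finrank_inf_eq X (perp q W)
  have h3 := finrank_perp hF W
  omega

theorem two_mul_finrank_le (hF : Fintype.card F = q ^ 2) {X W : Submodule F (Fin n → F)}
    (hX : Nondeg q X) (hWX : W ≤ X) (hW : TI q W) : 2 * finrank F W ≤ finrank F X := by
  have h1 := finrank_inf_perp hF hX hWX
  have h2 := Submodule.finrank_mono (le_inf hWX (ti_iff_le_perp.mp hW))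
  omega

/-- The orthogonal of a nondegenerate subspace inside a larger one. -/
theorem split (hF : Fintype.card F = q ^ 2) {X W : Submodule F (Fin n → F)}
    (hW : Nondeg q W) (hX : Nondeg q X) (hle : W ≤ X) :
    Nondeg q (X ⊓ perp q W) ∧ W ⊔ X ⊓ perp q W = X ∧
      finrank F X = finrank F W + finrank F ↥(X ⊓ perp q W) := by
  have hdim : finrank F X = finrank F W + finrank F ↥(X ⊓ perp q W) := by
    have := finrank_inf_perp hF hX hle
    omega
  have hdisj : W ⊓ (X ⊓ perp q W) = ⊥ :=
    le_bot_iff.mp ((nondeg_iff_disjoint.mp hW) ▸ inf_le_inf_left W inf_le_right)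
  have hsup : W ⊔ X ⊓ perp q W = X :=
    Submodule.eq_of_le_of_finrank_eq (sup_le hle inf_le_left)
      (by rw [finrank_sup_of_disjoint hdisj, hdim])
  refine ⟨fun y hy h => hX y hy.1 fun z hz => ?_, hsup, hdim⟩
  obtain ⟨w, hw, z', hz', rfl⟩ := Submodule.mem_sup.mp (hsup.ge hz)
  rw [herm_add_right _ _ _ hF, h z' hz', hy.2 w hw, add_zero]

/-- Isotropic subspaces of every dimension up to half. -/
theorem exists_ti (hF : Fintype.card F = q ^ 2) {X : Submodule F (Fin n → F)} (hX : Nondeg q X) {k : ℕ}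
    (hk : 2 * k ≤ finrank F X) : ∃ W, W ≤ X ∧ TI q W ∧ finrank F W = k := by
  obtain ⟨f, hf, hfX, -⟩ := exists_orthonormal_of_nondeg hF _ X rfl hX
  obtain ⟨c, hc⟩ := norm_surj hF (y := (-1 : F)) (by rw [neg_pow_q hF, one_pow])
  let a : Fin k → Fin (finrank F X) := fun i => ⟨2 * i, by omega⟩
  let b : Fin k → Fin (finrank F X) := fun i => ⟨2 * i + 1, by omega⟩
  let v : Fin k → Fin n → F := fun i => f (a i) + c • f (b i)
  have haa : ∀ i j, (if a i = a j then (1 : F) else 0) = if i = j then 1 else 0 := fun i j =>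
    if_congr (by simp only [a, Fin.ext_iff]; omega) rfl rfl
  have hbb : ∀ i j, (if b i = b j then (1 : F) else 0) = if i = j then 1 else 0 := fun i j =>
    if_congr (by simp only [b, Fin.ext_iff]; omega) rfl rfl
  have hab : ∀ i j, a i ≠ b j := fun i j => by simp only [a, b, ne_eq, Fin.ext_iff]; omega
  have hva : ∀ i j, hermForm n F q (v i) (f (a j)) = if i = j then 1 else 0 := fun i j => by
    simp only [v, herm_add_left, herm_smul_left, hf _ _, haa, if_neg (hab j i).symm, mul_zero, add_zero]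
  have hvv : ∀ i j, hermForm n F q (v i) (v j) = 0 := fun i j => by
    simp only [v, herm_add_left, herm_add_right _ _ _ hF, herm_smul_left, herm_smul_right, hf _ _, haa,
      hbb, if_neg (hab i j), if_neg (hab j i).symm]
    split
    · linear_combination hc
    · simp
  have hli : LinearIndependent F v := by
    rw [Fintype.linearIndependent_iff]
    intro g hg j
    have h1 := congrArg (fun x => hermForm n F q x (f (a j))) hg
    simpa [herm_sum_left, herm_smul_left, hva, herm_zero_left] using h1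
  refine ⟨Submodule.span F (Set.range v), ?_, ?_, by rw [finrank_span_eq_card hli, Fintype.card_fin]⟩
  · rw [Submodule.span_le]
    rintro _ ⟨i, rfl⟩
    exact X.add_mem (hfX _) (X.smul_mem _ (hfX _))
  · rw [ti_iff_le_perp, Submodule.span_le]
    rintro _ ⟨i, rfl⟩
    exact (mem_perp_span_range hF).mpr (hvv i)

/-- An endomorphism preserving the form. -/
def Isometric (q : ℕ) (g : Module.End F (Fin n → F)) : Prop :=
  ∀ u v, hermForm n F q (g u) (g v) = hermForm n F q u v

variable {g : Module.End F (Fin n → F)} {μ : F} {d r : ℕ} {W X : Submodule F (Fin n → F)}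

theorem Isometric.injective (hF : Fintype.card F = q ^ 2) (hg : Isometric q g) : Function.Injective g :=
  (injective_iff_map_eq_zero g).mpr fun u hu => herm_nondeg_left hF fun v => by
    rw [← hg u v, hu, herm_zero_left]

theorem Isometric.pow (hg : Isometric q g) (k : ℕ) (u v : Fin n → F) :
    hermForm n F q ((g ^ k) u) ((g ^ k) v) = hermForm n F q u v := by
  induction k with
  | zero => simp
  | succ k ih => rw [pow_succ', Module.End.mul_apply, Module.End.mul_apply, hg, ih]

theorem Isometric.map_eq (hF : Fintype.card F = q ^ 2) (hg : Isometric q g) (hW : Inv g W) : W.map g = W :=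
  Submodule.eq_of_le_of_finrank_eq hW
    (W.equivMapOfInjective g (hg.injective hF)).finrank_eq.symm

theorem Isometric.inv_perp (hF : Fintype.card F = q ^ 2) (hg : Isometric q g) (hW : Inv g W) :
    Inv g (perp q W) := Inv.of_mem fun x hx w hw => by
  obtain ⟨w', hw', rfl⟩ := (hg.map_eq hF hW).ge hw
  rw [hg, hx w' hw']

/-- The fixed space is orthogonal to invariant subspaces without fixed vectors. -/
theorem Isometric.perp_fixed (_hF : Fintype.card F = q ^ 2) (hg : Isometric q g) (hW : Inv g W)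
    (hE : W ⊓ End.eigenspace g (1 : F) = ⊥) :
    ∀ p ∈ W, ∀ v ∈ End.eigenspace g (1 : F), hermForm n F q p v = 0 := by
  intro p hp v hv
  have hinj : Function.Injective ((g - 1).restrict (p := W) (q := W) fun x hx => by
      rw [LinearMap.sub_apply, Module.End.one_apply]
      exact W.sub_mem (hW.mem hx) hx) := by
    rw [injective_iff_map_eq_zero]
    intro x hx
    have hx' : (x : Fin n → F) ∈ W ⊓ End.eigenspace g (1 : F) := ⟨x.2, End.mem_eigenspace_iff.mpr (by
      rw [one_smul]; exact eq_of_sub_eq_zero (congrArg Subtype.val hx))⟩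
    rw [hE] at hx'
    exact Subtype.ext hx'
  obtain ⟨y, hy⟩ := LinearMap.injective_iff_surjective.mp hinj ⟨p, hp⟩
  have hy' : g (y : Fin n → F) - (y : Fin n → F) = p := congrArg Subtype.val hy
  have hfv : g v = v := by simpa using End.mem_eigenspace_iff.mp hv
  have h2 := hg (y : Fin n → F) v
  rw [hfv] at h2
  rw [← hy', herm_sub_left, h2, sub_self]

/-- The fixed part and the moved part of an invariant nondegenerate subspace. -/
theorem Isometric.fixed_split (hF : Fintype.card F = q ^ 2) (hg : Isometric q g) (hs : g.IsSemisimple)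
    (hX : Inv g X) (hnd : Nondeg q X) :
    ∃ Z, Inv g Z ∧ Z ≤ X ∧ Z ⊓ End.eigenspace g (1 : F) = ⊥ ∧ Nondeg q Z ∧
      Nondeg q (X ⊓ End.eigenspace g (1 : F)) ∧
      finrank F X = finrank F ↥(X ⊓ End.eigenspace g (1 : F)) + finrank F Z := by
  obtain ⟨Z, hZ, hZX, hdisj, hsup⟩ :=
    exists_compl hs hX (hX.inf_eigenspace (μ := (1 : F))) inf_le_left
  have hZE : Z ⊓ End.eigenspace g (1 : F) = ⊥ := le_bot_iff.mp
    (hdisj ▸ le_inf (le_inf (inf_le_left.trans hZX) inf_le_right) inf_le_left)
  have hperp := hg.perp_fixed hF hZ hZE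
  refine ⟨Z, hZ, hZX, hZE, fun z hz hzz => hnd z (hZX hz) fun y hy => ?_,
    fun e he hee => hnd e he.1 fun y hy => ?_, by rw [← finrank_sup_of_disjoint hdisj, hsup]⟩
  · obtain ⟨a, ha, b, hb, rfl⟩ := Submodule.mem_sup.mp (hsup.ge hy)
    rw [herm_add_right _ _ _ hF, hperp z hz a ha.2, zero_add, hzz b hb]
  · obtain ⟨a, ha, b, hb, rfl⟩ := Submodule.mem_sup.mp (hsup.ge hy)
    rw [herm_add_right _ _ _ hF, hee a ha, zero_add, herm_eq_zero_symm hF (hperp b hb e he.2)]

/-- An isotropic invariant subspace completes to a nondegenerate invariant one of twice the dimension. -/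
theorem Isometric.exists_partner (hF : Fintype.card F = q ^ 2) (hg : Isometric q g) (hs : g.IsSemisimple)
    {P : Submodule F (Fin n → F)} (hX : Inv g X) (hnd : Nondeg q X) (hPX : P ≤ X) (hP : Inv g P)
    (hti : TI q P) :
    ∃ Q, P ≤ Q ∧ Q ≤ X ∧ Inv g Q ∧ Nondeg q Q ∧ finrank F Q = 2 * finrank F P := by
  obtain ⟨Z, hZ, hZX, hdisj, hsup⟩ :=
    exists_compl hs hX (hX.inf (hg.inv_perp hF hP)) inf_le_left
  have hPZd : P ⊓ Z = ⊥ := le_bot_iff.mp (hdisj ▸ le_inf (le_inf (inf_le_left.trans hPX)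
    (inf_le_left.trans (ti_iff_le_perp.mp hti))) inf_le_right)
  refine ⟨P ⊔ Z, le_sup_left, sup_le hPX hZX, hP.sup hZ, fun x hx hxy => ?_, ?_⟩
  · obtain ⟨p, hp, z, hz, rfl⟩ := Submodule.mem_sup.mp hx
    have hzP : z ∈ perp q P := fun p' hp' => by
      have h3 := hxy p' (Submodule.mem_sup_left hp')
      rwa [herm_add_left, hti p hp p' hp', zero_add] at h3
    obtain rfl : z = 0 := (Submodule.mem_bot F).mp (hdisj.le ⟨⟨hZX hz, hzP⟩, hz⟩)
    rw [add_zero] at hxy ⊢
    refine hnd p (hPX hp) fun y hy => ?_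
    obtain ⟨a, ha, b, hb, rfl⟩ := Submodule.mem_sup.mp (hsup.ge hy)
    rw [herm_add_right _ _ _ hF, herm_eq_zero_symm hF (ha.2 p hp), hxy b (Submodule.mem_sup_right hb),
      add_zero]
  · have h1 := finrank_inf_perp hF hnd hPX
    have h2 := finrank_sup_of_disjoint hdisj
    rw [hsup] at h2
    rw [finrank_sup_of_disjoint hPZd]
    omega

/-- If isotropic pieces occur in every subspace of dimension above `t`, they add up greedily. -/
theorem Isometric.exists_ti_inv (hF : Fintype.card F = q ^ 2) (hg : Isometric q g)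
    (hu : IsUniform g μ d) {t : ℕ}
    (hpiece : ∀ Y, Inv g Y → Nondeg q Y → Y ⊓ End.eigenspace g μ = ⊥ → t < finrank F Y →
      ∃ P, P ≤ Y ∧ Inv g P ∧ TI q P ∧ finrank F P = d) :
    ∀ k, ∀ X : Submodule F (Fin n → F), Inv g X → Nondeg q X → X ⊓ End.eigenspace g μ = ⊥ →
      (0 < k → 2 * (k - 1) * d + t < finrank F X) →
      ∃ W, W ≤ X ∧ Inv g W ∧ TI q W ∧ finrank F W = k * d := by
  intro k
  induction k with
  | zero => exact fun X _ _ _ _ => ⟨⊥, bot_le, Inv.bot g, ti_bot, by simp⟩
  | succ k ih =>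
    intro X hX hnd hE hk
    have hk' := hk k.succ_pos
    rw [Nat.add_sub_cancel] at hk'
    obtain ⟨P, hPX, hP, hPti, hPd⟩ := hpiece X hX hnd hE (by omega)
    obtain ⟨Q, hPQ, hQX, hQ, hQnd, hQd⟩ := hg.exists_partner hF hu.semisimple hX hnd hPX hP hPti
    obtain ⟨hY, -, hdim⟩ := split hF hQnd hnd hQX
    obtain ⟨W, hWY, hW, hWti, hWd⟩ := ih _ (hX.inf (hg.inv_perp hF hQ)) hY
      (le_bot_iff.mp (hE ▸ inf_le_inf_right _ inf_le_left)) (fun hk0 => by
        obtain ⟨j, rfl⟩ : ∃ j, k = j + 1 := ⟨k - 1, by omega⟩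
        rw [Nat.add_sub_cancel]
        rw [hQd, hPd] at hdim
        rw [Nat.mul_add, Nat.add_mul, mul_one] at hk'
        omega)
    refine ⟨P ⊔ W, sup_le hPX (hWY.trans inf_le_left), hP.sup hW,
      ti_sup hF hPti hWti fun u hu' w hw => herm_eq_zero_symm hF ((hWY hw).2 u (hPQ hu')), ?_⟩
    rw [finrank_sup_of_disjoint, hPd, hWd, Nat.add_mul, one_mul, add_comm]
    exact le_bot_iff.mp ((nondeg_iff_disjoint.mp hQnd) ▸ inf_le_inf hPQ (hWY.trans inf_le_right))

/-- The orbit of a singular vector gives an isotropic piece. -/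
theorem exists_ti_piece (hu : IsUniform g μ d) (hr : 0 < r) {z : F} (hz : g ^ r = z • 1)
    (hX : Inv g X) (hE : X ⊓ End.eigenspace g μ = ⊥) {v : Fin n → F} (hv : v ∈ X) (hv0 : v ≠ 0)
    (hti : TI q (Submodule.span F (Set.range fun k : Fin r => (g ^ (k : ℕ)) v))) :
    ∃ P, P ≤ X ∧ Inv g P ∧ TI q P ∧ finrank F P = d := by
  set S := Submodule.span F (Set.range fun k : Fin r => (g ^ (k : ℕ)) v)
  have hS : Inv g S := Decomp.inv_span_iterates hr hz v
  have hSX : S ≤ X := Decomp.span_iterates_le hX hv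
  have hvS : v ∈ S := Submodule.subset_span ⟨⟨0, hr⟩, by simp⟩
  obtain ⟨P, hPS, hP⟩ := hu.exists_piece hS (by
    rw [show S ⊓ End.eigenspace g μ = ⊥ from le_bot_iff.mp (hE ▸ inf_le_inf_right _ hSX), finrank_bot]
    exact Nat.pos_of_ne_zero fun h0 => hv0 ((Submodule.mem_bot F).mp ((Submodule.finrank_eq_zero.mp h0).le hvS)))
  exact ⟨P, hPS.trans hSX, hP.1, hti.mono hPS, by rw [hP.2.2, zero_add, one_mul]⟩

end Cfsg.Agent.Lib.Elusive.UnitIso
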