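import Cfsg.Agent.Lib.Elusive.UnitBlocks

/-!
Invariant nondegenerate subspaces of hermitian isometries: nondegenerate pieces, their sums, and the
count of nondegenerate subspaces.
-/

set_option autoImplicit false
set_option linter.unusedSectionVars false

namespace Cfsg.Agent.Lib.Elusive.UnitNondeg

open Module Cfsg.Agent.Lib.Unitary Cfsg.Agent.Lib.Elusive Cfsg.Agent.Lib.Elusive.UnitIso
  Cfsg.Agent.Lib.Elusive.UnitPieces Polynomial

variable {F : Type*} [Field F] [Fintype F] {q n : ℕ}

theorem nondeg_bot : Nondeg q (⊥ : Submodule F (Fin n → F)) := fun _ hu _ => (Submodule.mem_bot F).mp hu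

theorem nondeg_iff_exists {W : Submodule F (Fin n → F)} :
    Nondeg q W ↔ ∀ u ∈ W, u ≠ 0 → ∃ v ∈ W, hermForm n F q u v ≠ 0 := by
  refine ⟨fun h u hu hu0 => ?_, fun h u hu huv => ?_⟩
  · by_contra hc
    push Not at hc
    exact hu0 (h u hu hc)
  · by_contra hu0
    obtain ⟨v, hv, hne⟩ := h u hu hu0
    exact hne (huv v hv)

theorem nondeg_sup (hF : Fintype.card F = q ^ 2) {U W : Submodule F (Fin n → F)} (hU : Nondeg q U)
    (hW : Nondeg q W) (h : ∀ u ∈ U, ∀ w ∈ W, hermForm n F q u w = 0) :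
    Nondeg q (U ⊔ W) ∧ U ⊓ W = ⊥ := by
  refine ⟨fun x hx hxy => ?_, ?_⟩
  · obtain ⟨a, ha, b, hb, rfl⟩ := Submodule.mem_sup.mp hx
    have ha0 : a = 0 := hU a ha fun y hy => by
      have h1 := hxy y (Submodule.mem_sup_left hy)
      rwa [herm_add_left, herm_eq_zero_symm hF (h y hy b hb), add_zero] at h1
    have hb0 : b = 0 := hW b hb fun y hy => by
      have h1 := hxy y (Submodule.mem_sup_right hy)
      rwa [herm_add_left, h a ha y hy, zero_add] at h1
    rw [ha0, hb0, add_zero]
  · rw [Submodule.eq_bot_iff]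
    rintro x ⟨hx, hx'⟩
    exact hU x hx fun y hy => herm_eq_zero_symm hF (h y hy x hx')

/-- Nondegenerate subspaces of every dimension. -/
theorem exists_nondeg_sub (hF : Fintype.card F = q ^ 2) {X : Submodule F (Fin n → F)} (hX : Nondeg q X) {k : ℕ}
    (hk : k ≤ finrank F X) : ∃ W, W ≤ X ∧ Nondeg q W ∧ finrank F W = k := by
  obtain ⟨f, hf, hfX, -⟩ := exists_orthonormal_of_nondeg hF _ X rfl hX
  have hf' : Orthonormal' q (fun i : Fin k => f (Fin.castLE hk i)) := fun i j => by
    rw [hf]
    exact if_congr (Fin.castLE_injective hk).eq_iff rfl rfl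
  refine ⟨_, ?_, orthonormal_nondeg_span hf', ?_⟩
  · rw [Submodule.span_le]
    rintro _ ⟨i, rfl⟩
    exact hfX _
  · rw [finrank_span_eq_card (orthonormal_linearIndependent hf'), Fintype.card_fin]

variable {g : Module.End F (Fin n → F)} {μ : F} {d : ℕ} {X : Submodule F (Fin n → F)}

/-- Nondegenerate pieces of dimension `c` add up to every multiple. -/
theorem exists_nondeg_inv (hF : Fintype.card F = q ^ 2) (hg : Isometric q g) {c : ℕ} (hc : 0 < c)
    (hpiece : ∀ Y, Inv g Y → Nondeg q Y → Y ⊓ End.eigenspace g μ = ⊥ → 0 < finrank F Y →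
      ∃ P, P ≤ Y ∧ Inv g P ∧ Nondeg q P ∧ finrank F P = c) :
    ∀ k, ∀ X : Submodule F (Fin n → F), finrank F X = k → Inv g X → Nondeg q X →
      X ⊓ End.eigenspace g μ = ⊥ →
      ∃ s, finrank F X = s * c ∧
        ∀ j ≤ s, ∃ W, W ≤ X ∧ Inv g W ∧ Nondeg q W ∧ finrank F W = j * c := by
  intro k
  induction k using Nat.strong_induction_on with
  | _ k ih =>
    intro X hk hX hnd hE
    rcases Nat.eq_zero_or_pos k with rfl | hk0
    · exact ⟨0, by rw [zero_mul, hk], fun j hj => ⟨⊥, bot_le, Inv.bot g, nondeg_bot, by simp; omega⟩⟩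
    obtain ⟨P, hPX, hP, hPnd, hPd⟩ := hpiece X hX hnd hE (by omega)
    obtain ⟨hY, -, hdim⟩ := UnitIso.split hF hPnd hnd hPX
    obtain ⟨s, hs, hsub⟩ := ih _ (by omega) _ rfl (hX.inf (hg.inv_perp hF hP)) hY
      (le_bot_iff.mp (hE ▸ inf_le_inf_right _ inf_le_left))
    refine ⟨s + 1, by rw [hdim, hPd, hs, Nat.add_mul, one_mul, add_comm], fun j hj => ?_⟩
    rcases Nat.eq_zero_or_pos j with rfl | hj0
    · exact ⟨⊥, bot_le, Inv.bot g, nondeg_bot, by simp⟩
    obtain ⟨W, hWY, hW, hWnd, hWd⟩ := hsub (j - 1) (by omega)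
    obtain ⟨hsup, hdisj⟩ := nondeg_sup hF hPnd hWnd fun u hu w hw =>
      herm_eq_zero_symm hF ((hWY hw).2 u hu)
    refine ⟨P ⊔ W, sup_le hPX (hWY.trans inf_le_left), hP.sup hW, hsup, ?_⟩
    rw [finrank_sup_of_disjoint hdisj, hPd, hWd]
    conv_rhs => rw [show j = j - 1 + 1 by omega, Nat.add_mul, one_mul, add_comm]

/-- A small invariant subspace through an anisotropic vector is a nondegenerate piece. -/
theorem nondeg_of_small (hF : Fintype.card F = q ^ 2) (hg : Isometric q g) (hu : IsUniform g μ d)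
    (hE : X ⊓ End.eigenspace g μ = ⊥) {S : Submodule F (Fin n → F)} (hS : Inv g S) (hSX : S ≤ X)
    (hSd : finrank F S ≤ d) {v : Fin n → F} (hv : v ∈ S) (hvv : hermForm n F q v v ≠ 0) :
    Nondeg q S ∧ finrank F S = d := by
  have hv0 : v ≠ 0 := fun h0 => hvv (by rw [h0, herm_zero_left])
  have hSE : S ⊓ End.eigenspace g μ = ⊥ := le_bot_iff.mp (hE ▸ inf_le_inf_right _ hSX)
  obtain ⟨k, hk⟩ := hu.exists_type hS
  have h1 : finrank F S = k * d := hk.2.2.trans (by rw [hSE, finrank_bot, zero_add])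
  have hk1 : k = 1 := by
    have hk0 : k ≠ 0 := by
      rintro rfl
      rw [zero_mul] at h1
      exact hv0 ((Submodule.mem_bot F).mp ((Submodule.finrank_eq_zero.mp h1).le hv))
    by_contra hk1
    have := Nat.mul_le_mul_right d (show 2 ≤ k by omega)
    have := hu.pos
    omega
  subst hk1
  rw [one_mul] at h1
  refine ⟨nondeg_iff_disjoint.mpr ?_, h1⟩
  rw [Submodule.eq_bot_iff]
  rintro u ⟨huS, huo⟩
  by_contra hu0
  have hSP : HasType g μ d S 0 1 := ⟨hS, by rw [hSE, finrank_bot], by rw [h1, zero_add, one_mul]⟩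
  exact hvv (Decomp.piece_le hu hSP (hg.inv_perp hF hS) huS hu0 huo hv v hv)

variable {r : ℕ} [hr : Fact r.Prime]

/-- Pieces without eigenvalues can be chosen nondegenerate. -/
theorem exists_nondeg_piece_nonsplit (hF : Fintype.card F = q ^ 2) (hg : Isometric q g) {z : F}
    (hgr : g ^ r = z • 1) (hu : IsUniform g μ r) (hX : Inv g X) (hnd : Nondeg q X)
    (hE : X ⊓ End.eigenspace g μ = ⊥) (hpos : 0 < finrank F X) :
    ∃ P, P ≤ X ∧ Inv g P ∧ Nondeg q P ∧ finrank F P = r := by
  obtain ⟨v, hv, hvv⟩ := exists_norm_one_of_nondeg hF hnd (fun h => by rw [h, finrank_bot] at hpos; omega)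
  have hS := Decomp.inv_span_iterates hr.out.pos hgr v
  have hSX := Decomp.span_iterates_le (r := r) hX hv
  exact ⟨_, hSX, hS, nondeg_of_small (v := v) hF hg hu hE hS hSX
    ((finrank_range_le_card _).trans (Fintype.card_fin _).le)
    (Submodule.subset_span ⟨⟨0, hr.out.pos⟩, by simp⟩) (by rw [hvv]; exact one_ne_zero)⟩

theorem frob_aeval (hF : Fintype.card F = q ^ 2) {A : Type*} [Ring A] [Algebra F A] [Nontrivial A]
    (y : A) (P : F[X]) : aeval (y ^ q) (P.map (Unitary.conj hF)) = aeval y P ^ q := by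
  obtain ⟨p, k, hp, hc, -, rfl⟩ := q_eq_primePow hF
  haveI := Fact.mk hp
  haveI : CharP A p := charP_of_injective_algebraMap (algebraMap F A).injective p
  induction P using Polynomial.induction_on' with
  | add a b ha hb =>
    rw [Polynomial.map_add, map_add, map_add, ha, hb, add_pow_char_pow_of_commute p]
    exact (Commute.all a b).map (aeval y)
  | monomial j a =>
    rw [Polynomial.map_monomial, aeval_monomial, aeval_monomial, conj_apply,
      Commute.mul_pow (Algebra.commutes a (y ^ j)), map_pow, ← pow_mul, ← pow_mul, mul_comm (p ^ k) j]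

theorem adjoint (hF : Fintype.card F = q ^ 2) (hg : Isometric q g) (hgr : g ^ r = 1) (P : F[X])
    (u w : Fin n → F) :
    hermForm n F q (aeval g P u) w = hermForm n F q u (aeval (g ^ (r - 1)) (P.map (Unitary.conj hF)) w) := by
  induction P using Polynomial.induction_on' with
  | add a b ha hb => simp [herm_add_left, herm_add_right _ _ _ hF, ha, hb]
  | monomial j a =>
    rw [Polynomial.map_monomial, aeval_monomial, aeval_monomial, Module.End.mul_apply, Module.End.mul_apply,
      Module.algebraMap_end_apply, Module.algebraMap_end_apply, herm_smul_left, herm_smul_right, conj_apply,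
      pow_q_q hF, ← hg.pow j u (((g ^ (r - 1)) ^ j) w), ← Module.End.mul_apply, ← pow_mul, ← pow_add,
      show j + (r - 1) * j = r * j by
        conv_rhs => rw [← Nat.sub_add_cancel hr.out.one_le, Nat.add_mul, one_mul, add_comm],
      pow_mul, hgr, one_pow, Module.End.one_apply]

/-- Self-conjugate pieces can be chosen nondegenerate. -/
theorem exists_nondeg_piece_self (hF : Fintype.card F = q ^ 2) (hg : Isometric q g) (hgr : g ^ r = 1)
    (hrF : (r : F) ≠ 0) {b : ℕ} (hb : orderOf (Fintype.card F : ZMod r) = b) (hbo : Odd b)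
    (hqb : (q : ZMod r) ^ b = -1) (hX : Inv g X) (hnd : Nondeg q X)
    (hE : X ⊓ End.eigenspace g (1 : F) = ⊥) (hpos : 0 < finrank F X) :
    ∃ P, P ≤ X ∧ Inv g P ∧ Nondeg q P ∧ finrank F P = b := by
  classical
  have hu : IsUniform g 1 b := by
    have h1 := isUniform_split (f := g) (μ := 1) hrF one_ne_zero (by rw [hgr, one_pow, one_smul])
    rwa [hb] at h1
  obtain ⟨P, hPX, hP⟩ := hu.exists_piece hX (by rw [hE, finrank_bot]; exact hpos)
  have hPd : finrank F P = b := by rw [hP.2.2, zero_add, one_mul]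
  by_cases hbot : P ⊓ perp q P = ⊥
  · exact ⟨P, hPX, hP.1, nondeg_iff_disjoint.mpr hbot, hPd⟩
  have hPti : TI q P := by
    obtain ⟨u, hu', hu0⟩ := Submodule.exists_mem_ne_zero_of_ne_bot hbot
    exact ti_iff_le_perp.mpr (Decomp.piece_le hu hP (hg.inv_perp hF hP.1) hu'.1 hu0 hu'.2)
  obtain ⟨Q, hPQ, hQX, hQ, hQnd, hQd⟩ := hg.exists_partner hF hu.semisimple hX hnd hPX hP.1 hPti
  have hQP : Q ⊓ perp q P = P := by
    refine (Submodule.eq_of_le_of_finrank_eq (le_inf hPQ (ti_iff_le_perp.mp hPti)) ?_).symm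
    have := finrank_inf_perp hF hQnd hPQ
    omega
  obtain ⟨Z, hZ, hZQ, hdisj, hsup⟩ := exists_compl hu.semisimple hQ hP.1 hPQ
  -- a polynomial of degree at most `b` kills both
  have hPinv : ∀ x ∈ P, g x ∈ P := fun x hx => hP.1.mem hx
  set y : Module.End F P := g.restrict hPinv with hy
  haveI : Nontrivial P := Submodule.nontrivial_iff_ne_bot.mpr fun h0 => by
    rw [h0, finrank_bot] at hPd; exact hu.pos.ne hPd
  set m := minpoly F y with hmdef
  have hmmon : m.Monic := minpoly.monic (Algebra.IsIntegral.isIntegral _)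
  have hmdeg : m.natDegree ≤ b := by
    refine (natDegree_le_of_dvd (LinearMap.minpoly_dvd_charpoly _)
      (LinearMap.charpoly_monic _).ne_zero).trans ?_
    rw [LinearMap.charpoly_natDegree, hPd]
  have hq0 : q ≠ 0 := q_ne_zero hF
  have hmm : (m.map (Unitary.conj hF)).map (Unitary.conj hF) = m := Polynomial.ext fun k => by
    rw [coeff_map, coeff_map, conj_apply, conj_apply, pow_q_q hF]
  have heven : ∀ j, aeval (y ^ q ^ (2 * j)) m = 0 := by
    intro j
    induction j with
    | zero =>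
      rw [mul_zero, pow_zero, pow_one]
      exact minpoly.aeval F y
    | succ j ih =>
      rw [show q ^ (2 * (j + 1)) = q ^ (2 * j) * q * q by rw [mul_add, pow_add, mul_one, pow_two, mul_assoc],
        pow_mul, pow_mul]
      have h1 := frob_aeval hF ((y ^ q ^ (2 * j)) ^ q) (m.map (Unitary.conj hF))
      have h2 := frob_aeval hF (y ^ q ^ (2 * j)) m
      rw [hmm] at h1
      exact h1.trans (by rw [h2, ih, zero_pow hq0, zero_pow hq0])
  obtain ⟨l, hl⟩ := hbo
  have hyr : y ^ r = 1 := LinearMap.ext fun x => Subtype.ext (by rw [hy, restrict_pow_apply, hgr]; rfl)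
  have hexp : q ^ b % r = r - 1 := by
    have h1 : ((q ^ b : ℕ) : ZMod r) = ((r - 1 : ℕ) : ZMod r) := by
      rw [Nat.cast_pow, hqb, Nat.cast_sub hr.out.one_le, ZMod.natCast_self, Nat.cast_one, zero_sub]
    rw [ZMod.natCast_eq_natCast_iff'] at h1
    rw [h1, Nat.mod_eq_of_lt (by have := hr.out.pos; omega)]
  have hbar : aeval (y ^ (r - 1)) (m.map (Unitary.conj hF)) = 0 := by
    rw [← hexp, ← pow_eq_pow_mod _ hyr, hl, pow_succ, pow_mul]
    have h2 := frob_aeval hF (y ^ q ^ (2 * l)) m
    exact h2.trans (by rw [heven, zero_pow hq0])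
  have hbarP : ∀ x ∈ P, aeval (g ^ (r - 1)) (m.map (Unitary.conj hF)) x = 0 := fun x hx => by
    have h1 := congrArg (fun φ : Module.End F P => ((φ ⟨x, hx⟩ : P) : Fin n → F)) hbar
    simp only [LinearMap.zero_apply, ZeroMemClass.coe_zero] at h1
    rw [← h1, ← aeval_X_pow (R := F) g, ← aeval_comp, ← aeval_X_pow (R := F) y, ← aeval_comp, hy,
      SympPieces.aeval_restrict_apply hPinv]
  have hmP : ∀ x ∈ P, aeval g m x = 0 := fun x hx => by
    have h1 := congrArg (fun φ : Module.End F P => ((φ ⟨x, hx⟩ : P) : Fin n → F)) (minpoly.aeval F y)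
    rw [← hmdef] at h1
    simp only [hy, SympPieces.aeval_restrict_apply, LinearMap.zero_apply, ZeroMemClass.coe_zero] at h1
    exact h1
  have hmem : ∀ (W : Submodule F (Fin n → F)), Inv g W → ∀ (R : F[X]) (x : Fin n → F), x ∈ W → aeval g R x ∈ W :=
    fun W hW R x hx => by
      rw [← SympPieces.aeval_restrict_apply (fun y hy => hW.mem hy) R ⟨x, hx⟩]
      exact Subtype.prop _
  have hmQ : ∀ x ∈ Q, aeval g m x = 0 := fun x hx => by
    obtain ⟨a, ha, c, hc, rfl⟩ := Submodule.mem_sup.mp (hsup.ge hx)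
    have h1 : aeval g m c ∈ Q ⊓ perp q P := ⟨hZQ (hmem Z hZ m c hc), fun w hw => by
      rw [adjoint hF hg hgr, hbarP w hw, herm_zero_right _ hF]⟩
    rw [hQP] at h1
    rw [map_add, hmP a ha, zero_add]
    exact (Submodule.mem_bot F).mp (hdisj.le ⟨h1, hmem Z hZ m c hc⟩)
  -- the cyclic span of an anisotropic vector
  obtain ⟨v, hv, hvv⟩ := exists_norm_one_of_nondeg hF hQnd (fun h0 => by
    rw [h0, finrank_bot] at hQd; have := hu.pos; omega)
  set S := Submodule.span F (Set.range fun k : Fin m.natDegree => (g ^ (k : ℕ)) v) with hSdef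
  have htop : (g ^ m.natDegree) v ∈ S := by
    have h1 := hmQ v hv
    rw [aeval_eq_sum_range, LinearMap.sum_apply, Finset.sum_range_succ, LinearMap.smul_apply,
      hmmon.coeff_natDegree, one_smul] at h1
    rw [eq_neg_of_add_eq_zero_right h1]
    refine S.neg_mem (S.sum_mem fun k hk => S.smul_mem _ (Submodule.subset_span ⟨⟨k, Finset.mem_range.mp hk⟩, rfl⟩))
  have hdeg0 : 0 < m.natDegree := minpoly.natDegree_pos (Algebra.IsIntegral.isIntegral _)
  have hSinv : Inv g S := by
    rw [Inv, hSdef, Submodule.map_span, Submodule.span_le]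
    rintro _ ⟨_, ⟨k, rfl⟩, rfl⟩
    rw [SetLike.mem_coe, ← Module.End.mul_apply, ← pow_succ']
    by_cases hk : (k : ℕ) + 1 < m.natDegree
    · exact Submodule.subset_span ⟨⟨_, hk⟩, rfl⟩
    · rw [show (k : ℕ) + 1 = m.natDegree by omega]; exact htop
  have hSX : S ≤ X := by
    rw [hSdef, Submodule.span_le]
    rintro _ ⟨k, rfl⟩
    show (g ^ (k : ℕ)) v ∈ X
    rw [← aeval_X_pow (R := F) g]
    exact hQX (hmem Q hQ _ v hv)
  exact ⟨S, hSX, hSinv, nondeg_of_small (v := v) hF hg hu hE hSinv hSX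
    (((finrank_range_le_card _).trans (Fintype.card_fin _).le).trans hmdeg)
    (Submodule.subset_span ⟨⟨0, hdeg0⟩, by simp⟩) (by rw [hvv]; exact one_ne_zero)⟩

/-- Paired pieces give nondegenerate ones of twice the dimension. -/
theorem exists_nondeg_piece_paired (hF : Fintype.card F = q ^ 2) (hg : Isometric q g) (hgr : g ^ r = 1)
    (hrF : (r : F) ≠ 0) {b : ℕ} (hb : orderOf (Fintype.card F : ZMod r) = b)
    (hni : ∀ k, Odd k → (q : ZMod r) ^ k ≠ -1) (hX : Inv g X) (hnd : Nondeg q X)
    (hE : X ⊓ End.eigenspace g (1 : F) = ⊥) (hpos : 0 < finrank F X) :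
    ∃ P, P ≤ X ∧ Inv g P ∧ Nondeg q P ∧ finrank F P = 2 * b := by
  obtain ⟨P, hPX, hP, hPti, hPd⟩ := exists_piece_paired hF hg hgr hrF hni hX hE hpos
  obtain ⟨Q, -, hQX, hQ, hQnd, hQd⟩ := hg.exists_partner hF
    (isSemisimple_of_pow_eq hrF one_ne_zero (by rw [hgr, one_smul])) hX hnd hPX hP hPti
  exact ⟨Q, hQX, hQ, hQnd, by rw [hQd, hPd, hb]⟩

section Count

/-- The number of orthonormal tuples. -/
theorem card_orthonormal (hF : Fintype.card F = q ^ 2) : ∀ k, k ≤ n →
    Nat.card {f : Fin k → Fin n → F // Orthonormal' q f} = ∏ j ∈ Finset.range k, countUnit F q (n - j) := by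
  classical
  intro k
  induction k with
  | zero =>
    intro _
    rw [Finset.prod_range_zero, Nat.card_eq_one_iff_unique]
    exact ⟨⟨fun a b => Subtype.ext (Subsingleton.elim _ _)⟩, ⟨⟨fun i => i.elim0, fun i => i.elim0⟩⟩⟩
  | succ k ih =>
    intro hk
    let e : {f : Fin (k + 1) → Fin n → F // Orthonormal' q f} ≃
        Σ u : {f : Fin k → Fin n → F // Orthonormal' q f},
          {x : Fin n → F // (∀ i, hermForm n F q x (u.1 i) = 0) ∧ hermForm n F q x x = 1} :=
      { toFun := fun f => ⟨⟨Fin.tail f.1, fun i j => (f.2 _ _).trans (if_congr Fin.succ_inj rfl rfl)⟩,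
          f.1 0, fun i => (f.2 _ _).trans (if_neg (Fin.succ_ne_zero i).symm),
          (f.2 0 0).trans (if_pos rfl)⟩
        invFun := fun p => ⟨Fin.cons p.2.1 p.1.1, fun i j => by
          refine Fin.cases ?_ (fun i => ?_) i <;> refine Fin.cases ?_ (fun j => ?_) j
          · simpa using p.2.2.2
          · simpa [(Fin.succ_ne_zero j).symm] using p.2.2.1 j
          · simpa [Fin.succ_ne_zero i] using herm_eq_zero_symm hF (p.2.2.1 i)
          · simpa [Fin.succ_inj] using p.1.2 i j⟩
        left_inv := fun f => Subtype.ext (Fin.cons_self_tail f.1)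
        right_inv := fun p => by
          refine Sigma.subtype_ext (Subtype.ext ?_) ?_
          · exact Fin.tail_cons (α := fun _ => Fin n → F) p.2.1 p.1.1
          · exact Fin.cons_zero (α := fun _ => Fin n → F) p.2.1 p.1.1 }
    have hfib : ∀ u : {f : Fin k → Fin n → F // Orthonormal' q f},
        Nat.card {x : Fin n → F // (∀ i, hermForm n F q x (u.1 i) = 0) ∧ hermForm n F q x x = 1} =
          countUnit F q (n - k) := fun u => by
      obtain ⟨g, hg, hgu⟩ := orthonormal_extend hF (l := n - k) (by omega) u.2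
      have hnorm : ∀ y : Fin (n - k) → F,
          hermForm n F q (∑ i, y i • g i) (∑ i, y i • g i) = hermForm (n - k) F q y y := fun y => by
        rw [herm_sum_sum hF]
        simp only [hg _ _, mul_ite, mul_one, mul_zero, Finset.sum_ite_eq, Finset.mem_univ, if_true]
        rfl
      let Φ : {y : Fin (n - k) → F // hermForm (n - k) F q y y = 1} →
          {x : Fin n → F // (∀ i, hermForm n F q x (u.1 i) = 0) ∧ hermForm n F q x x = 1} := fun y =>
        ⟨∑ i, y.1 i • g i, fun j => by
          rw [herm_sum_left]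
          exact Finset.sum_eq_zero fun i _ => by rw [herm_smul_left, hgu, mul_zero],
          (hnorm y.1).trans y.2⟩
      have hΦ : Function.Bijective Φ := by
        refine ⟨fun y y' h => Subtype.ext (_root_.funext fun j => ?_), ?_⟩
        · rw [← orthonormal_coeff hg y.1 j, show (∑ i, y.1 i • g i) = ∑ i, y'.1 i • g i from congrArg Subtype.val h,
            orthonormal_coeff hg y'.1 j]
        · rintro ⟨x, hx, hxx⟩
          have hle : Submodule.span F (Set.range g) ≤ perp q (Submodule.span F (Set.range u.1)) := by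
            rw [Submodule.span_le]
            rintro _ ⟨i, rfl⟩
            exact (mem_perp_span_range hF).mpr (hgu i)
          have heq := Submodule.eq_of_le_of_finrank_eq hle (by
            have h1 := finrank_perp hF (Submodule.span F (Set.range u.1))
            rw [finrank_span_eq_card (orthonormal_linearIndependent u.2), Fintype.card_fin] at h1
            rw [finrank_span_eq_card (orthonormal_linearIndependent hg), Fintype.card_fin]
            omega)
          obtain ⟨y, rfl⟩ := (Submodule.mem_span_range_iff_exists_fun F).1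
            (heq.ge ((mem_perp_span_range hF).mpr hx))
          exact ⟨⟨y, (hnorm y).symm.trans hxx⟩, rfl⟩
      exact (Nat.card_eq_of_bijective Φ hΦ).symm
    haveI := Fintype.ofFinite {f : Fin k → Fin n → F // Orthonormal' q f}
    rw [Nat.card_congr e, Nat.card_sigma, Finset.sum_congr rfl fun u _ => hfib u, Finset.sum_const,
      smul_eq_mul, Finset.card_univ, ← Nat.card_eq_fintype_card, ih (by omega), Finset.prod_range_succ]

/-- A prime other than the characteristic dividing the count divides some `q ^ k - (-1) ^ k`. -/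
theorem exists_exp (hF : Fintype.card F = q ^ 2) (hrF : (r : F) ≠ 0) {m : ℕ} (hmn : m ≤ n)
    (h : r ∣ Nat.card {W : Submodule F (Fin n → F) // finrank F ↥W = m ∧
      (∀ u ∈ W, u ≠ 0 → ∃ v ∈ W, hermForm n F q u v ≠ 0)}) :
    ∃ k, n - m < k ∧ k ≤ n ∧ (q : ZMod r) ^ k = (-1) ^ k := by
  classical
  let X := {W : Submodule F (Fin n → F) // finrank F ↥W = m ∧ (∀ u ∈ W, u ≠ 0 → ∃ v ∈ W, hermForm n F q u v ≠ 0)}
  haveI : Finite (Submodule F (Fin n → F)) := Finite.of_injective _ SetLike.coe_injective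
  haveI : Fintype X := Fintype.ofFinite X
  choose b hb hbW hbspan using fun W : X =>
    exists_orthonormal_of_nondeg hF m W.1 W.2.1 (nondeg_iff_exists.mpr W.2.2)
  have hiso : ∀ (W : X) (y z : Fin m → F),
      hermForm n F q (∑ i, y i • b W i) (∑ i, z i • b W i) = hermForm m F q y z := fun W y z => by
    rw [herm_sum_sum hF]
    simp only [hb W _ _, mul_ite, mul_one, mul_zero, Finset.sum_ite_eq, Finset.mem_univ, if_true]
    rfl
  let Φ : (Σ _ : X, {y : Fin m → Fin m → F // Orthonormal' q y}) →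
      {f : Fin m → Fin n → F // Orthonormal' q f} := fun p =>
    ⟨fun a => ∑ i, p.2.1 a i • b p.1 i, fun a a' => by rw [hiso]; exact p.2.2 a a'⟩
  have hspan : ∀ (W : X) (y : {y : Fin m → Fin m → F // Orthonormal' q y}),
      Submodule.span F (Set.range (Φ ⟨W, y⟩).1) = W.1 := fun W y => by
    refine Submodule.eq_of_le_of_finrank_eq ?_ ((finrank_span_eq_card
      (orthonormal_linearIndependent (Φ ⟨W, y⟩).2)).trans (by rw [Fintype.card_fin, W.2.1]))
    rw [Submodule.span_le]
    rintro _ ⟨a, rfl⟩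
    show ∑ i, y.1 a i • b W i ∈ W.1
    exact W.1.sum_mem fun i _ => W.1.smul_mem _ (hbW W i)
  have hΦ : Function.Bijective Φ := by
    refine ⟨?_, fun f => ?_⟩
    · rintro ⟨W, y⟩ ⟨W', y'⟩ h
      obtain rfl : W = W' := Subtype.ext (by rw [← hspan W y, ← hspan W' y', h])
      refine congrArg (Sigma.mk W) (Subtype.ext (_root_.funext fun a => _root_.funext fun j => ?_))
      have h1 : ∑ i, y.1 a i • b W i = ∑ i, y'.1 a i • b W i := congrFun (congrArg Subtype.val h) a
      rw [← orthonormal_coeff (hb W) (y.1 a) j, h1, orthonormal_coeff (hb W)]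
    · let W : X := ⟨Submodule.span F (Set.range f.1),
        (finrank_span_eq_card (orthonormal_linearIndependent f.2)).trans (Fintype.card_fin m),
        nondeg_iff_exists.mp (orthonormal_nondeg_span f.2)⟩
      have hmem : ∀ a, ∃ y : Fin m → F, ∑ i, y i • b W i = f.1 a := fun a =>
        (Submodule.mem_span_range_iff_exists_fun F).1
          ((hbspan W).ge (Submodule.subset_span ⟨a, rfl⟩))
      choose y hy using hmem
      refine ⟨⟨W, y, fun a a' => ?_⟩, Subtype.ext (_root_.funext hy)⟩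
      rw [← hiso W, hy, hy]
      exact f.2 a a'
  have h1 := (Nat.card_eq_of_bijective Φ hΦ).trans (card_orthonormal hF m hmn)
  rw [Nat.card_sigma, Finset.sum_const, smul_eq_mul, Finset.card_univ, ← Nat.card_eq_fintype_card] at h1
  obtain ⟨j, hj, hjr⟩ := (Prime.dvd_finsetProd_iff hr.out.prime _).mp (h1 ▸ dvd_mul_of_dvd_left h _)
  rw [Finset.mem_range] at hj
  obtain ⟨M, hM⟩ : ∃ M, n - j = M + 1 := ⟨n - j - 1, by omega⟩
  rw [hM, countUnit_succ hF, ← ZMod.natCast_eq_zero_iff] at hjr
  push_cast at hjr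
  have hne := pow_ne_zero M (cast_q_ne_zero (r := r) hF hrF)
  have h2 := (mul_eq_zero.mp hjr).resolve_left hne
  refine ⟨M + 1, by omega, by omega, ?_⟩
  split_ifs at h2 with he
  · push_cast at h2
    rw [eq_neg_of_add_eq_zero_left h2, he.add_one.neg_one_pow]
  · rw [Nat.cast_sub (Nat.one_le_pow _ _ (by have := one_lt_q hF; omega))] at h2
    push_cast at h2
    rw [sub_eq_zero.mp h2, (Nat.not_even_iff_odd.mp he).add_one.neg_one_pow]

end Count

end Cfsg.Agent.Lib.Elusive.UnitNondeg
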