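import Cfsg.Agent.Lib.Elusive.UnitIso

/-!
Pieces of hermitian isometries of prime order: singular orbits by Chevalley–Warning over the fixed
field, and pieces that cannot carry the form.
-/

set_option autoImplicit false
set_option linter.unusedSectionVars false

namespace Cfsg.Agent.Lib.Elusive.UnitPieces

open Module Cfsg.Agent.Lib.Unitary Cfsg.Agent.Lib.Elusive Cfsg.Agent.Lib.Elusive.UnitIso

variable {F : Type*} [Field F] [Fintype F] {q n : ℕ} {r : ℕ} [hr : Fact r.Prime]
variable {g : Module.End F (Fin n → F)} {X : Submodule F (Fin n → F)}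

/-- The fixed field of `x ↦ x ^ q`. -/
def fixedField (hF : Fintype.card F = q ^ 2) : Subfield F :=
  RingHom.eqLocusField (Unitary.conj hF) (RingHom.id F)

theorem mem_fixedField (hF : Fintype.card F = q ^ 2) {x : F} : x ∈ fixedField hF ↔ x ^ q = x := Iff.rfl

theorem finrank_fixedField (hF : Fintype.card F = q ^ 2) : finrank (fixedField hF) F = 2 := by
  have hc : Nat.card (fixedField hF) = q :=
    (Nat.card_congr (Equiv.subtypeEquivRight fun x => mem_fixedField hF)).trans (card_fixed hF)
  have h1 := Module.natCard_eq_pow_finrank (K := fixedField hF) (V := F)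
  rw [hc, Nat.card_eq_fintype_card, hF] at h1
  exact (Nat.pow_right_injective (one_lt_q hF) h1).symm

/-- A nonzero vector whose orbit spans an isotropic subspace. -/
theorem exists_singular_vector (hF : Fintype.card F = q ^ 2) (hg : Isometric q g) {z : F}
    (hz : g ^ r = z • 1) (hr2 : r ≠ 2) (ε : ℕ)
    (hε : ε = 0 → ∀ v ∈ X, ∑ k ∈ Finset.range r, (g ^ k) v = 0)
    (hdim : r - 1 + ε < finrank F X) :
    ∃ v ∈ X, v ≠ 0 ∧ TI q (Submodule.span F (Set.range fun k : Fin r => (g ^ (k : ℕ)) v)) := by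
  classical
  obtain ⟨p, hp⟩ := CharP.exists F
  haveI : Fact p.Prime := ⟨CharP.char_is_prime F p⟩
  haveI : CharP (fixedField hF) p :=
    (RingHom.charP_iff (fixedField hF).subtype (fixedField hF).subtype.injective p).mpr hp
  haveI : Fintype (fixedField hF) := Fintype.ofFinite _
  set K := fixedField hF
  let bF := Module.finBasisOfFinrankEq K F (finrank_fixedField hF)
  obtain ⟨j₀, hj₀⟩ : ∃ j, bF.coord j (1 : F) ≠ 0 := by
    by_contra hcon
    push Not at hcon
    exact one_ne_zero (bF.forall_coord_eq_zero_iff.mp hcon)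
  have hX2 : finrank K X = 2 * finrank F X := by
    rw [← finrank_fixedField hF, Module.finrank_mul_finrank]
  let b := Module.finBasisOfFinrankEq K X hX2
  obtain ⟨l, hl⟩ := hr.out.odd_of_ne_two hr2
  -- the quadratic forms over the fixed field
  let Q : Fin 2 → ℕ → MvPolynomial (Fin (2 * finrank F X)) K := fun e k =>
    ∑ x, ∑ y, MvPolynomial.C (bF.coord e (hermForm n F q (b x : Fin n → F) ((g ^ k) (b y : Fin n → F)))) *
      (MvPolynomial.X x * MvPolynomial.X y)
  let P : Fin ε ⊕ (Fin l × Fin 2) → MvPolynomial (Fin (2 * finrank F X)) K :=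
    Sum.elim (fun _ => Q j₀ 0) (fun ke => Q ke.2 ((ke.1 : ℕ) + 1))
  have hdeg : ∀ e k, (Q e k).totalDegree ≤ 2 := fun e k => by
    refine MvPolynomial.totalDegree_finsetSum_le fun x _ => MvPolynomial.totalDegree_finsetSum_le fun y _ => ?_
    refine (MvPolynomial.totalDegree_mul _ _).trans ?_
    rw [MvPolynomial.totalDegree_C, zero_add]
    refine (MvPolynomial.totalDegree_mul _ _).trans ?_
    rw [MvPolynomial.totalDegree_X, MvPolynomial.totalDegree_X]
  have hsum : (∑ a, (P a).totalDegree) < Fintype.card (Fin (2 * finrank F X)) := by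
    have h1 := Finset.sum_le_sum (s := (Finset.univ : Finset (Fin ε ⊕ (Fin l × Fin 2))))
      (f := fun a => (P a).totalDegree) (g := fun _ => 2) fun a _ => by
      rcases a with a | a <;> exact hdeg _ _
    rw [Finset.sum_const, Finset.card_univ, Fintype.card_sum, Fintype.card_prod, Fintype.card_fin,
      Fintype.card_fin, Fintype.card_fin, smul_eq_mul] at h1
    rw [Fintype.card_fin]
    omega
  have hdvd := char_dvd_card_solutions_of_fintype_sum_lt p (f := P) hsum
  obtain ⟨c, hc, hc0⟩ : ∃ c : Fin (2 * finrank F X) → K,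
      (∀ a, MvPolynomial.eval c (P a) = 0) ∧ c ≠ 0 := by
    by_contra hcon
    push Not at hcon
    have h1 : Nat.card {c : Fin (2 * finrank F X) → K // ∀ a, MvPolynomial.eval c (P a) = 0} = 1 :=
      Nat.card_eq_one_iff_unique.mpr ⟨⟨fun c c' => Subtype.ext ((hcon c.1 c.2).trans (hcon c'.1 c'.2).symm)⟩,
        ⟨⟨0, fun a => by rcases a with a | a <;> simp [P, Q]⟩⟩⟩
    rw [← @Nat.card_eq_fintype_card _ (_), h1] at hdvd
    exact (Fact.out : p.Prime).not_dvd_one hdvd
  set v : Fin n → F := ∑ x, (c x : F) • (b x : Fin n → F) with hv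
  have heval : ∀ e k, MvPolynomial.eval c (Q e k) = bF.coord e (hermForm n F q v ((g ^ k) v)) := by
    intro e k
    have hfix : ∀ x, ((c x : F)) ^ q = (c x : F) := fun x => (mem_fixedField hF).mp (c x).2
    have h1 : hermForm n F q v ((g ^ k) v) =
        ∑ x, ∑ y, (c x * c y) • hermForm n F q (b x : Fin n → F) ((g ^ k) (b y : Fin n → F)) := by
      simp only [hv, map_sum, map_smul, herm_sum_left, herm_sum_right _ hF, herm_smul_left,
        herm_smul_right, hfix, Subfield.smul_def, smul_eq_mul, Subfield.coe_mul, Finset.mul_sum]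
      rw [Finset.sum_comm]
      exact Finset.sum_congr rfl fun x _ => Finset.sum_congr rfl fun y _ => by ring
    rw [h1]
    simp only [Q, map_sum, map_mul, map_smul, MvPolynomial.eval_C, MvPolynomial.eval_X, smul_eq_mul]
    exact Finset.sum_congr rfl fun x _ => Finset.sum_congr rfl fun y _ => by ring
  have hvX : v ∈ X := X.sum_mem fun x _ => X.smul_mem _ (b x).2
  have hv0 : v ≠ 0 := fun h0 => hc0 (_root_.funext fun x => by
    have h1 : ∑ x, c x • b x = (0 : X) := Subtype.ext (by
      rw [Submodule.coe_sum, ZeroMemClass.coe_zero, ← h0, hv]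
      exact Finset.sum_congr rfl fun y _ => rfl)
    exact Fintype.linearIndependent_iff.mp b.linearIndependent c h1 x)
  -- vanishing of all products
  have hz0 : z ≠ 0 := fun h0 => by
    have h1 := hg.pow r v
    rw [hz, h0, zero_smul, LinearMap.zero_apply] at h1
    exact hv0 (herm_nondeg_left hF fun y => by
      rw [← hg.pow r v y, hz, h0, zero_smul, LinearMap.zero_apply, herm_zero_left])
  have hlow : ∀ k, 0 < k → k ≤ l → hermForm n F q v ((g ^ k) v) = 0 := fun k hk0 hkl =>
    bF.ext_elem fun e => by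
      have h1 := hc (Sum.inr (⟨k - 1, by omega⟩, e))
      simp only [P, Sum.elim_inr, heval, show k - 1 + 1 = k by omega] at h1
      simpa using h1
  have hpos : ∀ k, 0 < k → k < r → hermForm n F q v ((g ^ k) v) = 0 := fun k hk0 hkr => by
    by_cases hkl : k ≤ l
    · exact hlow k hk0 hkl
    have h1 := hg.pow (r - k) v ((g ^ k) v)
    rw [← Module.End.mul_apply, ← pow_add, Nat.sub_add_cancel hkr.le, hz, LinearMap.smul_apply,
      Module.End.one_apply, herm_smul_right, herm_eq_zero_symm hF (hlow (r - k) (by omega) (by omega)),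
      mul_zero] at h1
    exact h1.symm
  have hk : ∀ k < r, hermForm n F q v ((g ^ k) v) = 0 := by
    intro k hkr
    rcases Nat.eq_zero_or_pos k with rfl | hk0
    · rcases Nat.eq_zero_or_pos ε with hε0 | hε0
      · have h1 := congrArg (hermForm n F q v) (hε hε0 v hvX)
        rw [herm_sum_right _ hF, herm_zero_right _ hF, Finset.sum_eq_single 0 (fun k hk hk0 =>
          hpos k (Nat.pos_of_ne_zero hk0) (Finset.mem_range.mp hk))
          (fun h => absurd (Finset.mem_range.mpr hr.out.pos) h)] at h1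
        exact h1
      · have h1 := hc (Sum.inl ⟨0, hε0⟩)
        simp only [P, Sum.elim_inl, heval, pow_zero, Module.End.one_apply] at h1
        have hmem : hermForm n F q v v ∈ K := (mem_fixedField hF).mpr (herm_self_fixed v hF)
        have h2 : (⟨_, hmem⟩ : K) • (1 : F) = hermForm n F q v v := by
          rw [Subfield.smul_def, smul_eq_mul, mul_one]
        rw [← h2, map_smul, smul_eq_mul] at h1
        rw [pow_zero, Module.End.one_apply, ← h2, (mul_eq_zero.mp h1).resolve_right hj₀, zero_smul]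
    · exact hpos k hk0 hkr
  have hle : ∀ a j, hermForm n F q ((g ^ a) v) ((g ^ (a + j)) v) = 0 := fun a j => by
    rw [pow_add, Module.End.mul_apply, hg.pow a]
    conv_lhs => rw [← Nat.mod_add_div j r, pow_add, pow_mul, hz, _root_.smul_pow, one_pow, Module.End.mul_apply,
      LinearMap.smul_apply, Module.End.one_apply, map_smul, herm_smul_right, hk _ (Nat.mod_lt _ hr.out.pos), mul_zero]
  refine ⟨v, hvX, hv0, ti_iff_le_perp.mpr (Submodule.span_le.mpr ?_)⟩
  rintro _ ⟨a, rfl⟩
  refine (mem_perp_span_range hF).mpr fun a' => ?_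
  rcases Nat.le_total (a : ℕ) a' with hab | hab
  · obtain ⟨j, hj⟩ := Nat.exists_eq_add_of_le hab
    rw [hj]; exact hle _ j
  · obtain ⟨j, hj⟩ := Nat.exists_eq_add_of_le hab
    refine herm_eq_zero_symm hF ?_
    show hermForm n F q ((g ^ (a' : ℕ)) v) ((g ^ (a : ℕ)) v) = 0
    rw [hj]; exact hle _ j

theorem cast_q_ne_zero (hF : Fintype.card F = q ^ 2) (hrF : (r : F) ≠ 0) : (q : ZMod r) ≠ 0 := fun h0 =>
  card_cast_ne_zero (r := r) hrF (by rw [hF, Nat.cast_pow, h0, zero_pow two_ne_zero])

/-- The exponents for which `r` divides a factor of the order of the unitary group. -/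
theorem exists_exp_of_dvd_card_GU (hF : Fintype.card F = q ^ 2) (hrF : (r : F) ≠ 0) {d : ℕ}
    (h : r ∣ Nat.card (GU d F q)) : ∃ j, 0 < j ∧ j ≤ d ∧ (q : ZMod r) ^ j = (-1) ^ j := by
  have hq0 := cast_q_ne_zero hF hrF
  rw [card_GU hF, ← ZMod.natCast_eq_zero_iff] at h
  push_cast at h
  rcases mul_eq_zero.mp h with h1 | h1
  · exact absurd h1 (pow_ne_zero _ hq0)
  obtain ⟨i, hi, hi0⟩ := Finset.prod_eq_zero_iff.mp h1
  refine ⟨i + 1, i.succ_pos, Finset.mem_range.mp hi, ?_⟩
  split_ifs at hi0 with he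
  · push_cast at hi0
    rw [eq_neg_of_add_eq_zero_left hi0, he.add_one.neg_one_pow]
  · rw [Nat.cast_sub (Nat.one_le_pow _ _ (by have := one_lt_q hF; omega))] at hi0
    push_cast at hi0
    rw [sub_eq_zero.mp hi0, (Nat.not_even_iff_odd.mp he).add_one.neg_one_pow]

theorem dvd_card_GU (hF : Fintype.card F = q ^ 2) {d j : ℕ} (hj : 0 < j) (hjd : j ≤ d)
    (h : (q : ZMod r) ^ j = (-1) ^ j) : r ∣ Nat.card (GU d F q) := by
  rw [card_GU hF]
  refine dvd_mul_of_dvd_right (dvd_trans ?_ (Finset.dvd_prod_of_mem _ (Finset.mem_range.mpr (show j - 1 < d by omega)))) _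
  rw [← ZMod.natCast_eq_zero_iff]
  obtain ⟨i, rfl⟩ : ∃ i, j = i + 1 := ⟨j - 1, by omega⟩
  rw [Nat.add_sub_cancel]
  split_ifs with he
  · push_cast
    rw [h, he.add_one.neg_one_pow, neg_add_cancel]
  · rw [Nat.cast_sub (Nat.one_le_pow _ _ (by have := one_lt_q hF; omega))]
    push_cast
    rw [h, (Nat.not_even_iff_odd.mp he).add_one.neg_one_pow, sub_self]

/-- A nondegenerate invariant subspace without fixed vectors makes `r` divide the order of its group. -/
theorem dvd_card_of_nondeg (hF : Fintype.card F = q ^ 2) (hg : Isometric q g) (hgr : g ^ r = 1)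
    (hX : Inv g X) (hnd : Nondeg q X) (hne : X ≠ ⊥) (hE : X ⊓ End.eigenspace g (1 : F) = ⊥) :
    r ∣ Nat.card (GU (finrank F X) F q) := by
  classical
  obtain ⟨f, hf, hfX, hspan⟩ := exists_orthonormal_of_nondeg hF _ X rfl hnd
  let φ : (Fin (finrank F X) → F) →ₗ[F] X :=
    { toFun := fun c => ⟨∑ i, c i • f i, X.sum_mem fun i _ => X.smul_mem _ (hfX i)⟩
      map_add' := fun c c' => Subtype.ext (by simp [add_smul, Finset.sum_add_distrib])
      map_smul' := fun a c => Subtype.ext (by simp [Finset.smul_sum, smul_smul]) }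
  have hφh : ∀ u v, hermForm n F q (φ u : Fin n → F) (φ v) = hermForm (finrank F X) F q u v := fun u v => by
    show hermForm n F q (∑ i, u i • f i) (∑ i, v i • f i) = _
    rw [herm_sum_sum hF]
    simp only [hf _ _, mul_ite, mul_one, mul_zero, Finset.sum_ite_eq, Finset.mem_univ, if_true]
    rfl
  have hφi : Function.Injective φ := (injective_iff_map_eq_zero φ).mpr fun u hu =>
    herm_nondeg_left hF fun v => by rw [← hφh, hu, ZeroMemClass.coe_zero, herm_zero_left]
  let e := LinearEquiv.ofBijective φ ⟨hφi, (LinearMap.injective_iff_surjective_of_finrank_eq_finrank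
    (by rw [finrank_fin_fun])).mp hφi⟩
  let gX : Module.End F X := g.restrict fun x hx => hX.mem hx
  let M := LinearMap.toMatrix' (e.symm.toLinearMap ∘ₗ gX ∘ₗ e.toLinearMap)
  have hM : ∀ c, Matrix.mulVec M c = e.symm (gX (e c)) := fun c => LinearMap.toMatrix'_mulVec _ _
  have hiso : ∀ u v, hermForm (finrank F X) F q (Matrix.mulVec M u) (Matrix.mulVec M v) =
      hermForm (finrank F X) F q u v := fun u v => by
    rw [hM, hM, ← hφh]
    show hermForm n F q (e (e.symm (gX (e u))) : Fin n → F) (e (e.symm (gX (e v)))) = _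
    rw [e.apply_symm_apply, e.apply_symm_apply, ← hφh]
    exact hg _ _
  let A := mkGU hF M hiso
  have hA : ∀ (k : ℕ) c, ((A ^ k).1.1 : Matrix _ _ F).mulVec c = e.symm ((gX ^ k) (e c)) := by
    intro k
    induction k with
    | zero => intro c; simp
    | succ k ih =>
      intro c
      rw [pow_succ', GU_mul_mulVec, ih, pow_succ', Module.End.mul_apply]
      show Matrix.mulVec M _ = _
      rw [hM, e.apply_symm_apply]
  have hAr : A ^ r = 1 := GU_ext fun c => by
    rw [hA, GU_one_mulVec, show (gX ^ r) (e c) = e c from Subtype.ext (by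
      rw [restrict_pow_apply, hgr, Module.End.one_apply]), e.symm_apply_apply]
  have hA1 : A ≠ 1 := fun h => by
    obtain ⟨x, hx, hx0⟩ := Submodule.exists_mem_ne_zero_of_ne_bot hne
    refine hx0 ((Submodule.mem_bot F).mp (hE.le ⟨hx, End.mem_eigenspace_iff.mpr ?_⟩))
    have h1 := hA 1 (e.symm ⟨x, hx⟩)
    rw [pow_one, pow_one, h, GU_one_mulVec, e.apply_symm_apply] at h1
    rw [one_smul]
    exact congrArg Subtype.val (e.symm.injective h1).symm
  have := orderOf_eq_prime hAr hA1
  exact this ▸ orderOf_dvd_natCard A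

theorem orderOf_card_eq (hF : Fintype.card F = q ^ 2) :
    orderOf (Fintype.card F : ZMod r) = orderOf ((q : ZMod r) ^ 2) := by
  rw [hF, Nat.cast_pow]

/-- When `-1` is no odd power of `q`, the exponents of the factors are multiples of twice the order of `q²`. -/
theorem two_orderOf_dvd (hF : Fintype.card F = q ^ 2)
    (hni : ∀ k, Odd k → (q : ZMod r) ^ k ≠ -1) {k : ℕ} (hk : (q : ZMod r) ^ k = (-1) ^ k) :
    2 * orderOf (Fintype.card F : ZMod r) ∣ k := by
  rw [orderOf_card_eq hF]
  rcases Nat.even_or_odd k with he | ho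
  · obtain ⟨j, rfl⟩ := he.two_dvd
    rw [pow_mul, pow_mul, neg_one_sq, one_pow] at hk
    exact Nat.mul_dvd_mul_left 2 (orderOf_dvd_of_pow_eq_one hk)
  · exact absurd (hk.trans ho.neg_one_pow) (hni k ho)

/-- In the paired case every piece is isotropic. -/
theorem exists_piece_paired (hF : Fintype.card F = q ^ 2) (hg : Isometric q g) (hgr : g ^ r = 1)
    (hrF : (r : F) ≠ 0) (hni : ∀ k, Odd k → (q : ZMod r) ^ k ≠ -1) (hX : Inv g X)
    (hE : X ⊓ End.eigenspace g (1 : F) = ⊥) (hpos : 0 < finrank F X) :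
    ∃ P, P ≤ X ∧ Inv g P ∧ TI q P ∧ finrank F P = orderOf (Fintype.card F : ZMod r) := by
  have hu : IsUniform g 1 (orderOf (Fintype.card F : ZMod r)) :=
    isUniform_split hrF one_ne_zero (by rw [one_pow, one_smul, hgr])
  obtain ⟨P, hPX, hP⟩ := hu.exists_piece hX (by rw [hE, finrank_bot]; exact hpos)
  have hPd : finrank F P = orderOf (Fintype.card F : ZMod r) := by rw [hP.2.2, zero_add, one_mul]
  refine ⟨P, hPX, hP.1, ?_, hPd⟩
  rw [ti_iff_le_perp]
  by_contra hle
  have hbot : P ⊓ perp q P = ⊥ := by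
    by_contra hne'
    obtain ⟨u, hu', hu0⟩ := Submodule.exists_mem_ne_zero_of_ne_bot hne'
    exact hle (Decomp.piece_le hu hP (hg.inv_perp hF hP.1) hu'.1 hu0 hu'.2)
  have hpos' : 0 < finrank F P := hPd ▸ orderOf_card_pos hrF
  obtain ⟨j, hj, hjd, hjq⟩ := exists_exp_of_dvd_card_GU hF hrF (dvd_card_of_nondeg hF hg hgr hP.1
    (nondeg_iff_disjoint.mpr hbot) (fun h0 => by rw [h0, finrank_bot] at hpos'; omega)
    (le_bot_iff.mp (hE ▸ inf_le_inf_right _ hPX)))
  have h1 := Nat.le_of_dvd hj (two_orderOf_dvd hF hni hjq)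
  omega

/-- In a nondegenerate subspace without fixed vectors a long enough one has an isotropic piece. -/
theorem exists_piece_of_lt (hF : Fintype.card F = q ^ 2) (hg : Isometric q g) (hgr : g ^ r = 1)
    (hrF : (r : F) ≠ 0) (hr2 : r ≠ 2) (hX : Inv g X)
    (hE : X ⊓ End.eigenspace g (1 : F) = ⊥) (hlt : r - 1 < finrank F X) :
    ∃ P, P ≤ X ∧ Inv g P ∧ TI q P ∧ finrank F P = orderOf (Fintype.card F : ZMod r) := by
  have hu : IsUniform g 1 (orderOf (Fintype.card F : ZMod r)) :=
    isUniform_split hrF one_ne_zero (by rw [one_pow, one_smul, hgr])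
  have hz : g ^ r = (1 : F) • 1 := by rw [one_smul, hgr]
  obtain ⟨v, hv, hv0, hti⟩ := exists_singular_vector (X := X) hF hg hz hr2 0 (fun _ w hw => by
    have hmem : Decomp.avg g (1 : F) r w ∈ X ⊓ End.eigenspace g (1 : F) := by
      refine ⟨?_, Decomp.avg_mem one_ne_zero (by rw [one_pow, one_smul, hgr]) w⟩
      rw [Decomp.avg_apply]
      have hpow : ∀ k, (g ^ k) w ∈ X := fun k => by
        induction k with
        | zero => simpa using hw
        | succ k ih => rw [pow_succ', Module.End.mul_apply]; exact hX.mem ih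
      exact X.sum_mem fun k _ => X.smul_mem _ (hpow k)
    rw [hE, Submodule.mem_bot, Decomp.avg_apply] at hmem
    simpa using hmem) (by omega)
  exact exists_ti_piece hu hr.out.pos hz hX hE hv hv0 hti

end Cfsg.Agent.Lib.Elusive.UnitPieces
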