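import Cfsg.Agent.Lib.Elusive.UnitNondeg
import Cfsg.Agent.Lib.ElusiveUnit.Frame

/-!
Unipotent isometries of hermitian forms of exponent the characteristic: orthogonal decompositions into
short invariant pieces, and elements with every block structure, read off from the ranks of powers.
-/

set_option autoImplicit false
set_option linter.unusedSectionVars false

namespace Cfsg.Agent.Lib.Elusive.UnitUnipotent

open Module Cfsg.Agent.Lib.Unitary Cfsg.Agent.Lib.Elusive Cfsg.Agent.Lib.Elusive.UnitIso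
  Cfsg.Agent.Lib.Elusive.UnitNondeg

section Rank

variable {F V : Type*} [Field F] [AddCommGroup V] [Module F V] [FiniteDimensional F V]

/-- The rank of a power on a subspace. -/
noncomputable def rk (N : Module.End F V) (W : Submodule F V) (j : ℕ) : ℕ := finrank F (W.map (N ^ j))

theorem map_pow_succ (N : Module.End F V) (W : Submodule F V) (j : ℕ) :
    W.map (N ^ (j + 1)) = (W.map (N ^ j)).map N := by
  rw [← Submodule.map_comp, pow_succ']
  rfl

theorem rk_diff (N : Module.End F V) (W : Submodule F V) (j : ℕ) :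
    rk N W j = rk N W (j + 1) + finrank F ↥(W.map (N ^ j) ⊓ LinearMap.ker N) := by
  have h := (N.domRestrict (W.map (N ^ j))).finrank_range_add_finrank_ker
  rw [LinearMap.range_domRestrict, LinearMap.ker_domRestrict] at h
  rw [← Submodule.map_comap_subtype, Submodule.finrank_map_subtype_eq, rk, rk, map_pow_succ]
  exact h.symm

variable {N : Module.End F V} {W W' : Submodule F V}

theorem map_pow_le (hW : Inv N W) (j : ℕ) : W.map (N ^ j) ≤ W := by
  induction j with
  | zero => rw [pow_zero]; exact le_of_eq (Submodule.map_id W)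
  | succ j ih => rw [map_pow_succ]; exact (Submodule.map_mono ih).trans hW

theorem map_pow_succ_le (hW : Inv N W) (j : ℕ) : W.map (N ^ (j + 1)) ≤ W.map (N ^ j) := by
  induction j with
  | zero =>
    rw [pow_zero, zero_add, pow_one]
    exact hW.trans (le_of_eq (Submodule.map_id W).symm)
  | succ j ih => rw [map_pow_succ N W (j + 1)]; conv_rhs => rw [map_pow_succ N W j]
                 exact Submodule.map_mono ih

theorem two_mul_rk_le (hW : Inv N W) (j : ℕ) : 2 * rk N W (j + 1) ≤ rk N W j + rk N W (j + 2) := by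
  have h1 := rk_diff N W j
  have h2 : rk N W (j + 1) = rk N W (j + 2) + _ := rk_diff N W (j + 1)
  have h3 := Submodule.finrank_mono (inf_le_inf_right (LinearMap.ker N) (map_pow_succ_le hW j))
  omega

theorem rk_add (hW : Inv N W) (hW' : Inv N W') (hdisj : W ⊓ W' = ⊥) (hsup : W ⊔ W' = ⊤) (j : ℕ) :
    rk N ⊤ j = rk N W j + rk N W' j := by
  rw [rk, ← hsup, Submodule.map_sup, finrank_sup_of_disjoint]
  · rfl
  · exact le_bot_iff.mp (hdisj ▸ inf_le_inf (map_pow_le hW j) (map_pow_le hW' j))

theorem count_succ (μ : Multiset ℕ) (j : ℕ) :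
    2 * (μ.map fun a => a - (j + 1)).sum + μ.count (j + 1) =
      (μ.map fun a => a - j).sum + (μ.map fun a => a - (j + 2)).sum := by
  induction μ using Multiset.induction_on with
  | empty => simp
  | cons a μ ih =>
    simp only [Multiset.map_cons, Multiset.sum_cons, Multiset.count_cons]
    split_ifs <;> omega

/-- An invariant complemented subspace takes some of the blocks. -/
theorem exists_subsum {μ : Multiset ℕ} {P : ℕ} (hP : N ^ P = 0) (hW : Inv N W) (hW' : Inv N W')
    (hdisj : W ⊓ W' = ⊥) (hsup : W ⊔ W' = ⊤) (hμ : ∀ j, rk N ⊤ j = (μ.map fun a => a - j).sum) :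
    ∃ ν : Multiset ℕ, ν ≤ μ ∧ ν.sum = finrank F W := by
  let δ : ℕ → ℕ := fun j => rk N W j + rk N W (j + 2) - 2 * rk N W (j + 1)
  have hδle : ∀ j, δ j ≤ μ.count (j + 1) := fun j => by
    have h1 := count_succ μ j
    rw [← hμ, ← hμ, ← hμ, rk_add hW hW' hdisj hsup, rk_add hW hW' hdisj hsup,
      rk_add hW hW' hdisj hsup] at h1
    have := two_mul_rk_le hW j
    have := two_mul_rk_le hW' j
    simp only [δ]
    omega
  refine ⟨∑ j ∈ Finset.range P, Multiset.replicate (δ j) (j + 1), ?_, ?_⟩
  · rw [Multiset.le_iff_count]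
    intro a
    rw [Multiset.count_sum']
    rcases Nat.eq_zero_or_pos a with rfl | ha
    · simp [Multiset.count_replicate]
    obtain ⟨b, rfl⟩ : ∃ b, a = b + 1 := ⟨a - 1, by omega⟩
    simp only [Multiset.count_replicate, Nat.add_right_cancel_iff, Finset.sum_ite_eq']
    split_ifs
    exacts [hδle b, Nat.zero_le _]
  · have hzero : ∀ k, P ≤ k → rk N W k = 0 := fun k hk => by
      rw [rk, show N ^ k = 0 by rw [← Nat.add_sub_cancel' hk, pow_add, hP, zero_mul], Submodule.map_zero,
        finrank_bot]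
    have hsum : ∀ Q, (∑ j ∈ Finset.range Q, Multiset.replicate (δ j) (j + 1)).sum + (Q + 1) * rk N W Q =
        rk N W 0 + Q * rk N W (Q + 1) := by
      intro Q
      induction Q with
      | zero => simp
      | succ Q ih =>
        rw [Finset.sum_range_succ, Multiset.sum_add, Multiset.sum_replicate, smul_eq_mul]
        have hd : δ Q + 2 * rk N W (Q + 1) = rk N W Q + rk N W (Q + 2) := by
          have := two_mul_rk_le hW Q
          simp only [δ]
          omega
        have h2 := congrArg (fun x => (Q + 1) * x) hd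
        simp only [Nat.mul_add] at h2
        simp only [Nat.add_mul, Nat.mul_add, one_mul, mul_one, mul_comm (δ Q)] at ih h2 ⊢
        rw [show Q + 1 + 1 = Q + 2 from rfl] at *
        linarith
    have h1 := hsum P
    rw [hzero P le_rfl, hzero (P + 1) (by omega), mul_zero, mul_zero, add_zero, add_zero] at h1
    rw [h1, rk, pow_zero, show W.map (1 : Module.End F V) = W from Submodule.map_id W]

/-- A nilpotent map with a full chain has ranks `d - j`. -/
theorem rk_single {d : ℕ} (hV : finrank F V = d + 1) (h0 : N ^ (d + 1) = 0) (h1 : N ^ d ≠ 0) (j : ℕ) :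
    rk N ⊤ j = d + 1 - j := by
  have hzero : ∀ k, d + 1 ≤ k → rk N ⊤ k = 0 := fun k hk => by
    rw [rk, show N ^ k = 0 by rw [← Nat.add_sub_cancel' hk, pow_add, h0, zero_mul], Submodule.map_zero,
      finrank_bot]
  have hlow : ∀ k, k ≤ d + 1 → d + 1 - k ≤ rk N ⊤ k := by
    intro k hk
    induction hkd : d + 1 - k generalizing k with
    | zero => exact Nat.zero_le _
    | succ l ih =>
      have h2 := ih (k + 1) (by omega) (by omega)
      have hne : ⊤ ⊓ (Submodule.map (N ^ k) ⊤ ⊓ LinearMap.ker N) ≠ ⊥ := by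
        obtain ⟨v, hv⟩ := not_forall.mp fun hall => h1 (LinearMap.ext hall : N ^ d = 0)
        intro hbot
        refine hv ((Submodule.mem_bot F).mp (hbot.le ⟨trivial, ?_, ?_⟩))
        · refine ⟨(N ^ (d - k)) v, trivial, ?_⟩
          rw [← Module.End.mul_apply, ← pow_add, Nat.add_sub_cancel' (show k ≤ d by omega)]
        · rw [SetLike.mem_coe, LinearMap.mem_ker, ← Module.End.mul_apply, ← pow_succ', h0,
            LinearMap.zero_apply]
      rw [top_inf_eq] at hne
      have h3 := rk_diff N ⊤ k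
      have h4 : finrank F ↥(Submodule.map (N ^ k) ⊤ ⊓ LinearMap.ker N) ≠ 0 := fun h =>
        hne (Submodule.finrank_eq_zero.mp h)
      omega
  rcases Nat.lt_or_ge d j with hj | hj
  · rw [hzero j (by omega)]; omega
  refine le_antisymm ?_ (hlow j (by omega))
  have hup : ∀ k, k ≤ d + 1 → rk N ⊤ k + k ≤ d + 1 := by
    intro k
    induction k with
    | zero => intro _; rw [rk, pow_zero, ← hV]; exact Submodule.finrank_le _
    | succ k ih =>
      intro hk
      have h2 := ih (by omega)
      have h3 := rk_diff N ⊤ k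
      have h4 : 0 < finrank F ↥(Submodule.map (N ^ k) ⊤ ⊓ LinearMap.ker N) := by
        obtain ⟨v, hv⟩ := not_forall.mp fun hall => h1 (LinearMap.ext hall : N ^ d = 0)
        refine Nat.pos_of_ne_zero fun h => hv ((Submodule.mem_bot F).mp
          ((Submodule.finrank_eq_zero.mp h).le ⟨⟨(N ^ (d - k)) v, trivial, ?_⟩, ?_⟩))
        · rw [← Module.End.mul_apply, ← pow_add, Nat.add_sub_cancel' (show k ≤ d by omega)]
        · rw [SetLike.mem_coe, LinearMap.mem_ker, ← Module.End.mul_apply, ← pow_succ', h0,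
            LinearMap.zero_apply]
      omega
  have := hup j (by omega)
  omega

end Rank

variable {F : Type*} [Field F] [Fintype F] {q n : ℕ} {p : ℕ} [hp : Fact p.Prime] [CharP F p]

theorem pow_eq_one_iff_sub {V : Type*} [AddCommGroup V] [Module F V] (g : Module.End F V) :
    g ^ p = 1 ↔ (g - 1) ^ p = 0 := by
  rcases subsingleton_or_nontrivial V with h | h
  · exact ⟨fun _ => LinearMap.ext fun v => Subsingleton.elim _ _, fun _ => LinearMap.ext fun v => Subsingleton.elim _ _⟩
  · haveI : CharP (Module.End F V) p :=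
      charP_of_injective_algebraMap (algebraMap F (Module.End F V)).injective p
    rw [sub_pow_char_of_commute p (Commute.one_right g), one_pow, sub_eq_zero]

theorem det_eq_one {f : Module.End F (Fin n → F)} (hf : f ^ p = 1) : LinearMap.det f = 1 := by
  have h1 : (LinearMap.det f - 1) ^ p = 0 := by
    rw [sub_pow_char, one_pow, det_pow_eq_one hf, sub_self]
  exact sub_eq_zero.mp (eq_zero_of_pow_eq_zero h1)

section Decomposition

variable {g : Module.End F (Fin n → F)}

theorem adjoint_sub (hg : Isometric q g) (hgp : g ^ p = 1) (hF : Fintype.card F = q ^ 2) (k : ℕ)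
    (u w : Fin n → F) :
    hermForm n F q (((g - 1) ^ k) u) w =
      (-1 : F) ^ k * hermForm n F q u (((g ^ (p - 1)) ^ k) (((g - 1) ^ k) w)) := by
  have h1 : ∀ u w, hermForm n F q ((g - 1) u) w = -hermForm n F q u ((g ^ (p - 1)) ((g - 1) w)) := fun u w => by
    rw [LinearMap.sub_apply, LinearMap.sub_apply, Module.End.one_apply, Module.End.one_apply, map_sub,
      ← Module.End.mul_apply, ← pow_succ, Nat.sub_add_cancel hp.out.one_le, hgp, Module.End.one_apply,
      herm_sub_left, herm_sub_right _ _ _ hF, neg_sub]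
    congr 1
    rw [← hg u ((g ^ (p - 1)) w), ← Module.End.mul_apply g (g ^ (p - 1)), ← pow_succ',
      Nat.sub_add_cancel hp.out.one_le, hgp, Module.End.one_apply]
  have hc : Commute (g ^ (p - 1)) (g - 1) := ((Commute.refl g).pow_left _).sub_right (Commute.one_right _)
  induction k generalizing w with
  | zero => simp
  | succ k ih =>
    rw [pow_succ', Module.End.mul_apply, h1, ih, pow_succ' (-1 : F), neg_one_mul, neg_mul,
      pow_succ (g ^ (p - 1)), Module.End.mul_apply]
    simp only [← Module.End.mul_apply]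
    congr 4
    rw [← mul_assoc ((g - 1) ^ k) (g ^ (p - 1)), ← (hc.pow_right k).eq, mul_assoc, ← pow_succ, ← pow_succ']

/-- An invariant nondegenerate subspace contains one of dimension at most `p`. -/
theorem exists_small_piece (hF : Fintype.card F = q ^ 2) (hg : Isometric q g) (hgp : g ^ p = 1)
    {X : Submodule F (Fin n → F)} (hX : Inv g X) (hnd : Nondeg q X) (hne : X ≠ ⊥) :
    ∃ W, W ≤ X ∧ Inv g W ∧ Nondeg q W ∧ 0 < finrank F W ∧ finrank F W ≤ p := by
  classical
  obtain ⟨x₀, hx₀, hx₀0⟩ := Submodule.exists_mem_ne_zero_of_ne_bot hne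
  set N : Module.End F (Fin n → F) := g - 1 with hN
  have hNX : ∀ k, ∀ x ∈ X, (N ^ k) x ∈ X := by
    intro k
    induction k with
    | zero => exact fun x hx => hx
    | succ k ih =>
      intro x hx
      rw [pow_succ', Module.End.mul_apply, hN, LinearMap.sub_apply, Module.End.one_apply]
      exact X.sub_mem (hX.mem (ih x hx)) (ih x hx)
  have hex : ∃ d, ∀ x ∈ X, (N ^ d) x = 0 := ⟨p, fun x _ => by rw [(pow_eq_one_iff_sub g).mp hgp, LinearMap.zero_apply]⟩
  obtain ⟨d, hd, hdmin⟩ : ∃ d, (∀ x ∈ X, (N ^ d) x = 0) ∧ ∀ d' < d, ¬ ∀ x ∈ X, (N ^ d') x = 0 :=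
    ⟨Nat.find hex, Nat.find_spec hex, fun _ h => Nat.find_min hex h⟩
  have hdp : d ≤ p := by
    by_contra h
    exact hdmin p (by omega) fun x _ => by rw [hN, (pow_eq_one_iff_sub g).mp hgp, LinearMap.zero_apply]
  obtain ⟨e, rfl⟩ : ∃ e, d = e + 1 := ⟨d - 1, by
    rcases Nat.eq_zero_or_pos d with rfl | h
    · exact absurd (hd x₀ hx₀) (by simpa using hx₀0)
    · omega⟩
  have hfix : ∀ k, ∀ x ∈ X, (g ^ k) ((N ^ e) x) = (N ^ e) x := fun k x hx => by
    induction k with
    | zero => rfl
    | succ k ih =>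
      rw [pow_succ', Module.End.mul_apply, ih, ← sub_eq_zero]
      have h1 := hd x hx
      rwa [pow_succ', Module.End.mul_apply, hN, LinearMap.sub_apply, Module.End.one_apply, ← hN] at h1
  have hsym : ∀ u, ∀ w ∈ X, hermForm n F q ((N ^ e) u) w = (-1 : F) ^ e * hermForm n F q u ((N ^ e) w) :=
    fun u w hw => by rw [hN, adjoint_sub hg hgp hF, ← hN, ← pow_mul, hfix _ w hw]
  have hsgn : ∀ a : ℕ, ((-1 : F) ^ a) ^ q = (-1) ^ a := fun a => by
    rw [← pow_mul, mul_comm, pow_mul, neg_pow_q hF, one_pow]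
  obtain ⟨v, hv, hvv⟩ : ∃ v ∈ X, hermForm n F q ((N ^ e) v) v ≠ 0 := by
    by_contra hcon
    push Not at hcon
    obtain ⟨u, hu, hue⟩ : ∃ u ∈ X, (N ^ e) u ≠ 0 := by
      by_contra h; push Not at h; exact hdmin e (Nat.lt_succ_self e) h
    obtain ⟨w, hw, hne'⟩ := (nondeg_iff_exists.mp hnd) _ (hNX e u hu) hue
    set a := hermForm n F q ((N ^ e) u) w
    have hb : hermForm n F q ((N ^ e) w) u = (-1 : F) ^ e * a ^ q := by
      rw [hsym w u hu, herm_conj]
      exact hF
    have hall : ∀ x : F, x + (-1 : F) ^ e * x ^ q = 0 := fun x => by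
      have h1 := hcon ((x / a) • u + w) (X.add_mem (X.smul_mem _ hu) hw)
      simp only [map_add, map_smul, herm_add_left, herm_add_right _ _ _ hF, herm_smul_left, herm_smul_right,
        hcon u hu, hcon w hw, mul_zero, zero_add, add_zero, hb] at h1
      rw [show x / a * a = x from div_mul_cancel₀ x hne'] at h1
      rw [← h1, div_pow]
      field_simp
      ring
    have h2 := hall 1
    rw [one_pow, mul_one] at h2
    have h3 : ∀ x : F, x ^ q = x := fun x => by linear_combination (x ^ q) * h2 - hall x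
    have h4 : Nat.card {x : F // x ^ q = x} = q ^ 2 := by
      rw [← hF, ← Nat.card_eq_fintype_card]
      exact Nat.card_congr (Equiv.subtypeUnivEquiv h3)
    rw [card_fixed hF] at h4
    have := one_lt_q hF
    nlinarith
  set S := Submodule.span F (Set.range fun a : Fin (e + 1) => (N ^ (a : ℕ)) v)
  have hkill : ∀ k, e + 1 ≤ k → (N ^ k) v = 0 := fun k hk => by
    rw [← Nat.sub_add_cancel hk, pow_add, Module.End.mul_apply, hd v hv, map_zero]
  have hmem : ∀ k, (N ^ k) v ∈ S := fun k => by
    rcases Nat.lt_or_ge k (e + 1) with h | h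
    · exact Submodule.subset_span ⟨⟨k, h⟩, rfl⟩
    · rw [hkill k h]; exact S.zero_mem
  refine ⟨S, ?_, ?_, ?_, ?_, ((finrank_range_le_card _).trans (Fintype.card_fin _).le).trans hdp⟩
  · rw [Submodule.span_le]
    rintro _ ⟨a, rfl⟩
    exact hNX _ v hv
  · rw [Inv, Submodule.map_span, Submodule.span_le]
    rintro _ ⟨_, ⟨a, rfl⟩, rfl⟩
    show g ((N ^ (a : ℕ)) v) ∈ S
    have h1 := hmem ((a : ℕ) + 1)
    rw [pow_succ', Module.End.mul_apply, hN, LinearMap.sub_apply, Module.End.one_apply, ← hN] at h1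
    have h2 := S.add_mem h1 (hmem a)
    rwa [sub_add_cancel] at h2
  · intro u hu huv
    obtain ⟨c, rfl⟩ := (Submodule.mem_span_range_iff_exists_fun F).1 hu
    suffices hc : ∀ a : ℕ, ∀ ha : a < e + 1, c ⟨a, ha⟩ = 0 from
      Finset.sum_eq_zero fun a _ => by rw [hc a a.2, zero_smul]
    intro a
    induction a using Nat.strong_induction_on with
    | _ a ih =>
      intro ha
      have h1 := huv _ (hmem (e - a))
      rw [herm_sum_left, Finset.sum_eq_single (⟨a, ha⟩ : Fin (e + 1))] at h1
      · rw [herm_smul_left, hN, adjoint_sub hg hgp hF, ← Module.End.mul_apply _ ((g - 1) ^ (e - a)),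
          ← pow_add, Nat.add_sub_cancel' (show a ≤ e by omega), ← hN, ← pow_mul, hfix _ v hv,
          ← herm_conj ((N ^ e) v) v hF] at h1
        exact (mul_eq_zero.mp h1).resolve_right (mul_ne_zero (pow_ne_zero _ (neg_ne_zero.mpr one_ne_zero))
          (fun h => hvv (eq_zero_of_pow_eq_zero h)))
      · intro b _ hb
        rcases Nat.lt_or_ge (b : ℕ) a with hlt | hge
        · rw [show c b = 0 from ih b hlt b.2, zero_smul, herm_zero_left]
        · have hne'' : (b : ℕ) ≠ a := fun h => hb (Fin.ext h)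
          rw [herm_smul_left, hN, adjoint_sub hg hgp hF, ← Module.End.mul_apply _ ((g - 1) ^ (e - a)),
            ← pow_add, ← hN, hkill _ (by omega), map_zero, herm_zero_right _ hF, mul_zero, mul_zero]
      · simp
  · refine Nat.pos_of_ne_zero fun h0 => hvv ?_
    have hv' := hmem 0
    rw [pow_zero, Module.End.one_apply, Submodule.finrank_eq_zero.mp h0, Submodule.mem_bot] at hv'
    rw [hv', map_zero, herm_zero_left]

/-- An orthogonal decomposition into pieces of dimension at most `p`. -/
theorem exists_decomp (hF : Fintype.card F = q ^ 2) (hg : Isometric q g) (hgp : g ^ p = 1) :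
    ∀ k, ∀ X : Submodule F (Fin n → F), finrank F X = k → Inv g X → Nondeg q X →
      ∃ ν : Multiset ℕ, (∀ a ∈ ν, 0 < a ∧ a ≤ p) ∧ ν.sum = k ∧
        ∀ ν', ν' ≤ ν → ∃ W, W ≤ X ∧ Inv g W ∧ Nondeg q W ∧ finrank F W = ν'.sum := by
  intro k
  induction k using Nat.strong_induction_on with
  | _ k ih =>
    intro X hk hX hnd
    rcases eq_or_ne X ⊥ with rfl | hne
    · rw [finrank_bot] at hk
      exact ⟨0, by simp, by simp [← hk], fun ν' hν' => ⟨⊥, le_rfl, Inv.bot g, nondeg_bot, by
        rw [Multiset.le_zero.mp hν', finrank_bot, Multiset.sum_zero]⟩⟩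
    obtain ⟨P, hPX, hP, hPnd, hPpos, hPp⟩ := exists_small_piece hF hg hgp hX hnd hne
    obtain ⟨hY, -, hdim⟩ := UnitIso.split hF hPnd hnd hPX
    obtain ⟨ν, hν, hνs, hsub⟩ := ih _ (by omega) _ rfl (hX.inf (hg.inv_perp hF hP)) hY
    refine ⟨finrank F P ::ₘ ν, fun a ha => ?_, by rw [Multiset.sum_cons, hνs, ← hdim, hk], fun ν' hν' => ?_⟩
    · rcases Multiset.mem_cons.mp ha with rfl | ha
      exacts [⟨hPpos, hPp⟩, hν a ha]
    by_cases hmem : finrank F P ∈ ν'
    · obtain ⟨W, hWY, hW, hWnd, hWd⟩ := hsub _ (Multiset.erase_le_iff_le_cons.mpr hν')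
      obtain ⟨hsup, hdisj⟩ := nondeg_sup hF hPnd hWnd fun u hu w hw =>
        herm_eq_zero_symm hF ((hWY hw).2 u hu)
      refine ⟨P ⊔ W, sup_le hPX (hWY.trans inf_le_left), hP.sup hW, hsup, ?_⟩
      rw [finrank_sup_of_disjoint hdisj, hWd, ← Multiset.sum_erase hmem]
    · obtain ⟨W, hWY, hW, hWnd, hWd⟩ := hsub ν' ((Multiset.le_cons_of_notMem hmem).mp hν')
      exact ⟨W, hWY.trans inf_le_left, hW, hWnd, hWd⟩

end Decomposition

section Blocks

/-- A single unipotent block of each length up to `p`. -/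
theorem exists_single (hF : Fintype.card F = q ^ 2) {e : ℕ} (he : e + 1 ≤ p) :
    ∃ g : Module.End F (Fin (e + 1) → F), Isometric q g ∧ (g - 1) ^ (e + 1) = 0 ∧ (g - 1) ^ e ≠ 0 := by
  classical
  rcases Nat.eq_zero_or_pos e with rfl | he0
  · exact ⟨1, fun u v => rfl, by simp, by simp⟩
  rcases eq_or_ne p 2 with rfl | hp2
  · obtain rfl : e = 1 := by omega
    obtain ⟨W, -, hW, hWd⟩ := exists_ti hF (nondeg_top' (n := 1 + 1) hF) (k := 1)
      (by rw [finrank_top, finrank_fin_fun])
    obtain ⟨a, haW, ha0⟩ := Submodule.exists_mem_ne_zero_of_ne_bot (p := W) fun h => by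
      rw [h, finrank_bot] at hWd; omega
    have haa := hW a haW a haW
    obtain ⟨τ, hτ0, hτ⟩ := exists_trace_zero_ne_zero hF
    let N : Module.End F (Fin (1 + 1) → F) :=
      { toFun := fun v => (τ * hermForm _ F q v a) • a
        map_add' := fun u v => by rw [herm_add_left, mul_add, add_smul]
        map_smul' := fun c v => by rw [herm_smul_left, smul_smul, RingHom.id_apply, mul_left_comm] }
    refine ⟨1 + N, fun u v => ?_, ?_, ?_⟩
    · show hermForm _ F q (u + (τ * hermForm _ F q u a) • a) (v + (τ * hermForm _ F q v a) • a) = _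
      simp only [herm_add_left, herm_add_right _ _ _ hF, herm_smul_left, herm_smul_right, haa, mul_pow,
        mul_zero, add_zero]
      rw [herm_conj v a hF]
      linear_combination (hermForm _ F q u a * hermForm _ F q a v) * hτ
    · rw [add_sub_cancel_left, pow_two]
      refine LinearMap.ext fun v => ?_
      show (τ * hermForm _ F q ((τ * hermForm _ F q v a) • a) a) • a = 0
      rw [herm_smul_left, haa, mul_zero, mul_zero, zero_smul]
    · rw [add_sub_cancel_left, pow_one]
      intro h
      refine ha0 (herm_nondeg_right hF fun u => ?_)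
      have h1 : (τ * hermForm _ F q u a) • a = 0 := LinearMap.congr_fun h u
      exact (mul_eq_zero.mp ((smul_eq_zero.mp h1).resolve_right ha0)).resolve_left hτ0
  have hsgn : ∀ a : ℕ, ((-1 : F) ^ a) ^ q = (-1) ^ a := fun a => by
    rw [← pow_mul, mul_comm, pow_mul, neg_pow_q hF, one_pow]
  obtain ⟨c, hc0, hc⟩ : ∃ c : F, c ≠ 0 ∧ c ^ q = (-1) ^ e * c := by
    rcases Nat.even_or_odd e with h | h
    · exact ⟨1, one_ne_zero, by rw [h.neg_one_pow, one_pow, one_mul]⟩
    · obtain ⟨c, hc0, hc⟩ := exists_trace_zero_ne_zero hF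
      exact ⟨c, hc0, by rw [h.neg_one_pow]; linear_combination hc⟩
  -- an antidiagonal form
  let f : (Fin (e + 1) → F) → (Fin (e + 1) → F) → F := fun u v =>
    ∑ a : Fin (e + 1), c * (-1) ^ (a : ℕ) * (u a * v a.rev ^ q)
  have hf : Cfsg.Geo.IsUnitaryFormPow q f := by
    refine ⟨fun u u' v => ?_, fun a u v => ?_, fun u v => ?_, fun v hv => ?_⟩
    · simp [f, add_mul, mul_add, Finset.sum_add_distrib]
    · simp only [f, Finset.mul_sum, Pi.smul_apply, smul_eq_mul]
      exact Finset.sum_congr rfl fun i _ => by ring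
    · simp only [f, sum_pow_q hF, mul_pow, pow_q_q hF, hc, hsgn]
      refine Fintype.sum_equiv Fin.revPerm _ _ fun a => ?_
      rw [Fin.revPerm_apply, Fin.rev_rev, Fin.val_rev]
      have h1 : (-1 : F) ^ e * (-1) ^ (e + 1 - ((a : ℕ) + 1)) = (-1) ^ (a : ℕ) := by
        have h2 : e + (e + 1 - ((a : ℕ) + 1)) = (a : ℕ) + 2 * (e - a) := by omega
        rw [← pow_add, h2, pow_add, pow_mul, neg_one_sq, one_pow, mul_one]
      rw [← h1]
      ring
    · obtain ⟨a, ha⟩ : ∃ a, v a ≠ 0 := Function.ne_iff.mp hv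
      refine ⟨⟨Pi.single a.rev 1, ?_⟩, ⟨Pi.single a.rev 1, ?_⟩⟩
      · show (∑ i : Fin (e + 1), c * (-1) ^ (i : ℕ) * (Pi.single (M := fun _ => F) a.rev 1 i * v i.rev ^ q)) ≠ 0
        rw [Finset.sum_eq_single a.rev (fun i _ hi => by simp [hi]) (by simp), Pi.single_eq_same,
          Fin.rev_rev, one_mul]
        exact mul_ne_zero (mul_ne_zero hc0 (pow_ne_zero _ (neg_ne_zero.mpr one_ne_zero))) (pow_ne_zero q ha)
      · show (∑ i : Fin (e + 1), c * (-1) ^ (i : ℕ) * (v i * Pi.single (M := fun _ => F) a.rev 1 i.rev ^ q)) ≠ 0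
        rw [Finset.sum_eq_single a (fun i _ hi => by
          rw [Pi.single_eq_of_ne (fun h => hi (Fin.rev_injective h)), zero_pow_q hF, mul_zero, mul_zero])
          (by simp), Pi.single_eq_same, one_pow, mul_one]
        exact mul_ne_zero (mul_ne_zero hc0 (pow_ne_zero _ (neg_ne_zero.mpr one_ne_zero))) ha
  let S : Module.End F (Fin (e + 1) → F) :=
    { toFun := fun u => Fin.cons 0 (u ∘ Fin.castSucc)
      map_add' := fun u v => by funext i; refine Fin.cases ?_ (fun i => ?_) i <;> simp
      map_smul' := fun a v => by funext i; refine Fin.cases ?_ (fun i => ?_) i <;> simp }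
  have hskew : ∀ u v, f (S u) v + f u (S v) = 0 := fun u v => by
    show (∑ a : Fin (e + 1), c * (-1) ^ (a : ℕ) * (S u a * v a.rev ^ q)) +
      ∑ a : Fin (e + 1), c * (-1) ^ (a : ℕ) * (u a * S v a.rev ^ q) = 0
    rw [Fin.sum_univ_succ, Fin.sum_univ_castSucc (f := fun a => c * (-1) ^ (a : ℕ) * (u a * S v a.rev ^ q))]
    simp only [S, LinearMap.coe_mk, AddHom.coe_mk, Fin.cons_zero, Fin.cons_succ, Fin.rev_succ, Fin.rev_last,
      Fin.rev_castSucc, Function.comp_apply, Fin.val_succ, Fin.val_castSucc, zero_pow_q hF, mul_zero,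
      zero_mul, zero_add, add_zero, ← Finset.sum_add_distrib]
    exact Finset.sum_eq_zero fun i _ => by ring
  have hlow : ∀ k u (a : Fin (e + 1)), (a : ℕ) < k → (S ^ k) u a = 0 := by
    intro k
    induction k with
    | zero => intro u a h; omega
    | succ k ih =>
      intro u a
      rw [pow_succ', Module.End.mul_apply]
      refine Fin.cases (fun _ => ?_) (fun i hi => ?_) a
      · simp [S]
      · show (S ^ k) u (Fin.castSucc i) = 0
        exact ih u _ (by simp only [Fin.val_succ, Fin.val_castSucc] at *; omega)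
  have hS0 : S ^ (e + 1) = 0 := LinearMap.ext fun u => _root_.funext fun a => hlow _ u a a.2
  have hSe : S ^ e ≠ 0 := fun h => by
    have key : ∀ k (hk : k < e + 1), (S ^ k) (Pi.single 0 1) ⟨k, hk⟩ = 1 := by
      intro k
      induction k with
      | zero => intro hk; simp
      | succ k ih =>
        intro hk
        rw [pow_succ', Module.End.mul_apply, show (⟨k + 1, hk⟩ : Fin (e + 1)) = Fin.succ ⟨k, by omega⟩ from rfl]
        exact ih (by omega)
    have h1 := key e (Nat.lt_succ_self e)
    rw [h, LinearMap.zero_apply] at h1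
    exact zero_ne_one h1
  obtain ⟨w, hw⟩ := IsNilpotent.isUnit_one_sub ⟨e + 1, hS0⟩
  set G : Module.End F (Fin (e + 1) → F) := (1 + S) * (↑w⁻¹ : Module.End F (Fin (e + 1) → F))
  have hGiso : ∀ u v, f (G u) (G v) = f u v := fun u v => by
    have hu : ∀ x, (1 - S) ((↑w⁻¹ : Module.End F (Fin (e + 1) → F)) x) = x := fun x => by
      rw [← hw, ← Module.End.mul_apply, Units.mul_inv, Module.End.one_apply]
    have key : ∀ x y, f ((1 + S) x) ((1 + S) y) = f ((1 - S) x) ((1 - S) y) := fun x y => by
      have h1 : ∀ z, S (-z) = -S z := fun z => map_neg S z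
      simp only [LinearMap.add_apply, LinearMap.sub_apply, Module.End.one_apply]
      simp only [sub_eq_add_neg, hf.add_left, ElusiveUnit.add_right hF hf]
      rw [← neg_one_smul F (S x), ← neg_one_smul F (S y)]
      simp only [hf.smul_left, ElusiveUnit.smul_right hF hf, neg_pow_q hF, one_pow, neg_one_mul, neg_neg]
      linear_combination (2 : F) * hskew x y
    show f ((1 + S) _) ((1 + S) _) = _
    rw [key, hu, hu]
  have hcomm : Commute S (↑w⁻¹ : Module.End F (Fin (e + 1) → F)) := by
    refine Commute.units_inv_right ?_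
    rw [hw]
    exact (Commute.one_right S).sub_right (Commute.refl S)
  have hGN : G - 1 = ((2 : F) • S) * (↑w⁻¹ : Module.End F (Fin (e + 1) → F)) := by
    rw [two_smul]
    conv_lhs => arg 2; rw [← Units.mul_inv w, hw]
    rw [← sub_mul, add_sub_sub_cancel]
  have hGpow : ∀ k, (G - 1) ^ k = ((2 : F) ^ k • S ^ k) * (↑(w⁻¹ ^ k) : Module.End F (Fin (e + 1) → F)) :=
    fun k => by rw [hGN, (hcomm.smul_left (2 : F)).mul_pow, _root_.smul_pow, Units.val_pow_eq_pow_val]
  -- transport to the standard form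
  obtain ⟨b, hb⟩ := ElusiveUnit.exists_onb hF hf
  let L : (Fin (e + 1) → F) ≃ₗ[F] (Fin (e + 1) → F) := b.equivFun.symm
  have hL : ∀ u v, f (L u) (L v) = hermForm (e + 1) F q u v := fun u v => by
    simp only [L, Basis.equivFun_symm_apply, ElusiveUnit.sum_left hf, ElusiveUnit.sum_right hF hf, hb,
      mul_ite, mul_one, mul_zero, Finset.sum_ite_eq, Finset.mem_univ, if_true]
    rfl
  let φ := L.symm.conjAlgEquiv F
  have hφ : ∀ k, (φ G - 1) ^ k = φ ((G - 1) ^ k) := fun k => by rw [map_pow, map_sub, map_one]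
  refine ⟨φ G, fun u v => ?_, ?_, fun h => ?_⟩
  · rw [← hL, ← hL u v]
    simp only [φ, LinearEquiv.conjAlgEquiv_apply, LinearMap.comp_apply, LinearEquiv.coe_coe,
      LinearEquiv.symm_symm, LinearEquiv.apply_symm_apply]
    exact hGiso _ _
  · rw [hφ, hGpow, hS0, smul_zero, zero_mul, map_zero]
  · rw [hφ, map_eq_zero_iff φ φ.injective, hGpow, Units.mul_left_eq_zero] at h
    refine hSe ((smul_eq_zero.mp h).resolve_left (pow_ne_zero e fun h2 => hp2 ?_))
    have := (CharP.cast_eq_zero_iff F p 2).mp (by exact_mod_cast h2)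
    exact (Nat.prime_dvd_prime_iff_eq hp.out Nat.prime_two).mp this

/-- A unipotent isometry for every partition into parts at most `p`. -/
theorem exists_blocks (hF : Fintype.card F = q ^ 2) :
    ∀ μ : Multiset ℕ, (∀ a ∈ μ, 0 < a ∧ a ≤ p) → ∀ n, μ.sum = n →
      ∃ g : Module.End F (Fin n → F), Isometric q g ∧ g ^ p = 1 ∧
        ∀ j, rk (g - 1) ⊤ j = (μ.map fun a => a - j).sum := by
  intro μ
  induction μ using Multiset.induction_on with
  | empty =>
    intro _ n hn
    simp only [Multiset.sum_zero] at hn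
    subst hn
    exact ⟨1, fun u v => rfl, one_pow p, fun j => by
      simp only [Multiset.map_zero, Multiset.sum_zero]
      exact Nat.le_zero.mp ((Submodule.finrank_le _).trans (finrank_fin_fun F).le)⟩
  | cons a μ ih =>
    intro hμ n hn
    rw [Multiset.sum_cons] at hn
    obtain ⟨ha0, hap⟩ := hμ a (Multiset.mem_cons_self a μ)
    obtain ⟨e, rfl⟩ : ∃ e, a = e + 1 := ⟨a - 1, by omega⟩
    obtain ⟨g₁, hg₁, hN₁, hN₁'⟩ := exists_single (p := p) hF hap
    obtain ⟨g₂, hg₂, hg₂p, hrk₂⟩ := ih (fun b hb => hμ b (Multiset.mem_cons_of_mem hb)) _ rfl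
    have hrk₁ := rk_single (N := g₁ - 1) (by rw [finrank_fin_fun]) hN₁ hN₁'
    let σ := finSumFinEquiv.trans (finCongr hn)
    let T : (Fin n → F) ≃ₗ[F] (Fin (e + 1) → F) × (Fin μ.sum → F) :=
      (LinearEquiv.funCongrLeft F F σ).trans (LinearEquiv.sumArrowLequivProdArrow _ _ F F)
    have hT : ∀ u v, hermForm n F q u v =
        hermForm (e + 1) F q (T u).1 (T v).1 + hermForm μ.sum F q (T u).2 (T v).2 := fun u v => by
      unfold hermForm
      rw [← σ.sum_comp fun i => u i * v i ^ q, Fintype.sum_sum_type]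
      rfl
    let φ := T.symm.conjAlgEquiv F
    let g := φ (LinearMap.prodMap g₁ g₂)
    have hgT : ∀ v, T (g v) = (g₁ (T v).1, g₂ (T v).2) := fun v => by
      simp [g, φ, LinearEquiv.conjAlgEquiv_apply]
    have hsub : g - 1 = φ (LinearMap.prodMap (g₁ - 1) (g₂ - 1)) := by
      rw [show LinearMap.prodMap (g₁ - 1) (g₂ - 1) =
        (LinearMap.prodMap g₁ g₂ : Module.End F ((Fin (e + 1) → F) × (Fin μ.sum → F))) - 1 from rfl, map_sub, map_one]
    have hpp : ∀ k, (LinearMap.prodMap (g₁ - 1) (g₂ - 1) : Module.End F _) ^ k =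
        LinearMap.prodMap ((g₁ - 1) ^ k) ((g₂ - 1) ^ k) := fun k => by
      induction k with
      | zero => rfl
      | succ k ih' => rw [pow_succ, ih', pow_succ, pow_succ]; rfl
    refine ⟨g, fun u v => by rw [hT, hgT, hgT, hg₁, hg₂, hT u v], ?_, fun j => ?_⟩
    · rw [pow_eq_one_iff_sub, hsub, ← map_pow, hpp, (pow_eq_one_iff_sub g₂).mp hg₂p,
        show (g₁ - 1) ^ p = 0 by rw [← Nat.add_sub_cancel' hap, pow_add, hN₁, zero_mul]]
      exact map_zero φ
    · rw [Multiset.map_cons, Multiset.sum_cons, ← hrk₁, ← hrk₂, rk, rk, rk, Submodule.map_top,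
        Submodule.map_top, Submodule.map_top, hsub, ← map_pow, hpp]
      show finrank F (LinearMap.range (T.symm.toLinearMap ∘ₗ
        (((g₁ - 1) ^ j).prodMap ((g₂ - 1) ^ j)) ∘ₗ T.symm.symm.toLinearMap)) = _
      rw [LinearEquiv.symm_symm, ← LinearMap.comp_assoc, LinearEquiv.range_comp, LinearMap.range_comp,
        LinearEquiv.finrank_map_eq, LinearMap.range_prodMap]
      rw [LinearEquiv.finrank_eq
        { toFun := fun x => ((⟨x.1.1, x.2.1⟩, ⟨x.1.2, x.2.2⟩) :
            LinearMap.range ((g₁ - 1) ^ j) × LinearMap.range ((g₂ - 1) ^ j))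
          map_add' := fun _ _ => rfl
          map_smul' := fun _ _ => rfl
          invFun := fun x => ⟨(x.1.1, x.2.1), x.1.2, x.2.2⟩
          left_inv := fun _ => rfl
          right_inv := fun _ => rfl }, Module.finrank_prod]

end Blocks

end Cfsg.Agent.Lib.Elusive.UnitUnipotent
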